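import Cfsg.Agent.Char.Ker

/-!
# Clifford theory for a normal embedding `f : H →* G`
-/

set_option autoImplicit false

open scoped ComplexConjugate
open Cfsg

namespace CA.Chr

section Defs

variable {G H : Type*} [Group G] [Group H]

/-- `f` is injective with normal image. -/
class NormalInj (f : H →* G) : Prop where
  inj : Function.Injective f
  normal : f.range.Normal

instance NormalInj.instSubtype (N : Subgroup G) [h : N.Normal] : NormalInj N.subtype :=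
  ⟨N.subtype_injective, by rwa [Subgroup.range_subtype]⟩

instance NormalInj.instInclusion {A B : Subgroup G} (h : A ≤ B) [hn : (A.subgroupOf B).Normal] :
    NormalInj (Subgroup.inclusion h) :=
  ⟨Subgroup.inclusion_injective h, by rwa [Subgroup.inclusion_range]⟩

instance NormalInj.instRangeNormal (f : H →* G) [h : NormalInj f] : f.range.Normal := h.normal

theorem normalInj_inclusion {A B : Subgroup G} (h : A ≤ B)
    (hn : B ≤ Subgroup.normalizer (A : Set G)) : NormalInj (Subgroup.inclusion h) :=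
  haveI : (A.subgroupOf B).Normal := (Subgroup.normal_subgroupOf_iff_le_normalizer h).mpr hn
  inferInstance

theorem NormalInj.of_comp {T : Type*} [Group T] (i : H →* T) (j : T →* G)
    (hj : Function.Injective j) [h : NormalInj (j.comp i)] : NormalInj i := by
  refine ⟨Function.Injective.of_comp (f := j) h.inj, ⟨?_⟩⟩
  rintro _ ⟨x, rfl⟩ t
  obtain ⟨y, hy⟩ := h.normal.conj_mem _ ⟨x, rfl⟩ (j t)
  exact ⟨y, hj (by simpa using hy)⟩

/-- the conjugation action of `G` on `H` -/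
noncomputable def cj (f : H →* G) [h : NormalInj f] : G →* MulAut H :=
  (MulAut.congr (MonoidHom.ofInjective h.inj).symm).toMonoidHom.comp
    (MulAut.conjNormal (H := f.range))

variable (f : H →* G) [hf : NormalInj f]

theorem f_cj (g : G) (x : H) : f (cj f g x) = g * f x * g⁻¹ := by
  have : ∀ y : f.range, f ((MonoidHom.ofInjective hf.inj).symm y) = y := fun y =>
    MonoidHom.apply_ofInjective_symm hf.inj y
  exact this _

theorem cj_eq_iff {g : G} {x y : H} : cj f g x = y ↔ g * f x * g⁻¹ = f y := by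
  rw [← f_cj f, hf.inj.eq_iff]

theorem cj_self (y x : H) : cj f (f y) x = y * x * y⁻¹ := by
  rw [cj_eq_iff]; simp

theorem cj_subtype (N : Subgroup G) [hN : N.Normal] (g : G) (x : N) :
    cj N.subtype g x = ⟨g * x * g⁻¹, hN.conj_mem x x.2 g⟩ := by
  rw [cj_eq_iff]; rfl

theorem cj_subtype_eq (N : Subgroup G) [hN : N.Normal] (g : G) :
    cj N.subtype g = MulAut.conjNormal g := by
  ext x; rw [cj_subtype]; rfl

@[simp] theorem coe_cj_subtype (N : Subgroup G) [hN : N.Normal] (g : G) (x : N) :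
    (cj N.subtype g x : G) = g * x * g⁻¹ := f_cj N.subtype g x

@[simp] theorem coe_cj_inclusion {A B : Subgroup G} (h : A ≤ B) [NormalInj (Subgroup.inclusion h)]
    (g : B) (x : A) : (cj (Subgroup.inclusion h) g x : G) = g * x * (g : G)⁻¹ :=
  congrArg Subtype.val (f_cj (Subgroup.inclusion h) g x)

theorem comp_cj_subtype (N : Subgroup G) [hN : N.Normal] (θ : N → ℂ) (g : G) :
    θ ∘ cj N.subtype g = fun x : N => θ ⟨g * x * g⁻¹, hN.conj_mem x x.2 g⟩ := by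
  ext x; simp [cj_subtype]

theorem cj_comp {T : Type*} [Group T] (i : H →* T) [NormalInj i] (j : T →* G)
    [NormalInj (j.comp i)] (t : T) : cj (j.comp i) (j t) = cj i t := by
  ext x
  rw [cj_eq_iff]
  simp [f_cj]

theorem cj_comp_apply {T : Type*} [Group T] (i : H →* T) (j : T →* G) [NormalInj j]
    [NormalInj (j.comp i)] (g : G) (x : H) : i (cj (j.comp i) g x) = cj j g (i x) := by
  symm
  rw [cj_eq_iff]
  exact (f_cj (j.comp i) g x).symm

theorem comp_cj_mul (θ : H → ℂ) (a b : G) : θ ∘ cj f (a * b) = (θ ∘ cj f a) ∘ cj f b := by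
  ext x; simp

@[simp] theorem comp_cj_one (θ : H → ℂ) : θ ∘ cj f 1 = θ := by
  ext x; simp

theorem comp_cj_inv (θ : H → ℂ) (a : G) : (θ ∘ cj f a) ∘ cj f a⁻¹ = θ := by
  rw [← comp_cj_mul, mul_inv_cancel, comp_cj_one]

theorem comp_cj_inv' (θ : H → ℂ) (a : G) : (θ ∘ cj f a⁻¹) ∘ cj f a = θ := by
  rw [← comp_cj_mul, inv_mul_cancel, comp_cj_one]

theorem comp_cj_self {θ : H → ℂ} (hθ : θ ∈ CF H) (y : H) : θ ∘ cj f (f y) = θ := by
  ext x; simp [cj_self, CF_conj hθ]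

theorem res_comp_cj {χ : G → ℂ} (hχ : χ ∈ CF G) (g : G) : (χ ∘ f) ∘ cj f g = χ ∘ f := by
  ext x; simp [f_cj, CF_conj hχ]

theorem CF_cj {θ : H → ℂ} (hθ : θ ∈ CF H) (g : G) : θ ∘ cj f g ∈ CF H :=
  CF_comp hθ (cj f g).toMonoidHom

theorem IsChar.cj {θ : H → ℂ} (hθ : IsCharacter H θ) (g : G) : IsCharacter H (θ ∘ cj f g) :=
  IsChar.comp hθ (CA.Chr.cj f g).toMonoidHom

theorem ZIrr.cj {θ : H → ℂ} (hθ : θ ∈ ZIrr H) (g : G) : θ ∘ cj f g ∈ ZIrr H :=
  ZIrr.comp hθ (CA.Chr.cj f g).toMonoidHom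

theorem comp_cj_apply_one (θ : H → ℂ) (g : G) : θ (cj f g 1) = θ 1 := by simp

theorem deg_cj (θ : H → ℂ) (g : G) : deg (θ ∘ cj f g) = deg θ := by simp [deg]

theorem comp_cj_eq_one_iff (θ : H → ℂ) (g : G) : θ ∘ cj f g = 1 ↔ θ = 1 := by
  constructor
  · intro h
    rw [← comp_cj_inv f θ g, h]; rfl
  · rintro rfl; rfl

/-- The inertia group. -/
def inertia (θ : H → ℂ) : Subgroup G where
  carrier := {g | θ ∘ cj f g = θ}
  mul_mem' {a b} ha hb := by
    simp only [Set.mem_setOf_eq] at *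
    rw [comp_cj_mul, ha, hb]
  one_mem' := comp_cj_one f θ
  inv_mem' {a} ha := by
    simp only [Set.mem_setOf_eq] at *
    conv_lhs => rw [← ha]
    exact comp_cj_inv f θ a

theorem mem_inertia {θ : H → ℂ} {g : G} : g ∈ inertia f θ ↔ θ ∘ cj f g = θ := Iff.rfl

theorem range_le_inertia {θ : H → ℂ} (hθ : θ ∈ CF H) : f.range ≤ inertia f θ := by
  rintro _ ⟨y, rfl⟩
  exact comp_cj_self f hθ y

theorem le_inertia_subtype (N : Subgroup G) [N.Normal] {θ : N → ℂ} (hθ : θ ∈ CF N) :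
    N ≤ inertia N.subtype θ := by
  simpa using range_le_inertia N.subtype hθ

theorem inertia_res {χ : G → ℂ} (hχ : χ ∈ CF G) : inertia f (χ ∘ f) = ⊤ :=
  eq_top_iff.mpr fun g _ => res_comp_cj f hχ g

theorem inertia_comp {T : Type*} [Group T] (i : H →* T) [NormalInj i] (j : T →* G)
    [NormalInj (j.comp i)] (θ : H → ℂ) : inertia i θ = (inertia (j.comp i) θ).comap j := by
  ext t
  rw [Subgroup.mem_comap, mem_inertia, mem_inertia, cj_comp]

theorem mem_inertia_of_centralizes {θ : H → ℂ} {g : G} (hg : ∀ x, g * f x = f x * g) :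
    g ∈ inertia f θ := by
  rw [mem_inertia]
  ext x
  have : cj f g x = x := by rw [cj_eq_iff, hg]; simp
  simp [this]

theorem inertia_conjFun (θ : H → ℂ) : inertia f (conjFun θ) = inertia f θ := by
  ext g
  rw [mem_inertia, mem_inertia, ← conjFun_comp, conjFun_inj]

theorem comp_cj_eq_iff (θ : H → ℂ) (a b : G) :
    θ ∘ cj f a = θ ∘ cj f b ↔ a * b⁻¹ ∈ inertia f θ := by
  rw [mem_inertia, comp_cj_mul]
  constructor
  · intro h; rw [h, comp_cj_inv]
  · intro h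
    rw [← comp_cj_inv' f (θ ∘ cj f a) b, h]

theorem cfker_cj (θ : H → ℂ) (g : G) :
    cfker (θ ∘ cj f g) = (cfker θ).comap (cj f g).toMonoidHom :=
  cfker_comp_surj θ (cj f g).toMonoidHom (cj f g).surjective

theorem comap_le_cfker_cj {A : Subgroup G} [hA : A.Normal] {θ : H → ℂ} (h : A.comap f ≤ cfker θ)
    (g : G) : A.comap f ≤ cfker (θ ∘ cj f g) := by
  rw [cfker_cj]
  intro x hx
  apply h
  change f (cj f g x) ∈ A
  rw [f_cj]
  exact hA.conj_mem _ hx g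

end Defs

variable {G H : Type*} [Group G] [Finite G] [Group H] [Finite H] (f : H →* G) [hf : NormalInj f]

omit [Finite G] in
theorem IsIrr.cj {θ : H → ℂ} (hθ : IsIrrCharacter H θ) (g : G) :
    IsIrrCharacter H (θ ∘ cj f g) := IsIrr.comp_equiv hθ (CA.Chr.cj f g)

omit [Finite G] in
theorem dot_cj (θ φ : H → ℂ) (g : G) : ⟪θ ∘ cj f g, φ ∘ cj f g⟫ = ⟪θ, φ⟫ :=
  dot_comp_mulEquiv (cj f g) θ φ

omit [Finite G] in
theorem dot_res_cj {χ : G → ℂ} (hχ : χ ∈ CF G) (θ : H → ℂ) (g : G) :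
    ⟪χ ∘ f, θ ∘ cj f g⟫ = ⟪χ ∘ f, θ⟫ := by
  rw [← dot_cj f (χ ∘ f) θ g, res_comp_cj f hχ]

theorem ind_cj (θ : H → ℂ) (g : G) : ind f (θ ∘ cj f g) = ind f θ := by
  apply CF_ext (ind_mem_CF _ _) (ind_mem_CF _ _)
  intro χ hχ
  have := IsIrr.mem_CF hχ
  rw [frob_rec _ _ this, frob_rec _ _ this, ← conj_dot, dot_res_cj f this, conj_dot]

theorem ind_eq_zero_of_not_mem (θ : H → ℂ) {g : G} (hg : g ∉ f.range) : ind f θ g = 0 := by
  apply ind_eq_zero
  intro x hx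
  obtain ⟨c, rfl⟩ := isConj_iff.mp hx
  exact absurd (hf.normal.conj_mem _ ⟨x, rfl⟩ c) hg

theorem ind_subtype_eq_zero (N : Subgroup G) [N.Normal] (θ : N → ℂ) {g : G} (hg : g ∉ N) :
    ind N.subtype θ g = 0 :=
  ind_eq_zero_of_not_mem _ θ (by rwa [Subgroup.range_subtype])

theorem ind_apply_normal [Fintype G] (θ : H → ℂ) (x : H) :
    ind f θ (f x) = (Nat.card H : ℂ)⁻¹ * ∑ g : G, θ (cj f g x) := by
  rw [ind_apply_inj hf.inj]
  congr 1
  refine Fintype.sum_equiv (Equiv.inv G) _ _ fun g => ?_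
  have := f_cj f g⁻¹ x
  rw [inv_inv] at this
  rw [← this, hf.inj.extend_apply]
  rfl

theorem res_ind_sum [Fintype G] (θ : H → ℂ) :
    ind f θ ∘ f = (Nat.card H : ℂ)⁻¹ • ∑ g : G, θ ∘ cj f g := by
  ext x
  simp [ind_apply_normal]

open Classical in
/-- The set of `G`-conjugates of `θ`. -/
noncomputable def cfclass (θ : H → ℂ) : Finset (H → ℂ) :=
  (Set.finite_range fun g : G => θ ∘ cj f g).toFinset

omit [Finite H] in
theorem mem_cfclass {θ φ : H → ℂ} : φ ∈ cfclass f θ ↔ ∃ g : G, θ ∘ cj f g = φ := by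
  simp [cfclass]

omit [Finite H] in
theorem self_mem_cfclass (θ : H → ℂ) : θ ∈ cfclass f θ := (mem_cfclass f).mpr ⟨1, by simp⟩

omit [Finite H] in
theorem cj_mem_cfclass (θ : H → ℂ) (g : G) : θ ∘ cj f g ∈ cfclass f θ :=
  (mem_cfclass f).mpr ⟨g, rfl⟩

omit [Finite H] in
theorem cfclass_symm {θ φ : H → ℂ} (h : φ ∈ cfclass f θ) : θ ∈ cfclass f φ := by
  obtain ⟨g, rfl⟩ := (mem_cfclass f).mp h
  exact (mem_cfclass f).mpr ⟨g⁻¹, comp_cj_inv f θ g⟩

omit [Finite H] in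
theorem cfclass_trans {θ φ ψ : H → ℂ} (h : φ ∈ cfclass f θ) (h' : ψ ∈ cfclass f φ) :
    ψ ∈ cfclass f θ := by
  obtain ⟨g, rfl⟩ := (mem_cfclass f).mp h
  obtain ⟨g', rfl⟩ := (mem_cfclass f).mp h'
  exact (mem_cfclass f).mpr ⟨g * g', comp_cj_mul f θ g g'⟩

omit [Finite H] in
theorem cfclass_eq {θ φ : H → ℂ} (h : φ ∈ cfclass f θ) : cfclass f φ = cfclass f θ := by
  ext ψ
  exact ⟨cfclass_trans f h, cfclass_trans f (cfclass_symm f h)⟩

theorem irr_of_mem_cfclass {θ φ : H → ℂ} (hθ : IsIrrCharacter H θ) (h : φ ∈ cfclass f θ) :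
    IsIrrCharacter H φ := by
  obtain ⟨g, rfl⟩ := (mem_cfclass f).mp h
  exact IsIrr.cj f hθ g

omit [Finite H] in
theorem apply_one_of_mem_cfclass {θ φ : H → ℂ} (h : φ ∈ cfclass f θ) : φ 1 = θ 1 := by
  obtain ⟨g, rfl⟩ := (mem_cfclass f).mp h
  simp

theorem ind_eq_of_mem_cfclass {θ φ : H → ℂ} (h : φ ∈ cfclass f θ) : ind f φ = ind f θ := by
  obtain ⟨g, rfl⟩ := (mem_cfclass f).mp h
  exact ind_cj f θ g

omit [Finite H] in
theorem sum_cj_eq [Fintype G] (θ : H → ℂ) {M : Type*} [AddCommMonoid M] (F : (H → ℂ) → M) :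
    ∑ g : G, F (θ ∘ cj f g) = Nat.card (inertia f θ) • ∑ φ ∈ cfclass f θ, F φ := by
  classical
  rw [← Finset.sum_fiberwise_of_maps_to (s := Finset.univ) (t := cfclass f θ)
    (g := fun g => θ ∘ cj f g) (fun g _ => cj_mem_cfclass f θ g), Finset.smul_sum]
  refine Finset.sum_congr rfl fun φ hφ => ?_
  obtain ⟨b, rfl⟩ := (mem_cfclass f).mp hφ
  rw [Finset.sum_congr rfl (g := fun _ => F (θ ∘ cj f b))
    (fun h hh => by rw [(Finset.mem_filter.mp hh).2]), Finset.sum_const]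
  congr 1
  rw [← Fintype.card_subtype, ← Nat.card_eq_fintype_card]
  exact Nat.card_congr (Equiv.subtypeEquiv (Equiv.mulRight b⁻¹) fun a => comp_cj_eq_iff f θ a b)

omit [Finite H] in
theorem card_cfclass (θ : H → ℂ) : (cfclass f θ).card = (inertia f θ).index := by
  cases nonempty_fintype G
  have := sum_cj_eq f θ (fun _ => (1 : ℕ))
  simp only [Finset.sum_const, Finset.card_univ, smul_eq_mul, mul_one,
    ← Nat.card_eq_fintype_card] at this
  rw [← Subgroup.card_mul_index (inertia f θ)] at this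
  exact (mul_left_cancel₀ Nat.card_pos.ne' this).symm

omit [Finite G] [Finite H] in
theorem card_inertia {θ : H → ℂ} (hθ : θ ∈ CF H) :
    Nat.card (inertia f θ) = Nat.card H * f.range.relIndex (inertia f θ) := by
  rw [Nat.card_congr (MonoidHom.ofInjective hf.inj).toEquiv,
    ← Nat.card_congr (Subgroup.subgroupOfEquivOfLe (range_le_inertia f hθ)).toEquiv,
    Subgroup.relIndex, Subgroup.card_mul_index]

/-- Peterfalvi (1.5)(a) -/
theorem res_ind {θ : H → ℂ} (hθ : θ ∈ CF H) :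
    ind f θ ∘ f = (f.range.relIndex (inertia f θ) : ℂ) • ∑ φ ∈ cfclass f θ, φ := by
  cases nonempty_fintype G
  rw [res_ind_sum, sum_cj_eq f θ (fun φ => φ), card_inertia f hθ, ← Nat.cast_smul_eq_nsmul ℂ,
    smul_smul]
  congr 1
  push_cast
  rw [← mul_assoc, inv_mul_cancel₀ card_ne_zero, one_mul]

theorem res_ind_of_invariant {θ : H → ℂ} (hθ : inertia f θ = ⊤) :
    ind f θ ∘ f = (f.range.index : ℂ) • θ := by
  cases nonempty_fintype G
  have : ∀ g, θ ∘ cj f g = θ := fun g => (mem_inertia f).mp (hθ ▸ Subgroup.mem_top g)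
  rw [res_ind_sum]
  simp only [this, Finset.sum_const, Finset.card_univ, ← Nat.card_eq_fintype_card]
  rw [← card_mul_index_range hf.inj, ← Nat.cast_smul_eq_nsmul ℂ, smul_smul]
  congr 1
  push_cast
  rw [← mul_assoc, inv_mul_cancel₀ card_ne_zero, one_mul]

theorem dot_sum_cfclass {θ φ : H → ℂ} (hθ : IsIrrCharacter H θ) (hφ : IsIrrCharacter H φ)
    [Decidable (φ ∈ cfclass f θ)] :
    ⟪∑ ψ ∈ cfclass f θ, ψ, φ⟫ = if φ ∈ cfclass f θ then 1 else 0 := by
  classical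
  rw [dot_sum_left, Finset.sum_congr rfl
    (fun ψ hψ => IsIrr.dot_eq (irr_of_mem_cfclass f hθ hψ) hφ), Finset.sum_ite_eq']
  congr

theorem dot_ind_ind {θ φ : H → ℂ} (hθ : IsIrrCharacter H θ) (hφ : IsIrrCharacter H φ)
    [Decidable (φ ∈ cfclass f θ)] :
    ⟪ind f θ, ind f φ⟫ =
      if φ ∈ cfclass f θ then (f.range.relIndex (inertia f θ) : ℂ) else 0 := by
  rw [frob_rec' _ _ (ind_mem_CF _ _), res_ind f (IsIrr.mem_CF hθ), dot_smul_left,
    dot_sum_cfclass f hθ hφ]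
  split_ifs <;> simp

/-- Peterfalvi (1.5)(b) -/
theorem dot_ind_self {θ : H → ℂ} (hθ : IsIrrCharacter H θ) :
    ⟪ind f θ, ind f θ⟫ = f.range.relIndex (inertia f θ) := by
  classical
  rw [dot_ind_ind f hθ hθ, if_pos (self_mem_cfclass f θ)]

theorem nrm_ind {θ : H → ℂ} (hθ : IsIrrCharacter H θ) :
    nrm (ind f θ) = f.range.relIndex (inertia f θ) :=
  nrm_eq_of_dot (by rw [dot_ind_self f hθ]; simp)

theorem dot_ind_of_not_mem {θ φ : H → ℂ} (hθ : IsIrrCharacter H θ) (hφ : IsIrrCharacter H φ)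
    (h : φ ∉ cfclass f θ) : ⟪ind f θ, ind f φ⟫ = 0 := by
  classical
  rw [dot_ind_ind f hθ hφ, if_neg h]

theorem dot_ind_of_ne {θ φ : H → ℂ} (hθ : IsIrrCharacter H θ) (hφ : IsIrrCharacter H φ)
    (h : ind f θ ≠ ind f φ) : ⟪ind f θ, ind f φ⟫ = 0 :=
  dot_ind_of_not_mem f hθ hφ fun h' => h (ind_eq_of_mem_cfclass f h').symm

theorem ind_eq_iff {θ φ : H → ℂ} (hθ : IsIrrCharacter H θ) (hφ : IsIrrCharacter H φ) :
    ind f θ = ind f φ ↔ φ ∈ cfclass f θ := by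
  refine ⟨fun h => ?_, fun h => (ind_eq_of_mem_cfclass f h).symm⟩
  by_contra h'
  have := dot_ind_of_not_mem f hθ hφ h'
  rw [← h, dot_self_eq_zero] at this
  exact ind_ne_zero hf.inj (IsIrr.deg_ne_zero hθ) this

theorem ind_irr_of_inertia_le {θ : H → ℂ} (hθ : IsIrrCharacter H θ) (h : inertia f θ ≤ f.range) :
    IsIrrCharacter G (ind f θ) :=
  IsChar.irr_of_dot_self (IsChar.ind (IsIrr.isChar hθ) f)
    (by rw [dot_ind_self f hθ, Subgroup.relIndex_eq_one.mpr h, Nat.cast_one])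

theorem inertia_le_of_ind_irr {θ : H → ℂ} (hθ : IsIrrCharacter H θ)
    (h : IsIrrCharacter G (ind f θ)) : inertia f θ ≤ f.range := by
  have := IsIrr.dot_self h
  rw [dot_ind_self f hθ, Nat.cast_eq_one] at this
  exact Subgroup.relIndex_eq_one.mp this

omit [Finite H] hf in
theorem IsChar.dot_eq_zero_or {a b χ : G → ℂ} (ha : IsCharacter G a) (hb : IsCharacter G b)
    (hab : ⟪a, b⟫ = 0) (hχ : IsIrrCharacter G χ) : ⟪a, χ⟫ = 0 ∨ ⟪b, χ⟫ = 0 := by
  by_contra h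
  push Not at h
  obtain ⟨n, hn⟩ := IsChar.dot_nat (IsChar.sub_irr' ha hχ h.1) hb
  obtain ⟨m, hm⟩ := IsChar.dot_nat (IsIrr.isChar hχ) hb
  rw [dot_sub_left, hab, hm, zero_sub, neg_eq_iff_add_eq_zero] at hn
  have : m + n = 0 := by exact_mod_cast hn
  have hm0 : m = 0 := by omega
  rw [hm0, Nat.cast_zero] at hm
  exact h.2 (dot_comm_zero hm)

theorem mem_cfclass_of_constt {χ : G → ℂ} (hχ : IsIrrCharacter G χ) {θ φ : H → ℂ}
    (hθ : IsIrrCharacter H θ) (hφ : IsIrrCharacter H φ) (h : ⟪χ ∘ f, θ⟫ ≠ 0)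
    (h' : ⟪χ ∘ f, φ⟫ ≠ 0) : φ ∈ cfclass f θ := by
  by_contra hn
  have := IsChar.dot_eq_zero_or (IsChar.ind (IsIrr.isChar hθ) f) (IsChar.ind (IsIrr.isChar hφ) f)
    (dot_ind_of_not_mem f hθ hφ hn) hχ
  rw [frob_rec _ _ (IsIrr.mem_CF hχ), frob_rec _ _ (IsIrr.mem_CF hχ)] at this
  rcases this with e | e
  exacts [h (dot_comm_zero e), h' (dot_comm_zero e)]

/-- Clifford's theorem -/
theorem clifford {χ : G → ℂ} (hχ : IsIrrCharacter G χ) {θ : H → ℂ} (hθ : IsIrrCharacter H θ)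
    (h : ⟪χ ∘ f, θ⟫ ≠ 0) : χ ∘ f = ⟪χ ∘ f, θ⟫ • ∑ φ ∈ cfclass f θ, φ := by
  classical
  apply CF_ext (CF_comp (IsIrr.mem_CF hχ) f)
  · exact Subalgebra.smul_mem _ (sum_mem fun φ hφ => IsIrr.mem_CF (irr_of_mem_cfclass f hθ hφ)) _
  intro φ hφ
  rw [dot_smul_left, dot_sum_cfclass f hθ hφ]
  split_ifs with e
  · obtain ⟨g, rfl⟩ := (mem_cfclass f).mp e
    rw [dot_res_cj f (IsIrr.mem_CF hχ), mul_one]
  · rw [mul_zero]
    by_contra h'
    exact e (mem_cfclass_of_constt f hχ hθ hφ h h')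

theorem clifford_deg {χ : G → ℂ} (hχ : IsIrrCharacter G χ) {θ : H → ℂ} (hθ : IsIrrCharacter H θ)
    (h : ⟪χ ∘ f, θ⟫ ≠ 0) : χ 1 = ⟪χ ∘ f, θ⟫ * (inertia f θ).index * θ 1 := by
  have := congrFun (clifford f hχ hθ h) 1
  simp only [Function.comp_apply, map_one, Pi.smul_apply, Finset.sum_apply, smul_eq_mul] at this
  rw [this, Finset.sum_congr rfl (fun φ hφ => apply_one_of_mem_cfclass f hφ), Finset.sum_const,
    card_cfclass, nsmul_eq_mul, mul_assoc]

theorem clifford_deg_dvd {χ : G → ℂ} (hχ : IsIrrCharacter G χ) {θ : H → ℂ}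
    (hθ : IsIrrCharacter H θ) (h : ⟪χ ∘ f, θ⟫ ≠ 0) : (inertia f θ).index * deg θ ∣ deg χ := by
  obtain ⟨e, he⟩ := IsChar.dot_nat (IsChar.comp (IsIrr.isChar hχ) f) (IsIrr.isChar hθ)
  have := clifford_deg f hχ hθ h
  rw [he, ← IsIrr.coe_deg hχ, ← IsIrr.coe_deg hθ] at this
  exact ⟨e, by have : deg χ = e * (inertia f θ).index * deg θ := by exact_mod_cast this
               rw [this]; ring⟩

theorem clifford_invariant {χ : G → ℂ} (hχ : IsIrrCharacter G χ) {θ : H → ℂ}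
    (hθ : IsIrrCharacter H θ) (h : ⟪χ ∘ f, θ⟫ ≠ 0) (hI : inertia f θ = ⊤) :
    χ ∘ f = ⟪χ ∘ f, θ⟫ • θ := by
  have h1 : cfclass f θ = {θ} := by
    ext φ
    rw [mem_cfclass, Finset.mem_singleton]
    constructor
    · rintro ⟨g, rfl⟩; exact (mem_inertia f).mp (hI ▸ Subgroup.mem_top g)
    · rintro rfl; exact ⟨1, by simp⟩
  have := clifford f hχ hθ h
  rwa [h1, Finset.sum_singleton] at this

theorem range_le_cfker_iff {χ : G → ℂ} (hχ : IsIrrCharacter G χ) :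
    f.range ≤ cfker χ ↔ ⟪χ ∘ f, 1⟫ ≠ 0 := by
  constructor
  · intro h
    have : χ ∘ f = χ 1 • (1 : H → ℂ) := by
      ext x; simpa using cfker_apply (h ⟨x, rfl⟩)
    rw [this, dot_smul_left, dot_one_one, mul_one]
    exact IsIrr.deg_ne_zero hχ
  · intro h
    have h1 := clifford_invariant f hχ one_irr h (eq_top_iff.mpr fun _ _ => rfl)
    rintro _ ⟨x, rfl⟩
    rw [IsIrr.mem_cfker hχ]
    have e1 := congrFun h1 x
    have e2 := congrFun h1 1
    simp only [Function.comp_apply, map_one, Pi.smul_apply, Pi.one_apply] at e1 e2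
    rw [e1, e2]

theorem exists_constt_res_ne_one {χ : G → ℂ} (hχ : IsIrrCharacter G χ)
    (h : ¬ f.range ≤ cfker χ) : ∃ θ, IsIrrCharacter H θ ∧ θ ≠ 1 ∧ ⟪χ ∘ f, θ⟫ ≠ 0 := by
  obtain ⟨θ, hθ, h'⟩ := exists_constt_res f hχ
  refine ⟨θ, hθ, ?_, h'⟩
  rintro rfl
  exact h ((range_le_cfker_iff f hχ).mpr h')

/-- Peterfalvi (1.6)(a) for restriction -/
theorem le_cfker_iff_constt {A : Subgroup G} [A.Normal] (hA : A ≤ f.range) {χ : G → ℂ}
    (hχ : IsIrrCharacter G χ) {θ : H → ℂ} (hθ : IsIrrCharacter H θ) (h : ⟪χ ∘ f, θ⟫ ≠ 0) :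
    A ≤ cfker χ ↔ A.comap f ≤ cfker θ := by
  constructor
  · intro h1
    refine le_trans ?_ (cfker_le_constt (CF_comp (IsIrr.mem_CF hχ) f) hθ h)
    exact (Subgroup.comap_mono h1).trans (comap_cfker_le χ f)
  · intro h1 a ha
    obtain ⟨x, rfl⟩ := hA ha
    rw [← Subgroup.mem_comap, ← IsChar.cfker_comp (IsIrr.isChar hχ), clifford f hχ hθ h]
    apply cfker_le_smul
    apply mem_cfker_sum
    intro φ hφ
    obtain ⟨g, rfl⟩ := (mem_cfclass f).mp hφ
    exact comap_le_cfker_cj f h1 g ha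

/-- Peterfalvi (1.6)(a) -/
theorem le_cfker_ind_iff {A : Subgroup G} [A.Normal] (hA : A ≤ f.range) {θ : H → ℂ}
    (hθ : IsIrrCharacter H θ) : A ≤ cfker (ind f θ) ↔ A.comap f ≤ cfker θ := by
  constructor
  · intro h1
    obtain ⟨χ, hχ, h⟩ := exists_constt_ind hf.inj hθ
    rw [← le_cfker_iff_constt f hA hχ hθ h]
    refine h1.trans (cfker_le_constt (ind_mem_CF _ _) hχ ?_)
    rw [frob_rec _ _ (IsIrr.mem_CF hχ)]
    exact fun e => h (dot_comm_zero e)
  · intro h1 a ha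
    apply mem_cfker_of_constt (ind_mem_CF _ _)
    intro χ hχ h
    rw [frob_rec _ _ (IsIrr.mem_CF hχ)] at h
    exact (le_cfker_iff_constt f hA hχ hθ (fun e => h (dot_comm_zero e))).mpr h1 ha

omit hf in
/-- a normal subgroup inside the image whose preimage is in the kernel of `θ` is in the kernel of
the induced function (no normality of the image needed) -/
theorem le_cfker_ind {A : Subgroup G} [hn : A.Normal] (hA : A ≤ f.range) {θ : H → ℂ}
    (hinj : Function.Injective f) (h : A.comap f ≤ cfker θ) : A ≤ cfker (ind f θ) := by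
  classical
  cases nonempty_fintype G
  intro a ha x
  rw [ind_apply_inj hinj, ind_apply_inj hinj]
  congr 1
  refine Finset.sum_congr rfl fun y _ => ?_
  obtain ⟨b, hb⟩ := hA (hn.conj_mem' a ha y)
  have e : y⁻¹ * (a * x) * y = f b * (y⁻¹ * x * y) := by rw [hb]; group
  rw [e]
  by_cases hx : ∃ z, f z = y⁻¹ * x * y
  · obtain ⟨z, hz⟩ := hx
    rw [← hz, ← map_mul, hinj.extend_apply, hinj.extend_apply]
    apply h
    change f b ∈ A
    rw [hb]; exact hn.conj_mem' a ha y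
  · rw [Function.extend_apply' _ _ _ hx, Function.extend_apply']
    · rfl
    · rintro ⟨z, hz⟩
      exact hx ⟨b⁻¹ * z, by rw [map_mul, hz]; simp⟩

theorem cfker_ind_le_range {θ : H → ℂ} (h : θ 1 ≠ 0) : cfker (ind f θ) ≤ f.range := by
  intro g hg
  by_contra hn
  have := cfker_apply hg
  rw [ind_eq_zero_of_not_mem f θ hn, ind_one hf.inj] at this
  exact mul_ne_zero (Nat.cast_ne_zero.mpr Subgroup.index_ne_zero_of_finite) h this.symm

theorem ind_one_apply (g : G) [Decidable (g ∈ f.range)] :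
    ind f 1 g = if g ∈ f.range then (f.range.index : ℂ) else 0 := by
  split_ifs with h
  · obtain ⟨x, rfl⟩ := h
    have := congrFun (res_ind_of_invariant f (θ := 1) (eq_top_iff.mpr fun _ _ => rfl)) x
    simpa using this
  · exact ind_eq_zero_of_not_mem f 1 h

omit hf in
theorem ind_res {χ : G → ℂ} (hχ : χ ∈ CF G) : ind f (χ ∘ f) = χ * ind f 1 := by
  rw [← ind_mul f 1 hχ, mul_one]

open Classical in
theorem ind_one_eq_sum :
    ind f 1 = ∑ β ∈ (irr G).filter (fun χ => f.range ≤ cfker χ), β 1 • β := by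
  ext g
  rw [ind_one_apply, ← sum_deg_mul_irr_ker]
  simp

/-- a class function vanishing off the normal subgroup is induced from its restriction -/
theorem ind_res_of_vanish {χ : G → ℂ} (hχ : χ ∈ CF G) (h : ∀ g, g ∉ f.range → χ g = 0) :
    ind f (χ ∘ f) = (f.range.index : ℂ) • χ := by
  classical
  rw [ind_res f hχ]
  ext g
  rw [Pi.mul_apply, ind_one_apply]
  split_ifs with e
  · simp [mul_comm]
  · simp [h g e]

theorem dot_res_of_vanish {χ : G → ℂ} (hχ : χ ∈ CF G) (h : ∀ g, g ∉ f.range → χ g = 0)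
    {ψ : G → ℂ} (hψ : ψ ∈ CF G) : ⟪χ ∘ f, ψ ∘ f⟫ = f.range.index * ⟪χ, ψ⟫ := by
  rw [← frob_rec f _ hψ, ind_res_of_vanish f hχ h, dot_smul_left]

omit [Finite H] hf in
/-- A linear map sending the constituents of a character `Θ` to nonzero characters and not
increasing the norm of `Θ` sends them to distinct irreducible characters. -/
theorem irr_of_nrm_le {X : Type*} [Group X] [Finite X] (T : (X → ℂ) →ₗ[ℂ] (G → ℂ)) {Θ : X → ℂ}
    (hΘ : IsCharacter X Θ)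
    (hT : ∀ ψ, IsIrrCharacter X ψ → ⟪Θ, ψ⟫ ≠ 0 → IsCharacter G (T ψ) ∧ T ψ ≠ 0)
    (hn : nrm (T Θ) ≤ nrm Θ) {ψ ψ' : X → ℂ} (hψ : IsIrrCharacter X ψ) (hψ' : IsIrrCharacter X ψ')
    (h : ⟪Θ, ψ⟫ ≠ 0) (h' : ⟪Θ, ψ'⟫ ≠ 0) : ⟪T ψ, T ψ'⟫ = ⟪ψ, ψ'⟫ := by
  classical
  have hcf := IsChar.mem_CF hΘ
  let a : (X → ℂ) → (X → ℂ) → ℝ := fun x y =>
    (⟪Θ, x⟫ * ⟪Θ, y⟫ * (⟪T x, T y⟫ - ⟪x, y⟫)).re
  have hc : ∀ x ∈ irr X, conj ⟪Θ, x⟫ = ⟪Θ, x⟫ := fun x hx =>
    ZIrr.conj_dot (IsChar.mem_ZIrr hΘ) (IsIrr.mem_ZIrr (mem_irr.mp hx))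
  have hsum : ∑ x ∈ irr X, ∑ y ∈ irr X, a x y = nrm (T Θ) - nrm Θ := by
    have e1 : ⟪T Θ, T Θ⟫ = ∑ x ∈ irr X, ∑ y ∈ irr X, ⟪Θ, x⟫ * ⟪Θ, y⟫ * ⟪T x, T y⟫ := by
      conv_lhs => rw [CF_expand hcf]
      simp only [map_sum, map_smul, dot_sum_left]
      simp only [dot_sum_right, dot_smul_left, dot_smul_right, Finset.mul_sum]
      exact Finset.sum_congr rfl fun x _ => Finset.sum_congr rfl fun y hy => by
        rw [hc y hy]; ring
    have e2 : ⟪Θ, Θ⟫ = ∑ x ∈ irr X, ∑ y ∈ irr X, ⟪Θ, x⟫ * ⟪Θ, y⟫ * ⟪x, y⟫ := by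
      conv_lhs => rw [CF_expand hcf]
      simp only [dot_sum_left]
      simp only [dot_sum_right, dot_smul_left, dot_smul_right, Finset.mul_sum]
      exact Finset.sum_congr rfl fun x _ => Finset.sum_congr rfl fun y hy => by
        rw [hc y hy]; ring
    rw [nrm, nrm, e1, e2, ← Complex.sub_re, ← Finset.sum_sub_distrib, Complex.re_sum]
    refine Finset.sum_congr rfl fun x _ => ?_
    rw [← Finset.sum_sub_distrib, Complex.re_sum]
    exact Finset.sum_congr rfl fun y _ => by simp only [a, mul_sub]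
  have hnat : ∀ x ∈ irr X, ∀ y ∈ irr X, ⟪Θ, x⟫ ≠ 0 → ⟪Θ, y⟫ ≠ 0 →
      ∃ n : ℕ, ⟪T x, T y⟫ - ⟪x, y⟫ = n := by
    intro x hx y hy h1 h2
    have hx' := mem_irr.mp hx
    have hy' := mem_irr.mp hy
    obtain ⟨n, hn⟩ := IsChar.dot_nat (hT x hx' h1).1 (hT y hy' h2).1
    by_cases e : x = y
    · subst e
      have : n ≠ 0 := by
        rintro rfl
        exact (hT x hx' h1).2 (dot_self_eq_zero.mp (by simpa using hn))
      obtain ⟨m, rfl⟩ := Nat.exists_eq_succ_of_ne_zero this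
      exact ⟨m, by rw [hn, IsIrr.dot_self hx']; simp⟩
    · exact ⟨n, by rw [hn, IsIrr.dot_ne hx' hy' e, sub_zero]⟩
  have hpos : ∀ x ∈ irr X, ∀ y ∈ irr X, 0 ≤ a x y := by
    intro x hx y hy
    by_cases h1 : ⟪Θ, x⟫ = 0
    · simp [a, h1]
    by_cases h2 : ⟪Θ, y⟫ = 0
    · simp [a, h2]
    obtain ⟨n, hn⟩ := hnat x hx y hy h1 h2
    obtain ⟨n1, hn1⟩ := IsChar.dot_nat hΘ (IsIrr.isChar (mem_irr.mp hx))
    obtain ⟨n2, hn2⟩ := IsChar.dot_nat hΘ (IsIrr.isChar (mem_irr.mp hy))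
    simp only [a, hn, hn1, hn2]
    norm_cast
    positivity
  have h0 : ∑ x ∈ irr X, ∑ y ∈ irr X, a x y = 0 :=
    le_antisymm (by linarith) (Finset.sum_nonneg fun x hx => Finset.sum_nonneg (hpos x hx))
  have h1 := (Finset.sum_eq_zero_iff_of_nonneg fun x hx => Finset.sum_nonneg (hpos x hx)).mp h0
    ψ (mem_irr.mpr hψ)
  have h2 := (Finset.sum_eq_zero_iff_of_nonneg (hpos ψ (mem_irr.mpr hψ))).mp h1 ψ' (mem_irr.mpr hψ')
  obtain ⟨n, hn⟩ := hnat ψ (mem_irr.mpr hψ) ψ' (mem_irr.mpr hψ') h h'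
  obtain ⟨n1, hn1⟩ := IsChar.dot_nat hΘ (IsIrr.isChar hψ)
  obtain ⟨n2, hn2⟩ := IsChar.dot_nat hΘ (IsIrr.isChar hψ')
  simp only [a, hn, hn1, hn2] at h2
  rw [hn1, Nat.cast_ne_zero] at h
  rw [hn2, Nat.cast_ne_zero] at h'
  have : n1 * n2 * n = 0 := by exact_mod_cast h2
  have hn0 : n = 0 := by simpa [h, h'] using this
  rw [hn0, Nat.cast_zero, sub_eq_zero] at hn
  exact hn

theorem realizeEqns_Char_Clifford : True := by
  have := @CA.Chr.inertia.eq_1.{0,0}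
  have := @CA.Chr.inertia.eq_def.{0,0}
  have := @CA.Chr.inertia.congr_simp.{0,0}
  have := @CA.Chr.cfclass.eq_1.{0,0}
  have := @CA.Chr.cfclass.eq_def.{0,0}
  have := @CA.Chr.cfclass.congr_simp.{0,0}
  have := @CA.Chr.cj.eq_1.{0,0}
  have := @CA.Chr.cj.eq_def.{0,0}
  have := @CA.Chr.cj.congr_simp.{0,0}
  trivial

end CA.Chr
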