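import Cfsg.Agent.Char.Irr

/-!
# Induction of class functions along a homomorphism, Frobenius reciprocity
-/

set_option autoImplicit false

open scoped ComplexConjugate
open Cfsg

namespace CA.Chr

variable {G H K : Type*} [Group G] [Finite G] [Group H] [Finite H] [Group K] [Finite K]

open Classical in
/-- Induction along a homomorphism `f : H →* G` (the adjoint of `χ ↦ χ ∘ f`). -/
noncomputable def ind (f : H →* G) : (H → ℂ) →ₗ[ℂ] (G → ℂ) where
  toFun θ g := (Nat.card H : ℂ)⁻¹ * ∑ᶠ x : G, ∑ᶠ h : H, if f h = x⁻¹ * g * x then θ h else 0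
  map_add' θ φ := by
    cases nonempty_fintype G
    cases nonempty_fintype H
    ext g
    simp only [finsum_eq_sum_of_fintype, Pi.add_apply, ← mul_add, ← Finset.sum_add_distrib]
    congr 1
    refine Finset.sum_congr rfl fun x _ => Finset.sum_congr rfl fun h _ => ?_
    split_ifs <;> simp
  map_smul' c θ := by
    cases nonempty_fintype G
    cases nonempty_fintype H
    ext g
    simp only [finsum_eq_sum_of_fintype, Pi.smul_apply, smul_eq_mul, RingHom.id_apply,
      Finset.mul_sum]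
    refine Finset.sum_congr rfl fun x _ => Finset.sum_congr rfl fun h _ => ?_
    split_ifs <;> ring

theorem ind_apply [Fintype G] [Fintype H] [DecidableEq G] (f : H →* G) (θ : H → ℂ) (g : G) :
    ind f θ g = (Nat.card H : ℂ)⁻¹ * ∑ x : G, ∑ h : H, if f h = x⁻¹ * g * x then θ h else 0 := by
  simp only [ind, finsum_eq_sum_of_fintype, LinearMap.coe_mk, AddHom.coe_mk]
  congr!

theorem ind_mem_CF (f : H →* G) (θ : H → ℂ) : ind f θ ∈ CF G := by
  classical
  cases nonempty_fintype G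
  cases nonempty_fintype H
  intro g y
  rw [ind_apply, ind_apply]
  congr 1
  refine (Fintype.sum_equiv (Equiv.mulLeft y) _ _ fun x => ?_).symm
  simp [mul_assoc]

/-- Frobenius reciprocity. -/
theorem frob_rec (f : H →* G) (θ : H → ℂ) {χ : G → ℂ} (hχ : χ ∈ CF G) :
    ⟪ind f θ, χ⟫ = ⟪θ, χ ∘ f⟫ := by
  classical
  cases nonempty_fintype G
  cases nonempty_fintype H
  rw [dot_def, dot_def]
  simp only [ind_apply, mul_assoc, ← Finset.mul_sum, Finset.sum_mul, ite_mul, zero_mul]
  rw [mul_left_comm]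
  congr 1
  rw [Finset.sum_comm]
  have : ∀ x : G, ∑ g : G, ∑ h : H, (if f h = x⁻¹ * (g * x) then θ h * conj (χ g) else 0)
      = ∑ h : H, θ h * conj (χ (f h)) := by
    intro x
    rw [Finset.sum_comm]
    refine Finset.sum_congr rfl fun h _ => ?_
    rw [Finset.sum_eq_single (x * f h * x⁻¹)]
    · rw [if_pos (by group), CF_conj hχ]
    · intro b _ hb
      rw [if_neg]
      intro e
      apply hb
      rw [e]; group
    · simp
  simp only [this, Finset.sum_const, Finset.card_univ, nsmul_eq_mul, ← Nat.card_eq_fintype_card,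
    Function.comp_apply]
  rw [← mul_assoc, inv_mul_cancel₀ card_ne_zero, one_mul]

theorem frob_rec' (f : H →* G) (θ : H → ℂ) {χ : G → ℂ} (hχ : χ ∈ CF G) :
    ⟪χ, ind f θ⟫ = ⟪χ ∘ f, θ⟫ := by
  rw [← conj_dot, frob_rec f θ hχ, conj_dot]

theorem dot_ind_one (f : H →* G) (θ : H → ℂ) : ⟪ind f θ, 1⟫ = ⟪θ, 1⟫ :=
  frob_rec f θ (one_mem _)

theorem ind_comp (g : H →* G) (f : K →* H) (θ : K → ℂ) :
    ind g (ind f θ) = ind (g.comp f) θ := by
  apply CF_ext (ind_mem_CF _ _) (ind_mem_CF _ _)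
  intro χ hχ
  have := IsIrr.mem_CF hχ
  rw [frob_rec _ _ this, frob_rec _ _ this, frob_rec _ _ (CF_comp this g)]
  rfl

theorem ind_id {θ : G → ℂ} (hθ : θ ∈ CF G) : ind (MonoidHom.id G) θ = θ := by
  apply CF_ext (ind_mem_CF _ _) hθ
  intro χ hχ
  rw [frob_rec _ _ (IsIrr.mem_CF hχ)]
  rfl

theorem ind_comp_equiv (f : H →* G) (e : K ≃* H) (θ : H → ℂ) :
    ind (f.comp e.toMonoidHom) (θ ∘ e) = ind f θ := by
  apply CF_ext (ind_mem_CF _ _) (ind_mem_CF _ _)
  intro χ hχ
  have := IsIrr.mem_CF hχ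
  rw [frob_rec _ _ this, frob_rec _ _ this, ← dot_comp_mulEquiv e θ]
  rfl

theorem ind_comp_surj (f : H →* G) (e : K →* H) (he : Function.Surjective e) (θ : H → ℂ) :
    ind (f.comp e) (θ ∘ e) = ind f θ := by
  apply CF_ext (ind_mem_CF _ _) (ind_mem_CF _ _)
  intro χ hχ
  have := IsIrr.mem_CF hχ
  rw [frob_rec _ _ this, frob_rec _ _ this, ← dot_comp_surj e he θ]
  rfl

theorem ind_equiv (e : H ≃* G) {θ : H → ℂ} (hθ : θ ∈ CF H) :
    ind e.toMonoidHom θ = θ ∘ e.symm := by
  have h1 := ind_comp_equiv (MonoidHom.id G) e (θ ∘ e.symm)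
  have h2 : ind (MonoidHom.id G) (θ ∘ e.symm) = θ ∘ e.symm := ind_id (CF_comp hθ e.symm.toMonoidHom)
  rw [← h2, ← h1]
  congr 1
  ext; simp

/-- two homomorphisms that differ by an inner automorphism induce the same function -/
theorem ind_congr_conj {f f' : H →* G} (h : ∀ x, IsConj (f x) (f' x)) (θ : H → ℂ) :
    ind f θ = ind f' θ := by
  apply CF_ext (ind_mem_CF _ _) (ind_mem_CF _ _)
  intro χ hχ
  have := IsIrr.mem_CF hχ
  rw [frob_rec _ _ this, frob_rec _ _ this]
  congr 1
  ext x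
  exact CF_isConj this (h x)

theorem IsChar.ind {θ : H → ℂ} (h : IsCharacter H θ) (f : H →* G) : IsCharacter G (ind f θ) := by
  apply isChar_of_dot_nat (ind_mem_CF _ _)
  intro χ hχ
  rw [frob_rec _ _ (IsIrr.mem_CF hχ)]
  exact IsChar.dot_nat h (IsChar.comp (IsIrr.isChar hχ) f)

theorem ZIrr.ind {θ : H → ℂ} (h : θ ∈ ZIrr H) (f : H →* G) : ind f θ ∈ ZIrr G := by
  obtain ⟨a, b, ha, hb, rfl⟩ := h
  rw [map_sub]
  exact ⟨_, _, IsChar.ind ha f, IsChar.ind hb f, rfl⟩

theorem ind_eq_zero {f : H →* G} {θ : H → ℂ} {g : G} (h : ∀ x, IsConj (f x) g → θ x = 0) :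
    ind f θ g = 0 := by
  classical
  cases nonempty_fintype G
  cases nonempty_fintype H
  rw [ind_apply, Finset.sum_eq_zero, mul_zero]
  intro x _
  refine Finset.sum_eq_zero fun y _ => ?_
  split_ifs with e
  · exact h y (isConj_iff.mpr ⟨x, by rw [e]; group⟩)
  · rfl

theorem ind_congr_apply {f : H →* G} {θ θ' : H → ℂ} {g : G}
    (h : ∀ x, IsConj (f x) g → θ x = θ' x) : ind f θ g = ind f θ' g := by
  rw [← sub_eq_zero, ← Pi.sub_apply, ← map_sub]
  exact ind_eq_zero fun x hx => by simp [h x hx]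

theorem ind_mul (f : H →* G) (θ : H → ℂ) {χ : G → ℂ} (hχ : χ ∈ CF G) :
    ind f (χ ∘ f * θ) = χ * ind f θ := by
  apply CF_ext (ind_mem_CF _ _) (mul_mem hχ (ind_mem_CF _ _))
  intro ψ hψ
  have := IsIrr.mem_CF hψ
  rw [frob_rec _ _ this, dot_mul_left, dot_mul_left,
    frob_rec _ _ (mul_mem (CF_conjFun hχ) this)]
  rfl

theorem ind_map (σ : ℂ →+* ℂ) (f : H →* G) (θ : H → ℂ) : ind f (σ ∘ θ) = σ ∘ ind f θ := by
  classical
  cases nonempty_fintype G
  cases nonempty_fintype H
  ext g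
  simp only [ind_apply, Function.comp_apply, map_mul, map_inv₀, map_natCast, map_sum]
  congr 1
  refine Finset.sum_congr rfl fun x _ => Finset.sum_congr rfl fun h _ => ?_
  split_ifs <;> simp

theorem ind_conjFun (f : H →* G) (θ : H → ℂ) : ind f (conjFun θ) = conjFun (ind f θ) :=
  ind_map (starRingEnd ℂ) f θ

theorem ind_apply_inj [Fintype G] {f : H →* G} (hf : Function.Injective f) (θ : H → ℂ) (g : G) :
    ind f θ g = (Nat.card H : ℂ)⁻¹ * ∑ x : G, Function.extend f θ 0 (x⁻¹ * g * x) := by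
  classical
  cases nonempty_fintype H
  rw [ind_apply]
  congr 1
  refine Finset.sum_congr rfl fun x _ => ?_
  by_cases hx : ∃ h, f h = x⁻¹ * g * x
  · obtain ⟨h, hh⟩ := hx
    rw [← hh, hf.extend_apply, Finset.sum_eq_single h]
    · simp
    · intro b _ hb
      rw [if_neg (fun e => hb (hf e))]
    · simp
  · rw [Function.extend_apply' _ _ _ hx, Finset.sum_eq_zero]
    · rfl
    · intro h _
      rw [if_neg (fun e => hx ⟨h, e⟩)]

theorem indFun_eq {G : Type*} [Group G] [Fintype G] (H : Subgroup G) (θ : H → ℂ) :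
    indFun H θ = ind H.subtype θ := by
  ext g
  rw [ind_apply_inj H.subtype_injective]
  rfl

omit [Finite G] [Finite H] in
theorem card_mul_index_range {f : H →* G} (hf : Function.Injective f) :
    Nat.card H * f.range.index = Nat.card G := by
  rw [Nat.card_congr (MonoidHom.ofInjective hf).toEquiv, Subgroup.card_mul_index]

theorem ind_one {f : H →* G} (hf : Function.Injective f) (θ : H → ℂ) :
    ind f θ 1 = f.range.index * θ 1 := by
  cases nonempty_fintype G
  rw [ind_apply_inj hf]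
  have : ∀ x : G, Function.extend f θ 0 (x⁻¹ * 1 * x) = θ 1 := by
    intro x
    rw [mul_one, inv_mul_cancel, ← map_one f, hf.extend_apply]
  simp only [this, Finset.sum_const, Finset.card_univ, nsmul_eq_mul, ← Nat.card_eq_fintype_card]
  rw [← card_mul_index_range hf]
  have : (Nat.card H : ℂ) ≠ 0 := card_ne_zero
  push_cast
  field_simp

theorem ind_subtype_one (N : Subgroup G) (θ : N → ℂ) : ind N.subtype θ 1 = N.index * θ 1 := by
  rw [ind_one N.subtype_injective, Subgroup.range_subtype]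

omit [Finite G] in
theorem range_inclusion {A B : Subgroup G} (h : A ≤ B) :
    (Subgroup.inclusion h).range = A.subgroupOf B := Subgroup.inclusion_range h

theorem ind_inclusion_one {A B : Subgroup G} (h : A ≤ B) (θ : A → ℂ) :
    ind (Subgroup.inclusion h) θ 1 = A.relIndex B * θ 1 := by
  rw [ind_one (Subgroup.inclusion_injective h), range_inclusion]; rfl

theorem ind_subtype_inclusion {A B : Subgroup G} (h : A ≤ B) (θ : A → ℂ) :
    ind B.subtype (ind (Subgroup.inclusion h) θ) = ind A.subtype θ := ind_comp _ _ _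

theorem ind_inclusion_inclusion {A B C : Subgroup G} (h : A ≤ B) (h' : B ≤ C) (θ : A → ℂ) :
    ind (Subgroup.inclusion h') (ind (Subgroup.inclusion h) θ) =
      ind (Subgroup.inclusion (h.trans h')) θ := ind_comp _ _ _

theorem ind_subgroupOf {A B : Subgroup G} (h : A ≤ B) (θ : A → ℂ) :
    ind (A.subgroupOf B).subtype (θ ∘ Subgroup.subgroupOfEquivOfLe h) =
      ind (Subgroup.inclusion h) θ :=
  ind_comp_equiv (Subgroup.inclusion h) (Subgroup.subgroupOfEquivOfLe h) θ

theorem deg_ind {f : H →* G} (hf : Function.Injective f) {θ : H → ℂ} (hθ : IsCharacter H θ) :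
    deg (ind f θ) = f.range.index * deg θ := by
  apply deg_eq
  rw [ind_one hf, ← IsChar.coe_deg hθ]; simp

theorem ind_ne_zero {f : H →* G} (hf : Function.Injective f) {θ : H → ℂ} (h1 : θ 1 ≠ 0) :
    ind f θ ≠ 0 := by
  intro e
  have := ind_one hf θ
  rw [e] at this
  exact mul_ne_zero (Nat.cast_ne_zero.mpr Subgroup.index_ne_zero_of_finite) h1 this.symm

theorem exists_constt_ind {f : H →* G} (hf : Function.Injective f) {θ : H → ℂ}
    (hθ : IsIrrCharacter H θ) : ∃ χ, IsIrrCharacter G χ ∧ ⟪χ ∘ f, θ⟫ ≠ 0 := by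
  obtain ⟨χ, hχ, h⟩ := CF_exists_constt (ind_mem_CF f θ) (ind_ne_zero hf (IsIrr.deg_ne_zero hθ))
  rw [frob_rec _ _ (IsIrr.mem_CF hχ)] at h
  exact ⟨χ, hχ, fun e => h (dot_comm_zero e)⟩

omit [Finite G] in
theorem exists_constt_res (f : H →* G) {χ : G → ℂ} (hχ : IsIrrCharacter G χ) :
    ∃ θ, IsIrrCharacter H θ ∧ ⟪χ ∘ f, θ⟫ ≠ 0 := by
  apply CF_exists_constt (CF_comp (IsIrr.mem_CF hχ) f)
  intro e
  have := congrFun e 1
  simp only [Function.comp_apply, map_one, Pi.zero_apply] at this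
  exact IsIrr.deg_ne_zero hχ this

/-- Value of an induced class function at a point of a "trivial intersection" set: if every
conjugate of `f a` lying in the image of the support of `θ` comes from conjugation by the image. -/
theorem ind_apply_TI {f : H →* G} (hf : Function.Injective f) {θ : H → ℂ} (hθ : θ ∈ CF H) (a : H)
    (hTI : ∀ (x : G) (b : H), θ b ≠ 0 → f b = x⁻¹ * f a * x → x ∈ f.range) :
    ind f θ (f a) = θ a := by
  classical
  cases nonempty_fintype G
  cases nonempty_fintype H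
  rw [ind_apply_inj hf, ← Finset.sum_subset (Finset.subset_univ (Finset.univ.image f))]
  · rw [Finset.sum_image (fun x _ y _ e => hf e)]
    have : ∀ y : H, Function.extend f θ 0 ((f y)⁻¹ * f a * f y) = θ a := by
      intro y
      rw [← map_inv, ← map_mul, ← map_mul, hf.extend_apply, CF_conj' hθ]
    simp only [this, Finset.sum_const, Finset.card_univ, nsmul_eq_mul, ← Nat.card_eq_fintype_card]
    rw [← mul_assoc, inv_mul_cancel₀ card_ne_zero, one_mul]
  · intro x _ hx
    by_cases hb : ∃ b, f b = x⁻¹ * f a * x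
    · obtain ⟨b, hb⟩ := hb
      rw [← hb, hf.extend_apply]
      by_contra h0
      obtain ⟨y, hy⟩ := hTI x b h0 hb
      exact hx (Finset.mem_image.mpr ⟨y, Finset.mem_univ _, hy⟩)
    · rw [Function.extend_apply' _ _ _ hb]; rfl

/-- Induction is an isometry on class functions supported on a TI-set `A`. -/
theorem dot_ind_TI {f : H →* G} (hf : Function.Injective f) {A : Set H}
    (hTI : ∀ (x : G), ∀ a ∈ A, ∀ b ∈ A, f b = x⁻¹ * f a * x → x ∈ f.range)
    {θ φ : H → ℂ} (hθ : θ ∈ CF H) (hθA : ∀ a, θ a ≠ 0 → a ∈ A) (hφA : ∀ a, φ a ≠ 0 → a ∈ A) :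
    ⟪ind f θ, ind f φ⟫ = ⟪θ, φ⟫ := by
  rw [frob_rec' _ _ (ind_mem_CF _ _)]
  apply dot_congr_left
  intro a ha
  exact ind_apply_TI hf hθ a fun x b hb e => hTI x a (hφA a ha) b (hθA b hb) e

theorem realizeEqns_Char_Ind : True := by
  have := @CA.Chr.ind.eq_1.{0,0}
  have := @CA.Chr.ind.eq_def.{0,0}
  have := @CA.Chr.ind.congr_simp.{0,0}
  trivial

end CA.Chr
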