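import Cfsg.Agent.Char.Aut

/-!
# Kernels, centres, inflation, linear characters, determinants
-/

set_option autoImplicit false

open scoped ComplexConjugate
open Cfsg

namespace CA.Chr

section Ker

variable {G : Type*} [Group G]

/-- The kernel of a function on a group. -/
def cfker (θ : G → ℂ) : Subgroup G where
  carrier := {g | ∀ x, θ (g * x) = θ x}
  mul_mem' {a b} ha hb x := by rw [mul_assoc, ha, hb]
  one_mem' x := by rw [one_mul]
  inv_mem' {a} ha x := by rw [← ha (a⁻¹ * x), mul_inv_cancel_left]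

theorem mem_cfker {θ : G → ℂ} {g : G} : g ∈ cfker θ ↔ ∀ x, θ (g * x) = θ x := Iff.rfl

theorem cfker_mul {θ : G → ℂ} {g : G} (h : g ∈ cfker θ) (x : G) : θ (g * x) = θ x := h x

theorem cfker_apply {θ : G → ℂ} {g : G} (h : g ∈ cfker θ) : θ g = θ 1 := by
  simpa using h 1

theorem cfker_mul' {θ : G → ℂ} (hθ : θ ∈ CF G) {g : G} (h : g ∈ cfker θ) (x : G) :
    θ (x * g) = θ x := by rw [CF_mul_comm hθ, h]

theorem cfker_normal {θ : G → ℂ} (hθ : θ ∈ CF G) : (cfker θ).Normal :=
  ⟨fun n hn g x => by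
    rw [← CF_conj' hθ _ g, ← CF_conj' hθ x g, ← hn (g⁻¹ * x * g)]
    congr 1; group⟩

@[simp] theorem cfker_one : cfker (1 : G → ℂ) = ⊤ := by
  ext; simp [mem_cfker]

theorem cfker_conjFun (θ : G → ℂ) : cfker (conjFun θ) = cfker θ := by
  ext; simp [mem_cfker, (starRingEnd ℂ).injective.eq_iff]

theorem cfker_map (σ : ℂ →+* ℂ) (θ : G → ℂ) : cfker (σ ∘ θ) = cfker θ := by
  ext; simp [mem_cfker, σ.injective.eq_iff]

theorem cfker_neg (θ : G → ℂ) : cfker (-θ) = cfker θ := by
  ext; simp [mem_cfker]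

theorem cfker_smul {c : ℂ} (hc : c ≠ 0) (θ : G → ℂ) : cfker (c • θ) = cfker θ := by
  ext; simp [mem_cfker, hc]

theorem comap_cfker_le {H : Type*} [Group H] (θ : G → ℂ) (f : H →* G) :
    (cfker θ).comap f ≤ cfker (θ ∘ f) := fun g hg x => by
  simp only [Function.comp_apply, map_mul]; exact hg _

theorem cfker_comp_surj {H : Type*} [Group H] (θ : G → ℂ) (f : H →* G)
    (hf : Function.Surjective f) : cfker (θ ∘ f) = (cfker θ).comap f := by
  refine le_antisymm (fun g hg x => ?_) (comap_cfker_le θ f)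
  obtain ⟨y, rfl⟩ := hf x
  simpa using hg y

theorem ker_le_cfker_comp {H : Type*} [Group H] (θ : G → ℂ) (f : H →* G) :
    f.ker ≤ cfker (θ ∘ f) := fun g hg x => by
  simp [(MonoidHom.mem_ker).mp hg]

theorem cfker_lin (l : G →* ℂˣ) : cfker (lin l) = l.ker := by
  ext g
  simp only [mem_cfker, lin_apply, map_mul, Units.val_mul, MonoidHom.mem_ker]
  constructor
  · intro h
    have := h 1
    simp only [map_one, Units.val_one, mul_one, Units.val_eq_one] at this
    exact this
  · intro h x; simp [h]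

theorem inf_cfker_le_add (θ φ : G → ℂ) : cfker θ ⊓ cfker φ ≤ cfker (θ + φ) :=
  fun g hg x => by simp [hg.1 x, hg.2 x]

theorem inf_cfker_le_sub (θ φ : G → ℂ) : cfker θ ⊓ cfker φ ≤ cfker (θ - φ) :=
  fun g hg x => by simp [hg.1 x, hg.2 x]

theorem inf_cfker_le_mul (θ φ : G → ℂ) : cfker θ ⊓ cfker φ ≤ cfker (θ * φ) :=
  fun g hg x => by simp [hg.1 x, hg.2 x]

theorem mem_cfker_sum {ι : Type*} (s : Finset ι) (θ : ι → G → ℂ) {g : G}
    (h : ∀ i ∈ s, g ∈ cfker (θ i)) : g ∈ cfker (∑ i ∈ s, θ i) := fun x => by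
  simp only [Finset.sum_apply]
  exact Finset.sum_congr rfl fun i hi => h i hi x

theorem cfker_le_smul (c : ℂ) (θ : G → ℂ) : cfker θ ≤ cfker (c • θ) :=
  fun g hg x => by simp [hg x]

theorem eq_const_of_cfker_top {θ : G → ℂ} (h : cfker θ = ⊤) (g : G) : θ g = θ 1 :=
  cfker_apply (h ▸ Subgroup.mem_top g)

theorem commutator_le_cfker_lin (l : G →* ℂˣ) : commutator G ≤ cfker (lin l) := by
  rw [cfker_lin]; exact Abelianization.commutator_subset_ker l

/-- twisting a representation by a linear character -/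
noncomputable def repTwist {V : Type*} [AddCommGroup V] [Module ℂ V] (l : G →* ℂˣ)
    (ρ : Representation ℂ G V) : Representation ℂ G V where
  toFun g := (l g : ℂ) • ρ g
  map_one' := by simp
  map_mul' g h := by simp [smul_smul, mul_comm]

theorem repTwist_character {V : Type*} [AddCommGroup V] [Module ℂ V] (l : G →* ℂˣ)
    (ρ : Representation ℂ G V) : (repTwist l ρ).character = lin l * ρ.character := by
  ext g
  simp [Representation.character, repTwist]

theorem multiset_eq_one_of_sum {s : Multiset ℂ} (h : ∀ z ∈ s, ‖z‖ = 1) (hs : s.sum = s.card) :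
    ∀ z ∈ s, z = 1 := by
  have h1 : ∀ z ∈ s, z.re ≤ 1 := fun z hz => (Complex.re_le_norm z).trans (h z hz).le
  have h2 : (s.map fun z => 1 - z.re).sum = 0 := by
    rw [Multiset.sum_map_sub]
    have := congrArg Complex.re hs
    rw [← Complex.coe_reAddGroupHom, map_multiset_sum] at this
    simp only [Complex.coe_reAddGroupHom, Complex.natCast_re] at this
    simp [this]
  intro z hz
  have h3 : 1 - z.re = 0 := by
    have := Multiset.all_zero_of_le_zero_le_of_sum_eq_zero (s := s.map fun z => 1 - z.re) (by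
      intro x hx
      obtain ⟨w, hw, rfl⟩ := Multiset.mem_map.mp hx
      exact sub_nonneg.mpr (h1 w hw)) h2
    exact this _ (Multiset.mem_map_of_mem _ hz)
  have h4 := h z hz
  have h5 : z.re = 1 := by linarith
  have h6 := Complex.normSq_eq_norm_sq z
  rw [h4, Complex.normSq_apply, h5] at h6
  apply Complex.ext h5
  simp only [Complex.one_im]
  nlinarith

variable [Finite G]

theorem rep_eq_one_of_character {V : Type*} [AddCommGroup V] [Module ℂ V] [FiniteDimensional ℂ V]
    (ρ : Representation ℂ G V) {g : G} (h : ρ.character g = ρ.character 1) : ρ g = 1 := by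
  obtain ⟨s, h1, -, h3⟩ := rep_exists_multiset_lin (G := Subgroup.zpowers g)
    (ρ.comp (Subgroup.zpowers g).subtype)
  let g' : Subgroup.zpowers g := ⟨g, Subgroup.mem_zpowers g⟩
  apply h3 g'
  have e1 := congrFun h1 g'
  have e2 := congrFun h1 1
  rw [Pi.multiset_sum_apply, Multiset.map_map] at e1 e2
  have := multiset_eq_one_of_sum (s := s.map fun l => lin l g') (by
    intro z hz
    obtain ⟨l, -, rfl⟩ := Multiset.mem_map.mp hz
    exact norm_lin l g') (by
    have e3 : ρ.character 1 = s.card := by simpa [Function.comp_def] using e2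
    rw [Multiset.card_map, ← e3, ← h]
    exact e1.symm)
  intro l hl
  exact Units.val_eq_one.mp (this _ (Multiset.mem_map_of_mem _ hl))

theorem IsChar.mem_cfker {χ : G → ℂ} (h : IsCharacter G χ) {g : G} : g ∈ cfker χ ↔ χ g = χ 1 := by
  refine ⟨cfker_apply, fun e x => ?_⟩
  obtain ⟨n, ρ, rfl⟩ := h
  simp only [Representation.character, map_mul, rep_eq_one_of_character ρ e, one_mul]

theorem IsIrr.mem_cfker {χ : G → ℂ} (h : IsIrrCharacter G χ) {g : G} :
    g ∈ cfker χ ↔ χ g = χ 1 := IsChar.mem_cfker (IsIrr.isChar h)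

theorem IsChar.re_le {χ : G → ℂ} (h : IsCharacter G χ) (g : G) : (χ g).re ≤ (χ 1).re := by
  rw [← IsChar.coe_deg h]
  exact (Complex.re_le_norm _).trans (IsChar.norm_le h g)

theorem IsChar.mem_cfker_of_re {χ : G → ℂ} (h : IsCharacter G χ) {g : G}
    (e : (χ 1).re ≤ (χ g).re) : g ∈ cfker χ := by
  rw [IsChar.mem_cfker h]
  have h1 := IsChar.norm_le h g
  rw [← IsChar.coe_deg h] at e ⊢
  simp only [Complex.natCast_re] at e
  have h2 := Complex.normSq_eq_norm_sq (χ g)
  rw [Complex.normSq_apply] at h2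
  have h3 := Complex.re_le_norm (χ g)
  have h4 : (χ g).re = deg χ := by linarith
  have h5 : ‖χ g‖ = deg χ := by linarith
  apply Complex.ext (by simpa using h4)
  rw [h4, h5] at h2
  simp only [Complex.natCast_im]
  nlinarith

theorem IsChar.cfker_add {χ ψ : G → ℂ} (h : IsCharacter G χ) (h' : IsCharacter G ψ) :
    cfker (χ + ψ) = cfker χ ⊓ cfker ψ := by
  refine le_antisymm (fun g hg => ?_) (inf_cfker_le_add _ _)
  have e := congrArg Complex.re (cfker_apply hg)
  simp only [Pi.add_apply, Complex.add_re] at e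
  have h1 := IsChar.re_le h g
  have h2 := IsChar.re_le h' g
  exact ⟨IsChar.mem_cfker_of_re h (by linarith), IsChar.mem_cfker_of_re h' (by linarith)⟩

theorem IsChar.cfker_le_constt {θ χ : G → ℂ} (h : IsCharacter G θ) (hχ : IsIrrCharacter G χ)
    (hne : ⟪θ, χ⟫ ≠ 0) : cfker θ ≤ cfker χ := by
  have := IsChar.cfker_add (IsChar.sub_irr' h hχ hne) (IsIrr.isChar hχ)
  rw [sub_add_cancel] at this
  rw [this]; exact inf_le_right

theorem IsChar.cfker_comp {H : Type*} [Group H] [Finite H] {χ : G → ℂ} (h : IsCharacter G χ)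
    (f : H →* G) : cfker (χ ∘ f) = (cfker χ).comap f := by
  ext x
  rw [IsChar.mem_cfker (IsChar.comp h f), Subgroup.mem_comap, IsChar.mem_cfker h]
  simp

theorem mem_cfker_of_constt {θ : G → ℂ} (hθ : θ ∈ CF G) {g : G}
    (h : ∀ χ, IsIrrCharacter G χ → ⟪θ, χ⟫ ≠ 0 → g ∈ cfker χ) : g ∈ cfker θ := by
  intro x
  rw [CF_expand_apply hθ, CF_expand_apply hθ x]
  refine Finset.sum_congr rfl fun χ hχ => ?_
  by_cases e : ⟪θ, χ⟫ = 0
  · simp [e]
  · rw [h χ (mem_irr.mp hχ) e x]

theorem IsIrr.eq_one_of_cfker_top {χ : G → ℂ} (h : IsIrrCharacter G χ) (e : cfker χ = ⊤) :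
    χ = 1 := by
  apply IsIrr.eq_of_dot_ne_zero h one_irr
  have : χ = χ 1 • (1 : G → ℂ) := by ext g; simp [eq_const_of_cfker_top e g]
  rw [this, dot_smul_left, dot_one_one, mul_one]
  exact IsIrr.deg_ne_zero h

theorem IsIrr.cfker_ne_top {χ : G → ℂ} (h : IsIrrCharacter G χ) (e : χ ≠ 1) : cfker χ ≠ ⊤ :=
  fun h' => e (IsIrr.eq_one_of_cfker_top h h')

/-- the inner product of a class function with a character not having `N ≤ ker θ` in its kernel -/
theorem dot_eq_zero_of_cfker {θ χ : G → ℂ} (hχ : IsIrrCharacter G χ) {g : G}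
    (hθ : θ ∈ CF G) (hg : g ∈ cfker θ) (hn : g ∉ cfker χ) : ⟪θ, χ⟫ = 0 := by
  cases nonempty_fintype G
  have h1 := IsIrr.sum_class_mul hχ (CF_conjFun hθ) g
  have h2 : ∑ x, conjFun θ x * χ (g * x) = ∑ x, conjFun θ x * χ x := by
    refine Fintype.sum_equiv (Equiv.mulLeft g) _ _ fun x => ?_
    simp [hg x]
  rw [h2] at h1
  have h3 : ∑ x, conjFun θ x * χ x = 0 := by
    by_contra h0
    exact hn ((IsIrr.mem_cfker hχ).mpr (mul_right_cancel₀ h0 h1).symm)
  apply dot_comm_zero
  rw [dot_def, ← mul_zero (Nat.card G : ℂ)⁻¹, ← h3]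
  congr 1
  exact Finset.sum_congr rfl fun x _ => mul_comm _ _

theorem cfker_le_constt {θ χ : G → ℂ} (hθ : θ ∈ CF G) (hχ : IsIrrCharacter G χ)
    (hne : ⟪θ, χ⟫ ≠ 0) : cfker θ ≤ cfker χ := fun g hg => by
  by_contra h
  exact hne (dot_eq_zero_of_cfker hχ hθ hg h)

/-- an element central modulo the kernel acts as a scalar -/
theorem IsIrr.exists_central_scalar {χ : G → ℂ} (h : IsIrrCharacter G χ) {z : G}
    (hz : ∀ x, z * x * z⁻¹ * x⁻¹ ∈ cfker χ) : ∃ c : ℂ, ∀ x, χ (z * x) = c * χ x := by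
  cases nonempty_fintype G
  refine ⟨χ z / χ 1, fun x => ?_⟩
  have h1 := IsIrr.sum_conj_mul h x z
  have h2 : ∀ y, χ (x * (y * z * y⁻¹)) = χ (z * x) := by
    intro y
    rw [CF_mul_comm (IsIrr.mem_CF h), ← cfker_mul (hz y) (y * z * y⁻¹ * x)]
    congr 1; group
  simp only [h2, Finset.sum_const, Finset.card_univ, nsmul_eq_mul, ← Nat.card_eq_fintype_card] at h1
  have h3 := IsIrr.deg_ne_zero h
  have h4 : (Nat.card G : ℂ) ≠ 0 := card_ne_zero
  field_simp
  apply mul_left_cancel₀ h4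
  linear_combination h1

theorem IsIrr.exists_central_lin {Z : Type*} [Group Z] {χ : G → ℂ} (h : IsIrrCharacter G χ)
    (f : Z →* G) (hz : ∀ z x, f z * x * (f z)⁻¹ * x⁻¹ ∈ cfker χ) :
    ∃ l : Z →* ℂˣ, ∀ z x, χ (f z * x) = l z * χ x := by
  choose c hc using fun z => IsIrr.exists_central_scalar h (hz z)
  have h1 := IsIrr.deg_ne_zero h
  let l : Z →* ℂ :=
    { toFun := c
      map_one' := by
        have := hc 1 1
        rw [map_one, one_mul] at this
        exact mul_right_cancel₀ h1 (by rw [← this, one_mul])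
      map_mul' := fun a b => by
        have := hc (a * b) 1
        rw [map_mul, mul_assoc, hc, hc, ← mul_assoc] at this
        exact (mul_right_cancel₀ h1 this).symm }
  exact ⟨l.toHomUnits, hc⟩

theorem IsIrr.norm_central {χ : G → ℂ} (h : IsIrrCharacter G χ) {z : G}
    (hz : ∀ x, z * x * z⁻¹ * x⁻¹ ∈ cfker χ) : ‖χ z‖ = deg χ := by
  obtain ⟨c, hc⟩ := IsIrr.exists_central_scalar h hz
  have h1 : ∀ n : ℕ, χ (z ^ n) = c ^ n * χ 1 := by
    intro n
    induction n with
    | zero => simp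
    | succ n ih => rw [pow_succ', hc, ih]; ring
  have h2 := h1 (orderOf z)
  rw [pow_orderOf_eq_one] at h2
  have h3 : c ^ orderOf z = 1 :=
    mul_right_cancel₀ (IsIrr.deg_ne_zero h) (by rw [← h2, one_mul])
  have h4 := Complex.norm_eq_one_of_pow_eq_one h3 (orderOf_pos z).ne'
  have h5 := h1 1
  rw [pow_one, pow_one] at h5
  rw [h5, norm_mul, h4, one_mul, ← IsIrr.coe_deg h, Complex.norm_natCast]

/-- If `|χ g| = χ 1` then `g` acts as a scalar. -/
theorem IsChar.exists_scalar_of_norm {χ : G → ℂ} (h : IsCharacter G χ) {g : G}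
    (hg : ‖χ g‖ = deg χ) : ∃ c : ℂ, c ^ orderOf g = 1 ∧ ∀ x, χ (g * x) = c * χ x := by
  by_cases h0 : χ = 0
  · exact ⟨1, one_pow _, by simp [h0]⟩
  have hd := IsChar.deg_pos h h0
  have hd' := IsChar.coe_deg h
  obtain ⟨n, ρ, rfl⟩ := h
  obtain ⟨s, h1, -, -⟩ := rep_exists_multiset_lin (G := Subgroup.zpowers g)
    (ρ.comp (Subgroup.zpowers g).subtype)
  let g' : Subgroup.zpowers g := ⟨g, Subgroup.mem_zpowers g⟩
  have e1 := congrFun h1 g'
  have e2 := congrFun h1 1
  rw [Pi.multiset_sum_apply, Multiset.map_map] at e1 e2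
  have e3 : ρ.character 1 = s.card := by simpa [Function.comp_def] using e2
  have e4 : ρ.character g = (s.map fun l => lin l g').sum := e1
  have e5 : deg ρ.character = s.card := deg_eq e3
  set c := ρ.character g / deg ρ.character with hc
  have hd0 : (deg ρ.character : ℂ) ≠ 0 := Nat.cast_ne_zero.mpr hd.ne'
  have hcn : ‖c‖ = 1 := by
    rw [hc, norm_div, hg, Complex.norm_natCast, div_self (Nat.cast_ne_zero.mpr hd.ne')]
  have hc0 : c ≠ 0 := by rintro e; simp [e] at hcn
  have := multiset_eq_one_of_sum (s := s.map fun l => lin l g' / c) (by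
    intro z hz
    obtain ⟨l, -, rfl⟩ := Multiset.mem_map.mp hz
    rw [norm_div, norm_lin, hcn, div_one]) (by
    simp only [div_eq_mul_inv]
    rw [Multiset.sum_map_mul_right, ← e4, Multiset.card_map, ← e5, ← div_eq_mul_inv,
      div_eq_iff hc0, hc]
    field_simp)
  have hall : ∀ l ∈ s, lin l g' = c := fun l hl => by
    have := this _ (Multiset.mem_map_of_mem _ hl)
    rwa [div_eq_one_iff_eq hc0] at this
  obtain ⟨l0, hl0⟩ := Multiset.card_pos_iff_exists_mem.mp (e5 ▸ hd)
  have h2 : repTwist l0⁻¹ (ρ.comp (Subgroup.zpowers g).subtype) g' = 1 := by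
    apply rep_eq_one_of_character
    rw [repTwist_character]
    change lin l0⁻¹ g' * ρ.character g = lin l0⁻¹ 1 * ρ.character 1
    have : lin l0⁻¹ g' = c⁻¹ := by rw [← hall l0 hl0]; simp
    rw [this, ← hd', hc]
    have : ρ.character g ≠ 0 := by rintro e; simp [hc, e] at hc0
    simp only [lin_apply, map_one, Units.val_one]
    field_simp
  have h3 : ρ g = c • 1 := by
    have : ((l0⁻¹ g' : ℂˣ) : ℂ) • ρ g = 1 := h2
    rw [← this, smul_smul, ← hall l0 hl0]
    simp
  refine ⟨c, ?_, fun x => ?_⟩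
  · rw [← hall l0 hl0, ← Subgroup.orderOf_mk g (Subgroup.mem_zpowers g)]
    exact lin_pow_orderOf l0 g'
  · simp [Representation.character, h3]

end Ker

section Infl

variable {G Q : Type*} [Group G] [Finite G] [Group Q] [Finite Q]

omit [Finite G] [Finite Q] in
theorem exists_comp_of_ker_le {f : G →* Q} (hf : Function.Surjective f) {θ : G → ℂ}
    (h : f.ker ≤ cfker θ) : ∃ ψ : Q → ℂ, θ = ψ ∘ f := by
  refine ⟨θ ∘ Function.surjInv hf, ?_⟩
  ext g
  have : g * (Function.surjInv hf (f g))⁻¹ ∈ f.ker := by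
    simp [MonoidHom.mem_ker, Function.surjInv_eq hf]
  simpa using cfker_mul (h this) (Function.surjInv hf (f g))

omit [Finite G] [Finite Q] in
theorem CF_of_comp_surj {f : G →* Q} (hf : Function.Surjective f) {ψ : Q → ℂ}
    (h : ψ ∘ f ∈ CF G) : ψ ∈ CF Q := by
  intro g x
  obtain ⟨g, rfl⟩ := hf g
  obtain ⟨x, rfl⟩ := hf x
  simpa using h g x

theorem ind_comp_surj_self {f : G →* Q} (hf : Function.Surjective f) {ψ : Q → ℂ}
    (h : ψ ∈ CF Q) : ind f (ψ ∘ f) = ψ :=
  (ind_comp_surj (MonoidHom.id Q) f hf ψ).trans (ind_id h)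

theorem IsChar.of_comp_surj {f : G →* Q} (hf : Function.Surjective f) {ψ : Q → ℂ}
    (h : IsCharacter G (ψ ∘ f)) : IsCharacter Q ψ := by
  rw [← ind_comp_surj_self hf (CF_of_comp_surj hf (IsChar.mem_CF h))]
  exact IsChar.ind h f

theorem ZIrr.of_comp_surj {f : G →* Q} (hf : Function.Surjective f) {ψ : Q → ℂ}
    (h : ψ ∘ f ∈ ZIrr G) : ψ ∈ ZIrr Q := by
  rw [← ind_comp_surj_self hf (CF_of_comp_surj hf (ZIrr.mem_CF h))]
  exact ZIrr.ind h f

theorem IsIrr.of_comp_surj {f : G →* Q} (hf : Function.Surjective f) {ψ : Q → ℂ}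
    (h : IsIrrCharacter G (ψ ∘ f)) : IsIrrCharacter Q ψ :=
  IsChar.irr_of_dot_self (IsChar.of_comp_surj hf (IsIrr.isChar h))
    (by rw [← dot_comp_surj f hf, IsIrr.dot_self h])

theorem IsIrr.exists_infl {f : G →* Q} (hf : Function.Surjective f) {χ : G → ℂ}
    (h : IsIrrCharacter G χ) (hk : f.ker ≤ cfker χ) : ∃ ψ, IsIrrCharacter Q ψ ∧ χ = ψ ∘ f := by
  obtain ⟨ψ, rfl⟩ := exists_comp_of_ker_le hf hk
  exact ⟨ψ, IsIrr.of_comp_surj hf h, rfl⟩

theorem IsIrr.exists_infl_quot (N : Subgroup G) [N.Normal] {χ : G → ℂ}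
    (h : IsIrrCharacter G χ) (hk : N ≤ cfker χ) :
    ∃ ψ, IsIrrCharacter (G ⧸ N) ψ ∧ χ = ψ ∘ QuotientGroup.mk' N :=
  IsIrr.exists_infl (QuotientGroup.mk'_surjective N) h (by rwa [QuotientGroup.ker_mk'])

omit [Finite G] [Finite Q] in
theorem comp_surj_injective {f : G →* Q} (hf : Function.Surjective f) :
    Function.Injective (fun ψ : Q → ℂ => ψ ∘ f) := hf.injective_comp_right

open Classical in
theorem irr_filter_ker {f : G →* Q} (hf : Function.Surjective f) :
    (irr G).filter (fun χ => f.ker ≤ cfker χ) = (irr Q).image (fun ψ => ψ ∘ f) := by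
  ext χ
  simp only [Finset.mem_filter, mem_irr, Finset.mem_image]
  constructor
  · rintro ⟨h, hk⟩
    obtain ⟨ψ, hψ, rfl⟩ := IsIrr.exists_infl hf h hk
    exact ⟨ψ, hψ, rfl⟩
  · rintro ⟨ψ, hψ, rfl⟩
    exact ⟨IsIrr.comp_surj hψ f hf, ker_le_cfker_comp ψ f⟩

open Classical in
theorem sum_irr_filter_ker {f : G →* Q} (hf : Function.Surjective f) {M : Type*} [AddCommMonoid M]
    (F : (G → ℂ) → M) :
    ∑ χ ∈ (irr G).filter (fun χ => f.ker ≤ cfker χ), F χ = ∑ ψ ∈ irr Q, F (ψ ∘ f) := by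
  rw [irr_filter_ker hf, Finset.sum_image (fun a _ b _ e => comp_surj_injective hf e)]

open Classical in
theorem sum_deg_mul_irr_ker (N : Subgroup G) [N.Normal] (g : G) :
    ∑ χ ∈ (irr G).filter (fun χ => N ≤ cfker χ), χ 1 * χ g =
      if g ∈ N then (N.index : ℂ) else 0 := by
  have := sum_irr_filter_ker (QuotientGroup.mk'_surjective N) (fun χ => χ 1 * χ g)
  rw [QuotientGroup.ker_mk'] at this
  rw [this]
  simp only [Function.comp_apply, map_one]
  rw [sum_deg_mul_irr]
  simp only [QuotientGroup.mk'_apply, QuotientGroup.eq_one_iff]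
  rfl

open Classical in
theorem sum_deg_sq_ker (N : Subgroup G) [N.Normal] :
    ∑ χ ∈ (irr G).filter (fun χ => N ≤ cfker χ), deg χ ^ 2 = N.index := by
  have := sum_deg_mul_irr_ker N 1
  rw [if_pos N.one_mem, Finset.sum_congr rfl (fun χ hχ => by
    rw [← IsIrr.coe_deg (mem_irr.mp (Finset.mem_filter.mp hχ).1), ← sq])] at this
  exact_mod_cast this

theorem IsIrr.deg_dvd_index {χ : G → ℂ} (h : IsIrrCharacter G χ) (N : Subgroup G) [N.Normal]
    (hk : N ≤ cfker χ) : deg χ ∣ N.index := by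
  obtain ⟨ψ, hψ, rfl⟩ := IsIrr.exists_infl_quot N h hk
  rw [deg_comp]
  exact IsIrr.deg_dvd_card hψ

theorem IsIrr.exists_lin_of_commutator {χ : G → ℂ} (h : IsIrrCharacter G χ)
    (hk : commutator G ≤ cfker χ) : ∃ l : G →* ℂˣ, χ = lin l := by
  obtain ⟨ψ, hψ, rfl⟩ := IsIrr.exists_infl (f := Abelianization.of)
    (QuotientGroup.mk'_surjective _) h (by rwa [Abelianization.ker_of])
  obtain ⟨l, rfl⟩ := IsIrr.exists_lin hψ
  exact ⟨l.comp _, rfl⟩

theorem IsIrr.exists_lin_of_comm {χ : G → ℂ} (h : IsIrrCharacter G χ)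
    (hk : ∀ x y, x * y * x⁻¹ * y⁻¹ ∈ cfker χ) : ∃ l : G →* ℂˣ, χ = lin l := by
  apply IsIrr.exists_lin_of_commutator h
  rw [commutator_def, Subgroup.commutator_le]
  intro x _ y _
  exact hk x y

/-- a proper normal subgroup lies in the kernel of a nonprincipal irreducible character -/
theorem exists_irr_ne_one_ker (N : Subgroup G) [N.Normal] (hN : N ≠ ⊤) :
    ∃ χ, IsIrrCharacter G χ ∧ χ ≠ 1 ∧ N ≤ cfker χ := by
  obtain ⟨g, hg⟩ : ∃ g, g ∉ N := by
    by_contra h
    push Not at h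
    exact hN (eq_top_iff.mpr fun g _ => h g)
  have : QuotientGroup.mk' N g ≠ 1 := by simpa using hg
  obtain ⟨ψ, hψ, h⟩ := exists_irr_ne_deg this
  refine ⟨ψ ∘ QuotientGroup.mk' N, IsIrr.comp_surj hψ _ (QuotientGroup.mk'_surjective N), ?_, ?_⟩
  · intro e
    apply h
    have e1 := congrFun e g
    have e2 := congrFun e 1
    simp only [Function.comp_apply, map_one] at e1 e2
    rw [e1, e2]; rfl
  · simpa using ker_le_cfker_comp ψ (QuotientGroup.mk' N)

theorem exists_irr_not_mem_ker (N : Subgroup G) [N.Normal] {g : G} (hg : g ∉ N) :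
    ∃ χ, IsIrrCharacter G χ ∧ N ≤ cfker χ ∧ g ∉ cfker χ := by
  have : QuotientGroup.mk' N g ≠ 1 := by simpa using hg
  obtain ⟨ψ, hψ, h⟩ := exists_irr_ne_deg this
  refine ⟨ψ ∘ QuotientGroup.mk' N, IsIrr.comp_surj hψ _ (QuotientGroup.mk'_surjective N), ?_, ?_⟩
  · simpa using ker_le_cfker_comp ψ (QuotientGroup.mk' N)
  · intro e
    exact h (by simpa using cfker_apply e)

end Infl

section Lin

variable {G : Type*} [Group G] [Finite G]

open Classical in
theorem dot_lin (a b : G →* ℂˣ) : ⟪lin a, lin b⟫ = if a = b then 1 else 0 := by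
  rw [IsIrr.dot_eq (lin_irr a) (lin_irr b)]
  simp

theorem card_lin [IsMulCommutative G] : Nat.card (G →* ℂˣ) = Nat.card G := by
  letI : CommGroup G := { mul_comm := mul_comm' }
  haveI : NeZero (Monoid.exponent G) := ⟨Monoid.exponent_ne_zero_of_finite⟩
  exact CommGroup.card_monoidHom_of_hasEnoughRootsOfUnity G ℂ

theorem exists_lin_ne_one [IsMulCommutative G] {g : G} (hg : g ≠ 1) :
    ∃ l : G →* ℂˣ, l g ≠ 1 := by
  obtain ⟨χ, hχ, h⟩ := exists_irr_ne_deg hg
  obtain ⟨l, rfl⟩ := IsIrr.exists_lin hχ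
  exact ⟨l, fun e => h (by simp [e])⟩

open Classical in
theorem irr_eq_image_lin [IsMulCommutative G] [Fintype (G →* ℂˣ)] :
    irr G = Finset.univ.image lin := by
  ext χ
  simp only [mem_irr, Finset.mem_image, Finset.mem_univ, true_and]
  exact ⟨fun h => (IsIrr.exists_lin h).imp fun l e => e.symm, by rintro ⟨l, rfl⟩; exact lin_irr l⟩

theorem sum_irr_lin [IsMulCommutative G] [Fintype (G →* ℂˣ)] {M : Type*} [AddCommMonoid M]
    (F : (G → ℂ) → M) : ∑ χ ∈ irr G, F χ = ∑ l : G →* ℂˣ, F (lin l) := by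
  classical
  rw [irr_eq_image_lin, Finset.sum_image (fun a _ b _ e => lin_injective e)]

theorem sum_lin_apply [IsMulCommutative G] [Fintype (G →* ℂˣ)] (g : G) [Decidable (g = 1)] :
    ∑ l : G →* ℂˣ, (l g : ℂ) = if g = 1 then (Nat.card G : ℂ) else 0 := by
  rw [← sum_deg_mul_irr, sum_irr_lin]
  simp

theorem lin_expand [IsMulCommutative G] [Fintype (G →* ℂˣ)] (θ : G → ℂ) :
    θ = ∑ l : G →* ℂˣ, ⟪θ, lin l⟫ • lin l := by
  rw [← sum_irr_lin (fun χ => ⟪θ, χ⟫ • χ)]
  exact CF_expand (CF_of_comm θ)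

theorem sum_lin_eq_zero [Fintype G] {l : G →* ℂˣ} (h : l ≠ 1) : ∑ g, (l g : ℂ) = 0 := by
  classical
  have := dot_lin l 1
  rw [if_neg h, dot_def, mul_eq_zero] at this
  rcases this with h | h
  · exact absurd (inv_eq_zero.mp h) card_ne_zero
  · simpa using h

/-- linear characters of a subgroup of an abelian group extend -/
theorem exists_lin_extend {H : Type*} [Group H] [Finite H] [IsMulCommutative G] {f : H →* G}
    (hf : Function.Injective f) (l : H →* ℂˣ) : ∃ m : G →* ℂˣ, m.comp f = l := by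
  obtain ⟨χ, hχ, h⟩ := exists_constt_ind hf (lin_irr l)
  obtain ⟨m, rfl⟩ := IsIrr.exists_lin hχ
  exact ⟨m, lin_injective (IsIrr.eq_of_dot_ne_zero (lin_irr (m.comp f)) (lin_irr l) h)⟩

end Lin

section Det

variable {G : Type*} [Group G]

open Classical in
/-- The determinant of a character (trivial for non-characters). -/
noncomputable def cfDet (χ : G → ℂ) : G →* ℂˣ :=
  if h : IsCharacter G χ then repDet h.choose_spec.choose else 1

theorem multiset_lin_ext [Finite G] {s t : Multiset (G →* ℂˣ)}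
    (h : (s.map lin).sum = (t.map lin).sum) : s = t := by
  classical
  have key : ∀ (s : Multiset (G →* ℂˣ)) l, ⟪(s.map lin).sum, lin l⟫ = s.count l := by
    intro s l
    induction s using Multiset.induction_on with
    | empty => simp
    | cons a s ih =>
      rw [Multiset.map_cons, Multiset.sum_cons, dot_add_left, ih, dot_lin, Multiset.count_cons]
      by_cases e : a = l
      · simp [e, add_comm]
      · simp [e, Ne.symm e]
  ext l
  have := key s l
  rw [h, key] at this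
  exact_mod_cast this.symm

variable [Finite G]

theorem repDet_eq_of_character {V W : Type*} [AddCommGroup V] [Module ℂ V] [FiniteDimensional ℂ V]
    [AddCommGroup W] [Module ℂ W] [FiniteDimensional ℂ W] (ρ : Representation ℂ G V)
    (σ : Representation ℂ G W) (h : ρ.character = σ.character) : repDet ρ = repDet σ := by
  ext g
  obtain ⟨s, h1, h2, -⟩ := rep_exists_multiset_lin (G := Subgroup.zpowers g)
    (ρ.comp (Subgroup.zpowers g).subtype)
  obtain ⟨t, h3, h4, -⟩ := rep_exists_multiset_lin (G := Subgroup.zpowers g)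
    (σ.comp (Subgroup.zpowers g).subtype)
  have : s = t := multiset_lin_ext (by
    rw [← h1, ← h3]
    ext x
    exact congrFun h x)
  rw [← this, ← h2] at h4
  exact congrArg Units.val (DFunLike.congr_fun h4.symm ⟨g, Subgroup.mem_zpowers g⟩)

theorem cfDet_rep {V : Type*} [AddCommGroup V] [Module ℂ V] [FiniteDimensional ℂ V]
    (ρ : Representation ℂ G V) : cfDet ρ.character = repDet ρ := by
  have h := isCharacter_of_rep ρ
  rw [cfDet, dif_pos h]
  exact repDet_eq_of_character _ _ h.choose_spec.choose_spec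

theorem cfDet_comp {H : Type*} [Group H] [Finite H] {χ : G → ℂ} (h : IsCharacter G χ)
    (f : H →* G) : cfDet (χ ∘ f) = (cfDet χ).comp f := by
  obtain ⟨n, ρ, rfl⟩ := h
  rw [cfDet_rep]
  refine (cfDet_rep (ρ.comp f)).trans ?_
  ext g; rfl

theorem cfDet_lin_mul {χ : G → ℂ} (h : IsCharacter G χ) (l : G →* ℂˣ) :
    cfDet (lin l * χ) = l ^ deg χ * cfDet χ := by
  obtain ⟨n, ρ, rfl⟩ := h
  rw [← repTwist_character, cfDet_rep, cfDet_rep, deg_eq ρ.char_one]
  ext g
  simp [repDet_apply, repTwist]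

theorem cfDet_lin (l : G →* ℂˣ) : cfDet (lin l) = l := by
  have h : lin l = (linRep l).character := by
    ext g; simp [Representation.character, linRep]
  rw [h, cfDet_rep]
  ext g
  simp [repDet_apply, linRep]

theorem cfDet_add {χ ψ : G → ℂ} (h : IsCharacter G χ) (h' : IsCharacter G ψ) :
    cfDet (χ + ψ) = cfDet χ * cfDet ψ := by
  obtain ⟨n, ρ, rfl⟩ := h
  obtain ⟨m, σ, rfl⟩ := h'
  have : ρ.character + σ.character = (ρ.prod σ).character := by
    ext g
    simp only [Representation.character, Pi.add_apply]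
    rw [← LinearMap.trace_prodMap']
    rfl
  rw [this, cfDet_rep, cfDet_rep, cfDet_rep]
  ext g
  exact LinearMap.det_prodMap (ρ g) (σ g)

end Det

theorem realizeEqns_Char_Ker : True := by
  have := @CA.Chr.repTwist.eq_1.{0,0}
  have := @CA.Chr.repTwist.eq_def.{0,0}
  have := @CA.Chr.repTwist.congr_simp.{0,0}
  have := @CA.Chr.cfker.eq_1.{0}
  have := @CA.Chr.cfker.eq_def.{0}
  have := @CA.Chr.cfker.congr_simp.{0}
  have := @CA.Chr.cfDet.eq_1.{0}
  have := @CA.Chr.cfDet.eq_def.{0}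
  have := @CA.Chr.cfDet.congr_simp.{0}
  trivial

end CA.Chr
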