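import Cfsg.Agent.Char.Ind

/-!
# Field automorphisms of `ℂ` acting on characters; integrality of character values
-/

set_option autoImplicit false

open scoped ComplexConjugate
open Cfsg

namespace CA.Chr

section AutC

theorem exists_extend_aut (F : IntermediateField ℚ ℂ) (τ : F ≃+* F) :
    ∃ σ : ℂ ≃+* ℂ, ∀ x : F, σ x = τ x := by
  obtain ⟨s, hs⟩ := exists_isTranscendenceBasis F ℂ
  letI := IsAlgClosed.isAlgClosure_of_transcendence_basis _ hs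
  let a := hs.1.aevalEquiv
  let e : Algebra.adjoin F (Set.range (Subtype.val : s → ℂ)) ≃+*
      Algebra.adjoin F (Set.range (Subtype.val : s → ℂ)) :=
    a.symm.toRingEquiv.trans ((MvPolynomial.mapEquiv s τ).trans a.toRingEquiv)
  refine ⟨IsAlgClosure.equivOfEquiv ℂ ℂ e, fun x => ?_⟩
  have h1 := IsAlgClosure.equivOfEquiv_algebraMap ℂ ℂ e (algebraMap F _ x)
  have h2 : e (algebraMap F _ x) = algebraMap F _ (τ x) := by
    simp only [e, RingEquiv.trans_apply, AlgEquiv.coe_ringEquiv, AlgEquiv.commutes,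
      MvPolynomial.mapEquiv_apply, MvPolynomial.algebraMap_eq, MvPolynomial.map_C]
    rw [← MvPolynomial.algebraMap_eq, AlgEquiv.commutes]
    rfl
  rw [h2] at h1
  exact h1

theorem exists_aut_of_isConjRoot {x y : ℂ} (hx : IsAlgebraic ℚ x) (h : IsConjRoot ℚ x y) :
    ∃ σ : ℂ ≃+* ℂ, σ x = y := by
  let F := algebraicClosure ℚ ℂ
  haveI : IsAlgClosure ℚ F := algebraicClosure.isAlgClosure ℚ ℂ
  have hy : IsAlgebraic ℚ y := (h.isIntegral hx.isIntegral).isAlgebraic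
  let x' : F := ⟨x, (mem_algebraicClosure_iff).mpr hx⟩
  let y' : F := ⟨y, (mem_algebraicClosure_iff).mpr hy⟩
  have h' : IsConjRoot ℚ y' x' :=
    (isConjRoot_algHom_iff_of_injective (f := F.val) Subtype.val_injective).mp h.symm
  obtain ⟨τ, hτ⟩ := h'.exists_algEquiv
  obtain ⟨σ, hσ⟩ := exists_extend_aut F τ.toRingEquiv
  exact ⟨σ, (hσ x').trans (congrArg Subtype.val hτ)⟩

theorem exists_aut_pow {n k : ℕ} (hn : n ≠ 0) (hk : k.Coprime n) :
    ∃ σ : ℂ ≃+* ℂ, ∀ ζ : ℂ, ζ ^ n = 1 → σ ζ = ζ ^ k := by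
  have h := Complex.isPrimitiveRoot_exp n hn
  set μ := Complex.exp (2 * Real.pi * Complex.I / n)
  have h' : IsPrimitiveRoot (μ ^ k) n := h.pow_of_coprime k hk
  have hc : IsConjRoot ℚ μ (μ ^ k) := by
    rw [IsConjRoot, ← Polynomial.cyclotomic_eq_minpoly_rat h (Nat.pos_of_ne_zero hn),
      ← Polynomial.cyclotomic_eq_minpoly_rat h' (Nat.pos_of_ne_zero hn)]
  have ha : IsAlgebraic ℚ μ :=
    ((h.isIntegral (Nat.pos_of_ne_zero hn)).tower_top (A := ℚ)).isAlgebraic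
  obtain ⟨σ, hσ⟩ := exists_aut_of_isConjRoot ha hc
  refine ⟨σ, fun ζ hζ => ?_⟩
  haveI : NeZero n := ⟨hn⟩
  obtain ⟨i, -, rfl⟩ := h.eq_pow_of_pow_eq_one hζ
  rw [map_pow, hσ, ← pow_mul, ← pow_mul, mul_comm]

/-- every automorphism acts on `n`-th roots of unity as a power coprime to `n` -/
theorem aut_exists_pow (σ : ℂ →+* ℂ) {n : ℕ} (hn : n ≠ 0) :
    ∃ k : ℕ, k.Coprime n ∧ ∀ ζ : ℂ, ζ ^ n = 1 → σ ζ = ζ ^ k := by
  have h := Complex.isPrimitiveRoot_exp n hn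
  set μ := Complex.exp (2 * Real.pi * Complex.I / n)
  haveI : NeZero n := ⟨hn⟩
  have h' : IsPrimitiveRoot (σ μ) n := h.map_of_injective σ.injective
  obtain ⟨k, -, hk⟩ := h.eq_pow_of_pow_eq_one h'.pow_eq_one
  refine ⟨k, ?_, fun ζ hζ => ?_⟩
  · rw [← hk] at h'
    exact (h.pow_iff_coprime (Nat.pos_of_ne_zero hn) k).mp h'
  · obtain ⟨i, -, rfl⟩ := h.eq_pow_of_pow_eq_one hζ
    rw [map_pow, ← hk, ← pow_mul, ← pow_mul, mul_comm]

theorem int_of_isIntegral_of_rat {z : ℂ} (hz : IsIntegral ℤ z) (hq : ∃ q : ℚ, z = q) :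
    ∃ n : ℤ, z = n := by
  obtain ⟨q, rfl⟩ := hq
  have : IsIntegral ℤ q :=
    (isIntegral_algebraMap_iff (A := ℚ) (B := ℂ) (algebraMap ℚ ℂ).injective).mp hz
  obtain ⟨n, hn⟩ := IsIntegrallyClosed.isIntegral_iff.mp this
  exact ⟨n, by rw [← hn]; simp⟩

theorem rat_of_aut_fixed {z : ℂ} (hz : IsAlgebraic ℚ z) (h : ∀ σ : ℂ ≃+* ℂ, σ z = z) :
    ∃ q : ℚ, z = q := by
  by_contra hq
  have h1 : z ∉ (⊥ : Subalgebra ℚ ℂ) := by
    intro h2
    obtain ⟨q, hq'⟩ := Algebra.mem_bot.mp h2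
    exact hq ⟨q, by rw [← hq']; simp⟩
  have hsep : IsSeparable ℚ z := (minpoly.irreducible hz.isIntegral).separable
  obtain ⟨y, hne, hy⟩ := (notMem_iff_exists_ne_and_isConjRoot hsep (IsAlgClosed.splits _)).mp h1
  obtain ⟨σ, hσ⟩ := exists_aut_of_isConjRoot hz hy
  exact hne ((h σ).symm.trans hσ)

theorem int_of_aut_fixed {z : ℂ} (hz : IsIntegral ℤ z) (h : ∀ σ : ℂ ≃+* ℂ, σ z = z) :
    ∃ n : ℤ, z = n :=
  int_of_isIntegral_of_rat hz (rat_of_aut_fixed (hz.tower_top (A := ℚ)).isAlgebraic h)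

theorem isIntegral_of_pow_eq_one {z : ℂ} {n : ℕ} (hn : n ≠ 0) (h : z ^ n = 1) :
    IsIntegral ℤ z := IsIntegral.of_pow (Nat.pos_of_ne_zero hn) (h ▸ isIntegral_one)

theorem int_dvd_of_isIntegral_div {a b : ℤ} (hb : b ≠ 0) (h : IsIntegral ℤ ((a : ℂ) / b)) :
    b ∣ a := by
  obtain ⟨n, hn⟩ := int_of_isIntegral_of_rat h ⟨a / b, by push_cast; rfl⟩
  rw [div_eq_iff (Int.cast_ne_zero.mpr hb)] at hn
  exact ⟨n, by rw [mul_comm]; exact_mod_cast hn⟩

end AutC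

variable {G : Type*} [Group G]

theorem IsChar.map {χ : G → ℂ} (h : IsCharacter G χ) (σ : ℂ →+* ℂ) : IsCharacter G (σ ∘ χ) := by
  obtain ⟨n, ρ, rfl⟩ := h
  let ρ' : Representation ℂ G (Fin n → ℂ) :=
    (Matrix.toLinAlgEquiv' (R := ℂ) (n := Fin n)).toMulEquiv.toMonoidHom.comp
      ((σ.mapMatrix (m := Fin n)).toMonoidHom.comp
        ((LinearMap.toMatrixAlgEquiv' (R := ℂ) (n := Fin n)).toMulEquiv.toMonoidHom.comp ρ))
  refine ⟨n, ρ', ?_⟩
  ext g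
  have h1 : ρ'.character g = Matrix.trace ((LinearMap.toMatrix' (ρ g)).map σ) :=
    Matrix.trace_toLin'_eq _
  rw [h1, ← AddMonoidHom.map_trace, Function.comp_apply]
  congr 1
  rw [← Matrix.trace_toLin'_eq, Matrix.toLin'_toMatrix']
  rfl

theorem map_comp_add (σ : ℂ →+* ℂ) {X : Type*} (a b : X → ℂ) : σ ∘ (a + b) = σ ∘ a + σ ∘ b := by
  ext; simp

theorem map_comp_sub (σ : ℂ →+* ℂ) {X : Type*} (a b : X → ℂ) : σ ∘ (a - b) = σ ∘ a - σ ∘ b := by
  ext; simp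

theorem map_comp_neg (σ : ℂ →+* ℂ) {X : Type*} (a : X → ℂ) : σ ∘ (-a) = -(σ ∘ a) := by
  ext; simp

theorem map_comp_smul (σ : ℂ →+* ℂ) {X : Type*} (c : ℂ) (a : X → ℂ) :
    σ ∘ (c • a) = σ c • (σ ∘ a) := by
  ext; simp

theorem map_comp_sum (σ : ℂ →+* ℂ) {X ι : Type*} (s : Finset ι) (a : ι → X → ℂ) :
    σ ∘ (∑ i ∈ s, a i) = ∑ i ∈ s, σ ∘ a i := by
  ext; simp

theorem map_comp_injective (σ : ℂ →+* ℂ) {X : Type*} :
    Function.Injective (fun a : X → ℂ => σ ∘ a) := fun a b h => by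
  ext x; exact σ.injective (congrFun h x)

theorem ZIrr.map {χ : G → ℂ} (h : χ ∈ ZIrr G) (σ : ℂ →+* ℂ) : σ ∘ χ ∈ ZIrr G := by
  obtain ⟨a, b, ha, hb, rfl⟩ := h
  exact ⟨_, _, IsChar.map ha σ, IsChar.map hb σ, map_comp_sub σ a b⟩

/-- the linear character `σ ∘ l` -/
def linMap (σ : ℂ →+* ℂ) (l : G →* ℂˣ) : G →* ℂˣ := (Units.map σ.toMonoidHom).comp l

theorem lin_linMap (σ : ℂ →+* ℂ) (l : G →* ℂˣ) : lin (linMap σ l) = σ ∘ lin l := rfl

variable [Finite G]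

theorem ZIrr.dot_map {ψ : G → ℂ} (h : ψ ∈ ZIrr G) (σ : ℂ →+* ℂ) (φ : G → ℂ) :
    ⟪σ ∘ φ, σ ∘ ψ⟫ = σ ⟪φ, ψ⟫ := by
  cases nonempty_fintype G
  simp only [dot_def, ← ZIrr.apply_inv h, ← ZIrr.apply_inv (ZIrr.map h σ)]
  simp only [Function.comp_apply, map_mul, map_inv₀, map_natCast, map_sum]

theorem ZIrr.dot_map_map {φ ψ : G → ℂ} (h' : φ ∈ ZIrr G) (h : ψ ∈ ZIrr G) (σ : ℂ →+* ℂ) :
    ⟪σ ∘ φ, σ ∘ ψ⟫ = ⟪φ, ψ⟫ := by
  obtain ⟨n, hn⟩ := ZIrr.dot_int h' h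
  rw [ZIrr.dot_map h, hn, map_intCast]

theorem IsIrr.map {χ : G → ℂ} (h : IsIrrCharacter G χ) (σ : ℂ →+* ℂ) :
    IsIrrCharacter G (σ ∘ χ) :=
  IsChar.irr_of_dot_self (IsChar.map (IsIrr.isChar h) σ)
    (by rw [ZIrr.dot_map (IsIrr.mem_ZIrr h), IsIrr.dot_self h, map_one])

theorem Dirr.map {χ : G → ℂ} (h : Dirr χ) (σ : ℂ →+* ℂ) : Dirr (σ ∘ χ) := by
  rcases h with h | h
  · exact Or.inl (IsIrr.map h σ)
  · exact Or.inr (by rw [← map_comp_neg]; exact IsIrr.map h σ)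

/-- eigenvalues of an element -/
theorem IsChar.exists_eigen {χ : G → ℂ} (h : IsCharacter G χ) (g : G) :
    ∃ s : Multiset ℂ, χ 1 = s.card ∧ (∀ z ∈ s, z ^ orderOf g = 1) ∧
      ∀ k : ℕ, χ (g ^ k) = (s.map (· ^ k)).sum := by
  obtain ⟨s, h1, hs⟩ := IsChar.exists_multiset_lin h (Subgroup.zpowers g).subtype
  let g' : Subgroup.zpowers g := ⟨g, Subgroup.mem_zpowers g⟩
  refine ⟨s.map fun l => (l g' : ℂ), by simpa using h1, ?_, fun k => ?_⟩
  · intro z hz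
    obtain ⟨l, -, rfl⟩ := Multiset.mem_map.mp hz
    have := lin_pow_orderOf l g'
    rwa [← Subgroup.orderOf_coe] at this
  · have := hs (g' ^ k)
    rw [Multiset.map_map]
    simpa using this

theorem IsChar.map_apply {χ : G → ℂ} (h : IsCharacter G χ) (σ : ℂ →+* ℂ) {g : G} {k : ℕ}
    (hσ : ∀ ζ : ℂ, ζ ^ orderOf g = 1 → σ ζ = ζ ^ k) : σ (χ g) = χ (g ^ k) := by
  obtain ⟨s, -, h1, h2⟩ := IsChar.exists_eigen h g
  have := h2 1
  rw [pow_one] at this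
  rw [this, h2 k, map_multiset_sum, Multiset.map_map]
  congr 1
  exact Multiset.map_congr rfl fun z hz => by simpa using hσ z (h1 z hz)

theorem ZIrr.map_apply {χ : G → ℂ} (h : χ ∈ ZIrr G) (σ : ℂ →+* ℂ) {g : G} {k : ℕ}
    (hσ : ∀ ζ : ℂ, ζ ^ orderOf g = 1 → σ ζ = ζ ^ k) : σ (χ g) = χ (g ^ k) := by
  obtain ⟨a, b, ha, hb, rfl⟩ := h
  simp only [Pi.sub_apply, map_sub, IsChar.map_apply ha σ hσ, IsChar.map_apply hb σ hσ]

theorem IsChar.isIntegral {χ : G → ℂ} (h : IsCharacter G χ) (g : G) : IsIntegral ℤ (χ g) := by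
  obtain ⟨s, -, h1, h2⟩ := IsChar.exists_eigen h g
  have := h2 1
  rw [pow_one] at this
  rw [this]
  apply IsIntegral.multiset_sum
  intro z hz
  obtain ⟨w, hw, rfl⟩ := Multiset.mem_map.mp hz
  exact (isIntegral_of_pow_eq_one (orderOf_pos g).ne' (h1 w hw)).pow _

theorem ZIrr.isIntegral {χ : G → ℂ} (h : χ ∈ ZIrr G) (g : G) : IsIntegral ℤ (χ g) := by
  obtain ⟨a, b, ha, hb, rfl⟩ := h
  exact (IsChar.isIntegral ha g).sub (IsChar.isIntegral hb g)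

theorem IsChar.norm_le {χ : G → ℂ} (h : IsCharacter G χ) (g : G) : ‖χ g‖ ≤ deg χ := by
  obtain ⟨s, h0, h1, h2⟩ := IsChar.exists_eigen h g
  have := h2 1
  rw [pow_one] at this
  rw [this, deg_eq h0]
  refine (norm_multiset_sum_le _).trans ?_
  rw [Multiset.map_map]
  have : s.map ((fun x => ‖x‖) ∘ fun x => x ^ 1) = s.map (fun _ => (1 : ℝ)) :=
    Multiset.map_congr rfl fun z hz => by
      simpa using Complex.norm_eq_one_of_pow_eq_one (h1 z hz) (orderOf_pos g).ne'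
  rw [this]; simp

/-- Given coprime `a`, `b` and `σ`, there is `τ` acting as `σ` on `a`-th roots of unity and trivially
on `b`-th roots of unity (Peterfalvi (1.9)(a)). -/
theorem exists_aut_coprime {a b : ℕ} (ha : a ≠ 0) (hb : b ≠ 0) (hab : a.Coprime b) {k : ℕ}
    (hk : k.Coprime a) :
    ∃ τ : ℂ ≃+* ℂ, (∀ ζ : ℂ, ζ ^ a = 1 → τ ζ = ζ ^ k) ∧ ∀ ζ : ℂ, ζ ^ b = 1 → τ ζ = ζ := by
  obtain ⟨m, hma, hmb⟩ := Nat.chineseRemainder hab k 1
  have hm : m.Coprime (a * b) := by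
    apply Nat.Coprime.mul_right
    · rw [Nat.Coprime, hma.gcd_eq]; exact hk
    · rw [Nat.Coprime, hmb.gcd_eq]; simp
  obtain ⟨τ, hτ⟩ := exists_aut_pow (mul_ne_zero ha hb) hm
  refine ⟨τ, fun ζ hζ => ?_, fun ζ hζ => ?_⟩
  · rw [hτ ζ (by rw [pow_mul, hζ, one_pow]), pow_eq_pow_mod m hζ, hma, ← pow_eq_pow_mod k hζ]
  · rw [hτ ζ (by rw [mul_comm, pow_mul, hζ, one_pow]), pow_eq_pow_mod m hζ, hmb,
      ← pow_eq_pow_mod 1 hζ, pow_one]

/-! ### central characters -/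

theorem IsIrr.isIntegral_central [Fintype G] {χ : G → ℂ} (h : IsIrrCharacter G χ) {f : G → ℂ}
    (hf : f ∈ CF G) (hi : ∀ g, IsIntegral ℤ (f g)) :
    IsIntegral ℤ ((∑ g, f g * χ g) / χ 1) := by
  have h0 := IsIrr.deg_ne_zero h
  obtain ⟨n, ρ, hρ, rfl⟩ := h
  obtain ⟨c, hc, hc'⟩ := sum_smul_rep_eq ρ hρ hf
  rw [← hc', mul_div_cancel_right₀ _ h0]
  let R := integralClosure ℤ ℂ
  let E := Module.End ℂ (Fin n → ℂ)
  have hnt : Nontrivial (Fin n → ℂ) := by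
    rw [ρ.char_one, Nat.cast_ne_zero] at h0
    exact Module.nontrivial_of_finrank_pos (R := ℂ) (Nat.pos_of_ne_zero h0)
  have hfg : (Subalgebra.toSubmodule (Algebra.adjoin R (Set.range (ρ : G → E)))).FG := by
    rw [Algebra.adjoin_eq_span]
    have : Submonoid.closure (Set.range (ρ : G → E)) = MonoidHom.mrange ρ := by
      rw [← MonoidHom.coe_mrange, Submonoid.closure_eq]
    rw [this]
    exact Submodule.fg_span (Set.finite_range _)
  have h1 : IsIntegral R (algebraMap ℂ E c) := by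
    apply IsIntegral.of_mem_of_fg _ hfg
    have : algebraMap ℂ E c = ∑ g, (⟨f g, hi g⟩ : R) • ρ g := by
      rw [Module.algebraMap_end_eq_smul_id, ← hc]; rfl
    rw [this]
    exact sum_mem fun g _ => Subalgebra.smul_mem _ (Algebra.subset_adjoin (Set.mem_range_self g)) _
  rw [isIntegral_algebraMap_iff (algebraMap ℂ E).injective] at h1
  exact isIntegral_trans (A := R) c h1

theorem IsIrr.deg_dvd_card {χ : G → ℂ} (h : IsIrrCharacter G χ) : deg χ ∣ Nat.card G := by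
  cases nonempty_fintype G
  have h1 := IsIrr.isIntegral_central h (CF_conjFun (IsIrr.mem_CF h))
    (IsChar.isIntegral (IsChar.conjFun (IsIrr.isChar h)))
  have h2 := IsIrr.dot_self h
  rw [dot_def, inv_mul_eq_one₀ card_ne_zero] at h2
  simp only [conjFun_apply, mul_comm (conj (χ _))] at h1
  rw [← h2, ← IsIrr.coe_deg h] at h1
  have := int_dvd_of_isIntegral_div (a := Nat.card G) (b := deg χ)
    (by exact_mod_cast (IsIrr.deg_pos h).ne') (by simpa only [Int.cast_natCast] using h1)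
  exact_mod_cast this

theorem IsIrr.sum_class_mul [Fintype G] {χ : G → ℂ} (h : IsIrrCharacter G χ) {f : G → ℂ}
    (hf : f ∈ CF G) (a : G) : χ 1 * ∑ g, f g * χ (a * g) = χ a * ∑ g, f g * χ g := by
  obtain ⟨n, ρ, hρ, rfl⟩ := h
  obtain ⟨c, hc, hc'⟩ := sum_smul_rep_eq ρ hρ hf
  have := congrArg (fun T => LinearMap.trace ℂ _ (ρ a * T)) hc
  simp only [Finset.mul_sum, map_sum, mul_smul_comm, map_smul, smul_eq_mul, ← map_mul] at this
  rw [← hc']
  change _ * ∑ g, f g * LinearMap.trace ℂ _ (ρ (a * g)) = _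
  rw [this]
  change _ * (c * ρ.character a) = _
  ring

theorem IsIrr.sum_conj_mul [Fintype G] {χ : G → ℂ} (h : IsIrrCharacter G χ) (a b : G) :
    χ 1 * ∑ x, χ (a * (x * b * x⁻¹)) = Nat.card G * (χ a * χ b) := by
  classical
  let F : G → ℂ := fun g => ∑ y : G, if y * b * y⁻¹ = g then 1 else 0
  have hF : F ∈ CF G := by
    intro x z
    refine (Fintype.sum_equiv (Equiv.mulLeft z) _ _ fun y => ?_).symm
    simp only [Equiv.coe_mulLeft]
    congr 1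
    apply propext
    constructor
    · rintro rfl; group
    · intro e
      have : y * b * y⁻¹ = z⁻¹ * (z * y * b * (z * y)⁻¹) * z := by group
      rw [this, e]; group
  have key : ∀ φ : G → ℂ, ∑ g, F g * φ g = ∑ y, φ (y * b * y⁻¹) := by
    intro φ
    simp only [F, Finset.sum_mul, ite_mul, one_mul, zero_mul]
    rw [Finset.sum_comm]
    simp
  have := IsIrr.sum_class_mul h hF a
  rw [key (fun g => χ (a * g)), key χ] at this
  rw [this]
  simp only [CF_conj (IsIrr.mem_CF h), Finset.sum_const, Finset.card_univ, nsmul_eq_mul,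
    Nat.card_eq_fintype_card]
  ring

theorem realizeEqns_Char_Aut : True := by
  have := @CA.Chr.linMap.eq_1.{0}
  have := @CA.Chr.linMap.eq_def.{0}
  have := @CA.Chr.linMap.congr_simp.{0}
  trivial

end CA.Chr
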