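import Cfsg.Agent.Char.Inertia

/-!
# Brauer's permutation lemma, characters of Frobenius groups, Peterfalvi (1.1), (1.2), (1.8)
-/

set_option autoImplicit false

open scoped ComplexConjugate
open Cfsg

namespace CA.Chr

variable {G : Type*} [Group G] [Finite G]

theorem card_class_mul_card_centralizer [Fintype G] (g : G) [DecidablePred (IsConj g)] :
    (Finset.univ.filter (IsConj g)).card * Nat.card (Subgroup.centralizer ({g} : Set G)) =
      Nat.card G := by
  classical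
  rw [Nat.card_eq_fintype_card (α := G), ← Finset.card_univ,
    Finset.card_eq_sum_card_fiberwise (f := fun y => y * g * y⁻¹) (s := Finset.univ)
      (t := Finset.univ.filter (IsConj g))
      (fun y _ => by simpa using isConj_iff.mpr ⟨y, rfl⟩), ← smul_eq_mul, ← Finset.sum_const]
  refine Finset.sum_congr rfl fun x hx => ?_
  rw [← card_conjugators (Finset.mem_filter.mp hx).2, Nat.card_eq_fintype_card,
    Fintype.card_subtype]

omit [Finite G] in
theorem card_centralizer_eq_of_isConj {g h : G} (hc : IsConj g h) :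
    Nat.card (Subgroup.centralizer ({g} : Set G)) = Nat.card (Subgroup.centralizer ({h} : Set G)) := by
  obtain ⟨x, rfl⟩ := isConj_iff.mp hc
  refine Nat.card_congr (Equiv.subtypeEquiv (MulAut.conj x).toEquiv fun y => ?_)
  simp only [Subgroup.mem_centralizer_singleton_iff, MulEquiv.toEquiv_eq_coe, EquivLike.coe_coe,
    MulAut.conj_apply]
  constructor
  · intro e
    calc x * y * x⁻¹ * (x * g * x⁻¹) = x * (y * g) * x⁻¹ := by group
      _ = x * g * x⁻¹ * (x * y * x⁻¹) := by rw [e]; group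
  · intro e
    calc y * g = x⁻¹ * (x * y * x⁻¹ * (x * g * x⁻¹)) * x := by group
      _ = g * y := by rw [e]; group

theorem sum_card_centralizer_mul [Fintype G] [Fintype (ConjClasses G)] (F : ConjClasses G → ℂ) :
    ∑ g : G, (Nat.card (Subgroup.centralizer ({g} : Set G)) : ℂ) * F (ConjClasses.mk g) =
      Nat.card G * ∑ C, F C := by
  classical
  rw [← Finset.sum_fiberwise (s := Finset.univ) (g := ConjClasses.mk), Finset.mul_sum]
  refine Finset.sum_congr rfl fun C _ => ?_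
  obtain ⟨g, rfl⟩ := ConjClasses.mk_surjective C
  have h1 : Finset.univ.filter (fun x => ConjClasses.mk x = ConjClasses.mk g) =
      Finset.univ.filter (IsConj g) := by
    ext x
    simp only [Finset.mem_filter, Finset.mem_univ, true_and, ConjClasses.mk_eq_mk_iff_isConj]
    exact isConj_comm
  rw [Finset.sum_congr rfl (g := fun _ =>
    (Nat.card (Subgroup.centralizer ({g} : Set G)) : ℂ) * F (ConjClasses.mk g)), Finset.sum_const,
    h1, nsmul_eq_mul, ← mul_assoc, ← Nat.cast_mul, card_class_mul_card_centralizer]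
  intro x hx
  have := (Finset.mem_filter.mp hx).2
  rw [this, card_centralizer_eq_of_isConj (ConjClasses.mk_eq_mk_iff_isConj.mp this)]

open Classical in
theorem card_fixed_irr_eq_sum [Fintype G] (a : G → G)
    (ha : ∀ χ, IsIrrCharacter G χ → IsIrrCharacter G (χ ∘ a)) :
    (((irr G).filter (fun χ => χ ∘ a = χ)).card : ℂ) * Nat.card G =
      ∑ g : G, if IsConj g (a g) then (Nat.card (Subgroup.centralizer ({g} : Set G)) : ℂ) else 0 := by
  have h1 : (((irr G).filter (fun χ => χ ∘ a = χ)).card : ℂ) = ∑ χ ∈ irr G, ⟪χ ∘ a, χ⟫ := by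
    rw [Finset.sum_congr rfl fun χ hχ => IsIrr.dot_eq (ha χ (mem_irr.mp hχ)) (mem_irr.mp hχ),
      Finset.sum_boole]
  rw [h1]
  simp only [dot_def, ← Finset.mul_sum, Function.comp_apply]
  rw [mul_comm, ← mul_assoc, mul_inv_cancel₀ card_ne_zero, one_mul, Finset.sum_comm]
  refine Finset.sum_congr rfl fun g _ => ?_
  split_ifs with h
  · exact second_orth_conj h
  · exact second_orth_not_conj h

open Classical in
/-- Brauer's permutation lemma -/
theorem brauer_perm (a : G ≃* G) :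
    ((irr G).filter (fun χ => χ ∘ a = χ)).card =
      Nat.card {C : ConjClasses G // ConjClasses.map a.toMonoidHom C = C} := by
  cases nonempty_fintype G
  have h1 := card_fixed_irr_eq_sum a (fun χ h => IsIrr.comp_equiv h a)
  have h2 := sum_card_centralizer_mul (G := G)
    (fun C => if ConjClasses.map a.toMonoidHom C = C then 1 else 0)
  have h3 : ∀ g : G, (if IsConj g (a g) then (Nat.card (Subgroup.centralizer ({g} : Set G)) : ℂ)
      else 0) = (Nat.card (Subgroup.centralizer ({g} : Set G)) : ℂ) *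
        (if ConjClasses.map a.toMonoidHom (ConjClasses.mk g) = ConjClasses.mk g then 1 else 0) := by
    intro g
    have : ConjClasses.map a.toMonoidHom (ConjClasses.mk g) = ConjClasses.mk (a g) := rfl
    simp only [this, ConjClasses.mk_eq_mk_iff_isConj, isConj_comm (g := a g)]
    split_ifs <;> simp
  rw [Finset.sum_congr rfl (fun g _ => h3 g), h2, mul_comm] at h1
  have h4 := mul_left_cancel₀ card_ne_zero h1
  rw [Finset.sum_boole] at h4
  rw [Nat.card_eq_fintype_card, Fintype.card_subtype]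
  convert Nat.cast_injective (R := ℂ) h4

variable (G) in
theorem card_irr : (irr G).card = Nat.card (ConjClasses G) := by
  classical
  have := brauer_perm (MulEquiv.refl G)
  rw [Finset.filter_true_of_mem (fun _ _ => by ext; rfl)] at this
  rw [this]
  apply Nat.card_congr
  refine Equiv.subtypeUnivEquiv fun C => ?_
  obtain ⟨g, rfl⟩ := ConjClasses.mk_surjective C
  rfl

theorem eq_one_of_fixed_of_no_fixed_class (a : G → G)
    (ha : ∀ χ, IsIrrCharacter G χ → IsIrrCharacter G (χ ∘ a))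
    (h : ∀ g, IsConj g (a g) → g = 1) {χ : G → ℂ} (hχ : IsIrrCharacter G χ) (e : χ ∘ a = χ) :
    χ = 1 := by
  classical
  cases nonempty_fintype G
  have h1 := card_fixed_irr_eq_sum a ha
  rw [Finset.sum_eq_single 1] at h1
  · have h2 : ((irr G).filter (fun χ => χ ∘ a = χ)).card ≤ 1 := by
      have h3 : Subgroup.centralizer ({1} : Set G) = ⊤ := by
        ext x; simp [Subgroup.mem_centralizer_singleton_iff]
      rw [h3, Subgroup.card_top] at h1
      split_ifs at h1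
      · have := mul_right_cancel₀ card_ne_zero (h1.trans (one_mul _).symm)
        exact (Nat.cast_eq_one.mp this).le
      · have := (mul_eq_zero.mp h1).resolve_right card_ne_zero
        rw [Nat.cast_eq_zero.mp this]; exact zero_le_one
    exact Finset.card_le_one.mp h2 χ (Finset.mem_filter.mpr ⟨mem_irr.mpr hχ, e⟩) 1
      (Finset.mem_filter.mpr ⟨one_mem_irr, rfl⟩)
  · intro g _ hg
    rw [if_neg (fun e => hg (h g e))]
  · simp

theorem exists_fixed_irr_of_fixed_class (a : G ≃* G) {g : G} (hg : g ≠ 1) (h : IsConj g (a g)) :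
    ∃ χ, IsIrrCharacter G χ ∧ χ ≠ 1 ∧ χ ∘ a = χ := by
  classical
  have h1 := brauer_perm a
  have h2 : 1 < Nat.card {C : ConjClasses G // ConjClasses.map a.toMonoidHom C = C} := by
    rw [Finite.one_lt_card_iff_nontrivial]
    refine ⟨⟨ConjClasses.mk g, ConjClasses.mk_eq_mk_iff_isConj.mpr h.symm⟩,
      ⟨ConjClasses.mk 1, ConjClasses.mk_eq_mk_iff_isConj.mpr (by simp)⟩, fun e => hg ?_⟩
    exact isConj_one_left.mp (ConjClasses.mk_eq_mk_iff_isConj.mp (congrArg Subtype.val e))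
  rw [← h1] at h2
  obtain ⟨χ, hχ, h3⟩ := Finset.exists_mem_ne h2 1
  rw [Finset.mem_filter, mem_irr] at hχ
  exact ⟨χ, hχ.1, h3, hχ.2⟩

theorem eq_one_of_isConj_inv (hodd : Odd (Nat.card G)) {g : G} (h : IsConj g g⁻¹) : g = 1 := by
  obtain ⟨x, hx⟩ := isConj_iff.mp h
  have hsq : ∀ y : G, ∃ k : ℕ, (y ^ 2) ^ k = y := by
    intro y
    obtain ⟨m, hm⟩ := hodd
    refine ⟨m + 1, ?_⟩
    rw [← pow_mul, show 2 * (m + 1) = Nat.card G + 1 by omega, pow_succ, pow_card_eq_one', one_mul]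
  have h2 : Commute (x ^ 2) g := by
    have : x ^ 2 * g * (x ^ 2)⁻¹ = g := by
      calc x ^ 2 * g * (x ^ 2)⁻¹ = x * (x * g * x⁻¹) * x⁻¹ := by rw [sq]; group
        _ = (x * g * x⁻¹)⁻¹ := by nth_rewrite 1 [hx]; group
        _ = g := by rw [hx, inv_inv]
    exact mul_inv_eq_iff_eq_mul.mp this
  obtain ⟨k, hk⟩ := hsq x
  have h3 : Commute x g := hk ▸ h2.pow_left k
  rw [h3.eq, mul_inv_cancel_right] at hx
  obtain ⟨l, hl⟩ := hsq g
  rw [← hl, sq]
  nth_rewrite 1 [hx]
  rw [inv_mul_cancel, one_pow]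

/-- Peterfalvi (1.1) -/
theorem IsIrr.eq_one_of_conj_eq (hodd : Odd (Nat.card G)) {χ : G → ℂ} (hχ : IsIrrCharacter G χ)
    (h : Cfsg.conjFun χ = χ) : χ = 1 := by
  have key : ∀ ψ, IsIrrCharacter G ψ → ψ ∘ (fun g => g⁻¹) = Cfsg.conjFun ψ := fun ψ hψ => by
    ext g; exact IsChar.apply_inv (IsIrr.isChar hψ) g
  apply eq_one_of_fixed_of_no_fixed_class (fun g => g⁻¹) _
    (fun g hg => eq_one_of_isConj_inv hodd hg) hχ (by rw [key χ hχ, h])
  intro ψ hψ
  rw [key ψ hψ]
  exact IsIrr.conjFun hψ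

theorem IsIrr.dot_conjFun_of_odd (hodd : Odd (Nat.card G)) {χ : G → ℂ} (hχ : IsIrrCharacter G χ)
    (h : χ ≠ 1) : ⟪χ, Cfsg.conjFun χ⟫ = 0 :=
  IsIrr.dot_ne hχ (IsIrr.conjFun hχ) fun e => h (IsIrr.eq_one_of_conj_eq hodd hχ e.symm)

theorem Dirr.dot_conjFun_of_odd (hodd : Odd (Nat.card G)) {χ : G → ℂ} (hχ : Dirr χ)
    (h : ⟪χ, 1⟫ = 0) : ⟪χ, Cfsg.conjFun χ⟫ = 0 := by
  rcases hχ with hχ | hχ
  · apply IsIrr.dot_conjFun_of_odd hodd hχ
    rintro rfl
    rw [dot_one_one] at h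
    exact one_ne_zero h
  · have := IsIrr.dot_conjFun_of_odd hodd hχ (by
      intro e
      have : χ = -1 := by rw [← e, neg_neg]
      rw [this, dot_neg_left, dot_one_one] at h
      simp at h)
    simpa [conjFun_neg, dot_neg_left, dot_neg_right] using this

section Normal

variable {H : Type*} [Group H] [Finite H] (f : H →* G) [hf : NormalInj f]

omit [Finite G] in
theorem not_mem_inertia_of_no_fixed_class {g : G} (h : ∀ x, IsConj x (cj f g x) → x = 1)
    {θ : H → ℂ} (hθ : IsIrrCharacter H θ) (h1 : θ ≠ 1) : g ∉ inertia f θ := fun e =>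
  h1 (eq_one_of_fixed_of_no_fixed_class (cj f g) (fun χ hχ => IsIrr.cj f hχ g) h hθ e)

omit [Finite G] in
/-- the inertia group of a nonprincipal character of a Frobenius kernel -/
theorem inertia_le_of_frobenius (hC : ∀ x : H, x ≠ 1 → ∀ g : G, g * f x = f x * g → g ∈ f.range)
    {θ : H → ℂ} (hθ : IsIrrCharacter H θ) (h1 : θ ≠ 1) : inertia f θ ≤ f.range := by
  intro g hg
  by_contra hn
  refine not_mem_inertia_of_no_fixed_class f (fun x hx => ?_) hθ h1 hg
  by_contra hx1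
  obtain ⟨y, hy⟩ := isConj_iff.mp hx
  have h2 := congrArg f hy
  rw [f_cj, map_mul, map_mul, map_inv] at h2
  have : (f y)⁻¹ * g ∈ f.range := by
    apply hC x hx1
    calc (f y)⁻¹ * g * f x = (f y)⁻¹ * (g * f x * g⁻¹) * g := by group
      _ = f x * ((f y)⁻¹ * g) := by rw [← h2]; group
  exact hn (by simpa using f.range.mul_mem ⟨y, rfl⟩ this)

theorem ind_irr_of_frobenius (hC : ∀ x : H, x ≠ 1 → ∀ g : G, g * f x = f x * g → g ∈ f.range)
    {θ : H → ℂ} (hθ : IsIrrCharacter H θ) (h1 : θ ≠ 1) : IsIrrCharacter G (ind f θ) :=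
  ind_irr_of_inertia_le f hθ (inertia_le_of_frobenius f hC hθ h1)

theorem exists_ind_of_frobenius (hC : ∀ x : H, x ≠ 1 → ∀ g : G, g * f x = f x * g → g ∈ f.range)
    {χ : G → ℂ} (hχ : IsIrrCharacter G χ) (h : ¬ f.range ≤ cfker χ) :
    ∃ θ, IsIrrCharacter H θ ∧ θ ≠ 1 ∧ χ = ind f θ := by
  obtain ⟨θ, hθ, h1, h2⟩ := exists_constt_res_ne_one f hχ h
  refine ⟨θ, hθ, h1, IsIrr.eq_of_dot_ne_zero hχ (ind_irr_of_frobenius f hC hθ h1) ?_⟩
  rwa [frob_rec' _ _ (IsIrr.mem_CF hχ)]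

omit [Finite G] in
/-- relative version: a fixed character with `N` in its kernel gives a class fixed modulo `N` -/
theorem exists_fixed_class_mod {g : G} (N : Subgroup H) [hN : N.Normal]
    (hNg : ∀ x ∈ N, cj f g x ∈ N) {θ : H → ℂ} (hθ : IsIrrCharacter H θ) (h1 : θ ≠ 1)
    (hk : N ≤ cfker θ) (hg : g ∈ inertia f θ) :
    ∃ x, x ∉ N ∧ ∃ y : H, (cj f g x)⁻¹ * (y * x * y⁻¹) ∈ N := by
  obtain ⟨ψ, hψ, rfl⟩ := IsIrr.exists_infl_quot N hθ hk
  let a : H ⧸ N →* H ⧸ N := QuotientGroup.map N N (cj f g).toMonoidHom hNg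
  have ha : Function.Surjective a := by
    intro y
    obtain ⟨y, rfl⟩ := QuotientGroup.mk'_surjective N y
    exact ⟨QuotientGroup.mk' N ((cj f g).symm y), by simp [a]⟩
  by_contra hn
  push Not at hn
  apply h1
  have : ψ = 1 := by
    apply eq_one_of_fixed_of_no_fixed_class a (fun χ hχ => IsIrr.comp_surj hχ a ha) _ hψ
    · apply comp_surj_injective (QuotientGroup.mk'_surjective N)
      exact hg
    · intro x hx
      obtain ⟨x, rfl⟩ := QuotientGroup.mk'_surjective N x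
      obtain ⟨y, hy⟩ := isConj_iff.mp hx
      obtain ⟨y, rfl⟩ := QuotientGroup.mk'_surjective N y
      by_contra hx1
      apply hn x (by simpa using hx1) y
      rw [← QuotientGroup.eq]
      exact hy.symm
  rw [this]; rfl

/-- `G / N` Frobenius with kernel `H / N`: induced characters are irreducible -/
theorem ind_irr_of_frobenius_mod (N : Subgroup G) [hN : N.Normal]
    (hC : ∀ x : H, f x ∉ N → ∀ g : G, g * f x * g⁻¹ * (f x)⁻¹ ∈ N → g ∈ f.range)
    {θ : H → ℂ} (hθ : IsIrrCharacter H θ) (h1 : θ ≠ 1) (hk : N.comap f ≤ cfker θ) :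
    IsIrrCharacter G (ind f θ) := by
  apply ind_irr_of_inertia_le f hθ
  intro g hg
  obtain ⟨x, hx, y, hy⟩ := exists_fixed_class_mod f (N.comap f) (fun x hx => by
    rw [Subgroup.mem_comap, f_cj]; exact hN.conj_mem _ hx g) hθ h1 hk hg
  rw [Subgroup.mem_comap, map_mul, map_inv, f_cj, map_mul, map_mul, map_inv] at hy
  have : (f y)⁻¹ * g ∈ f.range := by
    apply hC x hx
    have h2 := hN.conj_mem _ (N.inv_mem hy) (f x * (f y)⁻¹)
    convert h2 using 1
    group
  simpa using f.range.mul_mem ⟨y, rfl⟩ this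

theorem conjFun_not_mem_cfclass (hodd : Odd (Nat.card G)) {θ : H → ℂ} (hθ : IsIrrCharacter H θ)
    (h1 : θ ≠ 1) : conjFun θ ∉ cfclass f θ := by
  intro h
  obtain ⟨g, hg⟩ := (mem_cfclass f).mp h
  have h2 : g ^ 2 ∈ inertia f θ := by
    rw [mem_inertia, sq, comp_cj_mul, hg, ← conjFun_comp, hg, conjFun_conjFun]
  have h3 : g ∈ inertia f θ := by
    obtain ⟨m, hm⟩ := hodd
    have := (inertia f θ).pow_mem h2 (m + 1)
    rwa [← pow_mul, show 2 * (m + 1) = Nat.card G + 1 by omega, pow_succ, pow_card_eq_one',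
      one_mul] at this
  have hoH : Odd (Nat.card H) := hodd.of_dvd_nat ⟨_, (card_mul_index_range hf.inj).symm⟩
  exact h1 (IsIrr.eq_one_of_conj_eq hoH hθ (hg.symm.trans h3))

/-- Peterfalvi (1.5)(e) -/
theorem dot_ind_conjFun_of_odd (hodd : Odd (Nat.card G)) {θ : H → ℂ} (hθ : IsIrrCharacter H θ)
    (h1 : θ ≠ 1) : ⟪ind f θ, conjFun (ind f θ)⟫ = 0 := by
  rw [← ind_conjFun]
  exact dot_ind_of_not_mem f hθ (IsIrr.conjFun hθ) (conjFun_not_mem_cfclass f hodd hθ h1)

end Normal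

open Classical in
theorem sum_norm_sq_irr_ker (N : Subgroup G) [N.Normal] (g : G) :
    ∑ χ ∈ (irr G).filter (fun χ => N ≤ cfker χ), ‖χ g‖ ^ 2 =
      Nat.card (Subgroup.centralizer ({QuotientGroup.mk' N g} : Set (G ⧸ N))) := by
  have := sum_irr_filter_ker (QuotientGroup.mk'_surjective N) (fun χ => ‖χ g‖ ^ 2)
  rw [QuotientGroup.ker_mk'] at this
  rw [this, ← sum_norm_sq_irr]
  rfl

/-- Peterfalvi (1.2) -/
theorem IsIrr.eq_zero_of_cent_trivial (N : Subgroup G) [N.Normal] {χ : G → ℂ}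
    (hχ : IsIrrCharacter G χ) (hN : ¬ N ≤ cfker χ) {g : G}
    (hg : ∀ x ∈ N, x * g = g * x → x = 1) : χ g = 0 := by
  classical
  have h1 := sum_norm_sq_irr g
  rw [← Finset.sum_filter_add_sum_filter_not _ (fun χ => N ≤ cfker χ), sum_norm_sq_irr_ker] at h1
  have h2 : Nat.card (Subgroup.centralizer ({g} : Set G)) ≤
      Nat.card (Subgroup.centralizer ({QuotientGroup.mk' N g} : Set (G ⧸ N))) := by
    refine Nat.card_le_card_of_injective (fun x => ⟨QuotientGroup.mk' N x, ?_⟩) ?_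
    · have := x.2
      rw [Subgroup.mem_centralizer_singleton_iff] at this ⊢
      rw [← map_mul, this, map_mul]
    · intro x y e
      have h3 : (x : G)⁻¹ * y ∈ N := QuotientGroup.eq.mp (congrArg Subtype.val e)
      have := hg _ h3 (Subgroup.mem_centralizer_singleton_iff.mp (x⁻¹ * y).2)
      exact Subtype.ext (inv_mul_eq_one.mp this)
  have h3 : ∑ χ ∈ (irr G).filter (fun χ => ¬ N ≤ cfker χ), ‖χ g‖ ^ 2 ≤ 0 := by
    have : (Nat.card (Subgroup.centralizer ({g} : Set G)) : ℝ) ≤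
      Nat.card (Subgroup.centralizer ({QuotientGroup.mk' N g} : Set (G ⧸ N))) := by exact_mod_cast h2
    linarith
  have h4 := Finset.single_le_sum (f := fun χ : G → ℂ => ‖χ g‖ ^ 2) (fun _ _ => sq_nonneg _)
    (Finset.mem_filter.mpr ⟨mem_irr.mpr hχ, hN⟩ :
      χ ∈ (irr G).filter (fun χ => ¬ N ≤ cfker χ))
  have := le_antisymm (h4.trans h3) (sq_nonneg _)
  simpa using this

/-- Isaacs (2.30): degree bound from a subgroup central modulo the kernel -/
theorem IsIrr.deg_sq_mul_card_le {χ : G → ℂ} (hχ : IsIrrCharacter G χ) (Z : Subgroup G)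
    (hZ : ∀ z ∈ Z, ∀ x, z * x * z⁻¹ * x⁻¹ ∈ cfker χ) : deg χ ^ 2 * Nat.card Z ≤ Nat.card G := by
  classical
  cases nonempty_fintype G
  have h1 := IsIrr.nrm hχ
  rw [nrm_def, inv_mul_eq_one₀ (Nat.cast_ne_zero.mpr Nat.card_pos.ne')] at h1
  have h2 : ∑ g ∈ Finset.univ.filter (· ∈ Z), ‖χ g‖ ^ 2 ≤ ∑ g, ‖χ g‖ ^ 2 :=
    Finset.sum_le_sum_of_subset_of_nonneg (Finset.filter_subset _ _) fun _ _ _ => sq_nonneg _
  rw [← h1, Finset.sum_congr rfl (fun z hz => by
    rw [IsIrr.norm_central hχ (hZ z (Finset.mem_filter.mp hz).2)]), Finset.sum_const,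
    ← Fintype.card_subtype, ← Nat.card_eq_fintype_card, nsmul_eq_mul, mul_comm] at h2
  exact_mod_cast h2

theorem IsIrr.deg_sq_le_index {χ : G → ℂ} (hχ : IsIrrCharacter G χ) (Z : Subgroup G)
    (hZ : ∀ z ∈ Z, ∀ x, z * x * z⁻¹ * x⁻¹ ∈ cfker χ) : deg χ ^ 2 ≤ Z.index := by
  have := IsIrr.deg_sq_mul_card_le hχ Z hZ
  rw [← Subgroup.index_mul_card Z] at this
  exact Nat.le_of_mul_le_mul_right this Nat.card_pos

theorem IsIrr.deg_le_index_mul {H : Type*} [Group H] [Finite H] {f : H →* G}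
    (hf : Function.Injective f) {χ : G → ℂ} (hχ : IsIrrCharacter G χ) {θ : H → ℂ}
    (hθ : IsIrrCharacter H θ) (h : ⟪χ ∘ f, θ⟫ ≠ 0) : deg χ ≤ f.range.index * deg θ := by
  rw [← deg_ind hf (IsIrr.isChar hθ)]
  apply IsChar.deg_le_of_constt (IsChar.ind (IsIrr.isChar hθ) f) hχ
  rw [frob_rec _ _ (IsIrr.mem_CF hχ)]
  exact fun e => h (dot_comm_zero e)

/-- Peterfalvi (1.8) -/
theorem IsIrr.deg_sq_le_of_central_section {ψ : G → ℂ} (hψ : IsIrrCharacter G ψ)
    {C D : Subgroup G} (hcent : ∀ d ∈ D, ∀ c ∈ C, d * c * d⁻¹ * c⁻¹ ∈ cfker ψ) :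
    deg ψ ^ 2 ≤ C.index ^ 2 * D.relIndex C := by
  obtain ⟨θ, hθ, h⟩ := exists_constt_res C.subtype hψ
  have h1 := IsIrr.deg_le_index_mul C.subtype_injective hψ hθ h
  rw [Subgroup.range_subtype] at h1
  have h2 := IsIrr.deg_sq_le_index hθ (D.subgroupOf C) (fun z hz x =>
    cfker_le_constt (CF_comp (IsIrr.mem_CF hψ) _) hθ h
      (comap_cfker_le ψ C.subtype (hcent z hz x x.2)))
  calc deg ψ ^ 2 ≤ (C.index * deg θ) ^ 2 := Nat.pow_le_pow_left h1 2
    _ = C.index ^ 2 * deg θ ^ 2 := mul_pow _ _ _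
    _ ≤ _ := Nat.mul_le_mul_left _ h2

theorem IsIrr.deg_prime_pow {p : ℕ} [Fact p.Prime] (hG : IsPGroup p G) {χ : G → ℂ}
    (hχ : IsIrrCharacter G χ) : ∃ k, deg χ = p ^ k := by
  obtain ⟨n, hn⟩ := IsPGroup.iff_card.mp hG
  obtain ⟨k, -, hk⟩ := (Nat.dvd_prime_pow Fact.out).mp (hn ▸ IsIrr.deg_dvd_card hχ)
  exact ⟨k, hk⟩

end CA.Chr
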