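import Cfsg.Agent.EqAll
import Cfsg.Prelude.Def_OddOrderChar

/-!
# The inner product of complex functions on a finite type, class functions
-/

set_option autoImplicit false

open scoped ComplexConjugate

open Cfsg

namespace CA.Chr

/-- Instance-free version of `Cfsg.classInner`. -/
noncomputable def dot {G : Type*} (φ ψ : G → ℂ) : ℂ :=
  (Nat.card G : ℂ)⁻¹ * ∑ᶠ g : G, φ g * conj (ψ g)

@[inherit_doc] scoped notation "⟪" φ ", " ψ "⟫" => dot φ ψ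

noncomputable scoped instance (priority := high) instDecEqFun {X : Type*} :
    DecidableEq (X → ℂ) := fun a b => Classical.propDecidable (a = b)

noncomputable scoped instance (priority := high) instDecEqLin {X : Type*} [Group X] :
    DecidableEq (X →* ℂˣ) := fun a b => Classical.propDecidable (a = b)

section Basic

variable {G : Type*}

theorem dot_def [Fintype G] (φ ψ : G → ℂ) :
    ⟪φ, ψ⟫ = (Nat.card G : ℂ)⁻¹ * ∑ g : G, φ g * conj (ψ g) := by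
  rw [dot, finsum_eq_sum_of_fintype]

theorem classInner_eq [Group G] [Fintype G] (φ ψ : G → ℂ) : classInner φ ψ = ⟪φ, ψ⟫ := by
  rw [dot_def, classInner]

theorem card_ne_zero [Finite G] [Nonempty G] : (Nat.card G : ℂ) ≠ 0 :=
  Nat.cast_ne_zero.mpr Nat.card_pos.ne'

variable [Finite G]

theorem dot_add_left (φ φ' ψ : G → ℂ) : ⟪φ + φ', ψ⟫ = ⟪φ, ψ⟫ + ⟪φ', ψ⟫ := by
  cases nonempty_fintype G
  simp only [dot_def, Pi.add_apply, add_mul, Finset.sum_add_distrib, mul_add]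

theorem dot_add_right (φ ψ ψ' : G → ℂ) : ⟪φ, ψ + ψ'⟫ = ⟪φ, ψ⟫ + ⟪φ, ψ'⟫ := by
  cases nonempty_fintype G
  simp only [dot_def, Pi.add_apply, map_add, Finset.sum_add_distrib, mul_add]

theorem dot_smul_left (c : ℂ) (φ ψ : G → ℂ) : ⟪c • φ, ψ⟫ = c * ⟪φ, ψ⟫ := by
  cases nonempty_fintype G
  simp only [dot_def, Pi.smul_apply, smul_eq_mul, mul_assoc, ← Finset.mul_sum]
  ring

theorem dot_smul_right (c : ℂ) (φ ψ : G → ℂ) : ⟪φ, c • ψ⟫ = conj c * ⟪φ, ψ⟫ := by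
  cases nonempty_fintype G
  simp only [dot_def, Pi.smul_apply, smul_eq_mul, map_mul, Finset.mul_sum]
  exact Finset.sum_congr rfl fun g _ => by ring

@[simp] theorem dot_zero_left (ψ : G → ℂ) : ⟪(0 : G → ℂ), ψ⟫ = 0 := by
  simp [dot]

@[simp] theorem dot_zero_right (ψ : G → ℂ) : ⟪ψ, (0 : G → ℂ)⟫ = 0 := by
  simp [dot]

theorem dot_neg_left (φ ψ : G → ℂ) : ⟪-φ, ψ⟫ = -⟪φ, ψ⟫ := by
  rw [← neg_one_smul ℂ φ, dot_smul_left]; ring

theorem dot_neg_right (φ ψ : G → ℂ) : ⟪φ, -ψ⟫ = -⟪φ, ψ⟫ := by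
  rw [← neg_one_smul ℂ ψ, dot_smul_right]; simp

theorem dot_sub_left (φ φ' ψ : G → ℂ) : ⟪φ - φ', ψ⟫ = ⟪φ, ψ⟫ - ⟪φ', ψ⟫ := by
  rw [sub_eq_add_neg, dot_add_left, dot_neg_left, sub_eq_add_neg]

theorem dot_sub_right (φ ψ ψ' : G → ℂ) : ⟪φ, ψ - ψ'⟫ = ⟪φ, ψ⟫ - ⟪φ, ψ'⟫ := by
  rw [sub_eq_add_neg, dot_add_right, dot_neg_right, sub_eq_add_neg]

theorem dot_zsmul_left (n : ℤ) (φ ψ : G → ℂ) : ⟪n • φ, ψ⟫ = n * ⟪φ, ψ⟫ := by
  rw [← Int.cast_smul_eq_zsmul ℂ, dot_smul_left]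

theorem dot_zsmul_right (n : ℤ) (φ ψ : G → ℂ) : ⟪φ, n • ψ⟫ = n * ⟪φ, ψ⟫ := by
  rw [← Int.cast_smul_eq_zsmul ℂ, dot_smul_right]; simp

theorem dot_nsmul_left (n : ℕ) (φ ψ : G → ℂ) : ⟪n • φ, ψ⟫ = n * ⟪φ, ψ⟫ := by
  rw [← Nat.cast_smul_eq_nsmul ℂ, dot_smul_left]

theorem dot_nsmul_right (n : ℕ) (φ ψ : G → ℂ) : ⟪φ, n • ψ⟫ = n * ⟪φ, ψ⟫ := by
  rw [← Nat.cast_smul_eq_nsmul ℂ, dot_smul_right]; simp

theorem dot_sum_left {ι : Type*} (s : Finset ι) (φ : ι → G → ℂ) (ψ : G → ℂ) :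
    ⟪∑ i ∈ s, φ i, ψ⟫ = ∑ i ∈ s, ⟪φ i, ψ⟫ := by
  classical
  induction s using Finset.induction_on with
  | empty => simp
  | insert a s ha ih => rw [Finset.sum_insert ha, Finset.sum_insert ha, dot_add_left, ih]

theorem dot_sum_right {ι : Type*} (s : Finset ι) (φ : G → ℂ) (ψ : ι → G → ℂ) :
    ⟪φ, ∑ i ∈ s, ψ i⟫ = ∑ i ∈ s, ⟪φ, ψ i⟫ := by
  classical
  induction s using Finset.induction_on with
  | empty => simp
  | insert a s ha ih => rw [Finset.sum_insert ha, Finset.sum_insert ha, dot_add_right, ih]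

theorem conj_dot (φ ψ : G → ℂ) : conj ⟪φ, ψ⟫ = ⟪ψ, φ⟫ := by
  cases nonempty_fintype G
  simp only [dot_def, map_mul, map_inv₀, map_natCast, map_sum, Complex.conj_conj]
  congr 1
  exact Finset.sum_congr rfl fun g _ => mul_comm _ _

theorem dot_comm_zero {φ ψ : G → ℂ} (h : ⟪φ, ψ⟫ = 0) : ⟪ψ, φ⟫ = 0 := by
  rw [← conj_dot, h, map_zero]

theorem dot_eq_zero_comm {φ ψ : G → ℂ} : ⟪φ, ψ⟫ = 0 ↔ ⟪ψ, φ⟫ = 0 :=
  ⟨dot_comm_zero, dot_comm_zero⟩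

theorem dot_comm_of_int {φ ψ : G → ℂ} {n : ℤ} (h : ⟪φ, ψ⟫ = n) : ⟪ψ, φ⟫ = n := by
  rw [← conj_dot, h, map_intCast]

/-- The linear map `φ ↦ ⟪φ, ψ⟫`. -/
noncomputable def dotLeft (ψ : G → ℂ) : (G → ℂ) →ₗ[ℂ] ℂ where
  toFun φ := ⟪φ, ψ⟫
  map_add' _ _ := dot_add_left _ _ _
  map_smul' _ _ := dot_smul_left _ _ _

@[simp] theorem dotLeft_apply (ψ φ : G → ℂ) : dotLeft ψ φ = ⟪φ, ψ⟫ := rfl

/-- The squared norm, as a real number. -/
noncomputable def nrm (φ : G → ℂ) : ℝ := (⟪φ, φ⟫).re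

theorem nrm_def [Fintype G] (φ : G → ℂ) :
    nrm φ = (Nat.card G : ℝ)⁻¹ * ∑ g : G, ‖φ g‖ ^ 2 := by
  have : ⟪φ, φ⟫ = (((Nat.card G : ℝ)⁻¹ * ∑ g : G, ‖φ g‖ ^ 2 : ℝ) : ℂ) := by
    rw [dot_def]
    push_cast
    congr 1
    exact Finset.sum_congr rfl fun g _ => by
      rw [Complex.mul_conj, Complex.normSq_eq_norm_sq]; push_cast; rfl
  rw [nrm, this, Complex.ofReal_re]

theorem dot_self (φ : G → ℂ) : ⟪φ, φ⟫ = (nrm φ : ℂ) := by
  have h := conj_dot φ φ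
  rw [nrm]
  exact (Complex.conj_eq_iff_re.mp h).symm

theorem nrm_nonneg (φ : G → ℂ) : 0 ≤ nrm φ := by
  cases nonempty_fintype G
  rw [nrm_def]; positivity

theorem nrm_eq_zero {φ : G → ℂ} : nrm φ = 0 ↔ φ = 0 := by
  cases nonempty_fintype G
  constructor
  · intro h
    ext g
    haveI : Nonempty G := ⟨g⟩
    rw [nrm_def, mul_eq_zero] at h
    rcases h with h | h
    · exact absurd (inv_eq_zero.mp h) (Nat.cast_ne_zero.mpr Nat.card_pos.ne')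
    · have := (Finset.sum_eq_zero_iff_of_nonneg (fun i _ => by positivity)).mp h g
        (Finset.mem_univ _)
      simpa using this
  · rintro rfl; simp [nrm]

theorem dot_self_eq_zero {φ : G → ℂ} : ⟪φ, φ⟫ = 0 ↔ φ = 0 := by
  rw [dot_self, Complex.ofReal_eq_zero, nrm_eq_zero]

theorem nrm_pos {φ : G → ℂ} (h : φ ≠ 0) : 0 < nrm φ :=
  lt_of_le_of_ne (nrm_nonneg φ) (fun h' => h (nrm_eq_zero.mp h'.symm))

@[simp] theorem nrm_zero : nrm (0 : G → ℂ) = 0 := nrm_eq_zero.mpr rfl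

theorem nrm_neg (φ : G → ℂ) : nrm (-φ) = nrm φ := by
  simp [nrm, dot_neg_left, dot_neg_right]

theorem nrm_add (φ ψ : G → ℂ) : nrm (φ + ψ) = nrm φ + nrm ψ + 2 * (⟪φ, ψ⟫).re := by
  simp only [nrm, dot_add_left, dot_add_right, Complex.add_re]
  rw [← conj_dot φ ψ, Complex.conj_re]; ring

theorem nrm_sub (φ ψ : G → ℂ) : nrm (φ - ψ) = nrm φ + nrm ψ - 2 * (⟪φ, ψ⟫).re := by
  rw [sub_eq_add_neg, nrm_add, nrm_neg, dot_neg_right, Complex.neg_re]; ring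

theorem nrm_add_of_orth {φ ψ : G → ℂ} (h : ⟪φ, ψ⟫ = 0) : nrm (φ + ψ) = nrm φ + nrm ψ := by
  rw [nrm_add, h]; simp

theorem nrm_sub_of_orth {φ ψ : G → ℂ} (h : ⟪φ, ψ⟫ = 0) : nrm (φ - ψ) = nrm φ + nrm ψ := by
  rw [nrm_sub, h]; simp

theorem nrm_smul (c : ℂ) (φ : G → ℂ) : nrm (c • φ) = ‖c‖ ^ 2 * nrm φ := by
  have : ⟪c • φ, c • φ⟫ = ((‖c‖ ^ 2 * nrm φ : ℝ) : ℂ) := by
    rw [dot_smul_left, dot_smul_right, dot_self, ← mul_assoc, Complex.mul_conj,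
      Complex.normSq_eq_norm_sq]
    push_cast; rfl
  rw [nrm, this, Complex.ofReal_re]

theorem nrm_zsmul (n : ℤ) (φ : G → ℂ) : nrm (n • φ) = (n : ℝ) ^ 2 * nrm φ := by
  rw [← Int.cast_smul_eq_zsmul ℂ, nrm_smul, Complex.norm_intCast, sq_abs]

theorem nrm_eq_of_dot {φ : G → ℂ} {r : ℝ} (h : ⟪φ, φ⟫ = r) : nrm φ = r := by
  rw [nrm, h, Complex.ofReal_re]

theorem nrm_sum_of_orth {ι : Type*} (s : Finset ι) (φ : ι → G → ℂ)
    (h : ∀ i ∈ s, ∀ j ∈ s, i ≠ j → ⟪φ i, φ j⟫ = 0) :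
    nrm (∑ i ∈ s, φ i) = ∑ i ∈ s, nrm (φ i) := by
  classical
  induction s using Finset.induction_on with
  | empty => simp
  | insert a s ha ih =>
    rw [Finset.sum_insert ha, Finset.sum_insert ha, nrm_add_of_orth, ih]
    · exact fun i hi j hj => h i (Finset.mem_insert_of_mem hi) j (Finset.mem_insert_of_mem hj)
    · rw [dot_sum_right]
      exact Finset.sum_eq_zero fun j hj => h a (Finset.mem_insert_self _ _) j
        (Finset.mem_insert_of_mem hj) (fun e => ha (e ▸ hj))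

theorem dot_mul_left (θ φ ψ : G → ℂ) : ⟪θ * φ, ψ⟫ = ⟪φ, conjFun θ * ψ⟫ := by
  cases nonempty_fintype G
  simp only [dot_def, conjFun, Pi.mul_apply, map_mul, Complex.conj_conj]
  congr 1
  exact Finset.sum_congr rfl fun g _ => by ring

theorem dot_conjFun (φ ψ : G → ℂ) : ⟪conjFun φ, conjFun ψ⟫ = conj ⟪φ, ψ⟫ := by
  cases nonempty_fintype G
  simp only [dot_def, conjFun, map_mul, map_inv₀, map_natCast, map_sum]

theorem dot_conjFun_left (φ ψ : G → ℂ) : ⟪conjFun φ, ψ⟫ = conj ⟪φ, conjFun ψ⟫ := by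
  rw [← dot_conjFun]; congr 1; ext; simp [conjFun]

theorem dot_comp_equiv {H : Type*} (e : H ≃ G) (φ ψ : G → ℂ) :
    ⟪φ ∘ e, ψ ∘ e⟫ = ⟪φ, ψ⟫ := by
  cases nonempty_fintype G
  haveI : Fintype H := Fintype.ofEquiv G e.symm
  rw [dot_def, dot_def, Nat.card_congr e]
  congr 1
  exact Fintype.sum_equiv e _ _ fun _ => rfl

theorem dot_eq_zero_of_disjoint {φ ψ : G → ℂ} (h : ∀ g, φ g = 0 ∨ ψ g = 0) : ⟪φ, ψ⟫ = 0 := by
  cases nonempty_fintype G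
  rw [dot_def, Finset.sum_eq_zero, mul_zero]
  intro g _
  rcases h g with h | h <;> simp [h]

theorem dot_congr_right {φ ψ ψ' : G → ℂ} (h : ∀ g, φ g ≠ 0 → ψ g = ψ' g) :
    ⟪φ, ψ⟫ = ⟪φ, ψ'⟫ := by
  rw [← sub_eq_zero, ← dot_sub_right]
  apply dot_eq_zero_of_disjoint
  intro g
  by_cases hg : φ g = 0
  · exact Or.inl hg
  · exact Or.inr (by simp [h g hg])

theorem dot_congr_left {φ φ' ψ : G → ℂ} (h : ∀ g, ψ g ≠ 0 → φ g = φ' g) :
    ⟪φ, ψ⟫ = ⟪φ', ψ⟫ := by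
  rw [← conj_dot ψ φ, ← conj_dot ψ φ', dot_congr_right h]

theorem dot_one_one [Nonempty G] : ⟪(1 : G → ℂ), (1 : G → ℂ)⟫ = 1 := by
  cases nonempty_fintype G
  rw [dot_def]
  simp [Nat.card_eq_fintype_card]

/-- Cauchy-Schwarz. -/
theorem norm_dot_sq_le (φ ψ : G → ℂ) : ‖⟪φ, ψ⟫‖ ^ 2 ≤ nrm φ * nrm ψ := by
  by_cases h : ψ = 0
  · subst h; simp
  have hp := nrm_pos h
  have h1 := nrm_nonneg (φ - ((⟪φ, ψ⟫ / nrm ψ : ℂ)) • ψ)
  rw [nrm_sub, nrm_smul, dot_smul_right] at h1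
  have e1 : (conj (⟪φ, ψ⟫ / (nrm ψ : ℂ)) * ⟪φ, ψ⟫).re = ‖⟪φ, ψ⟫‖ ^ 2 / nrm ψ := by
    have : conj (⟪φ, ψ⟫ / (nrm ψ : ℂ)) * ⟪φ, ψ⟫ = ((‖⟪φ, ψ⟫‖ ^ 2 / nrm ψ : ℝ) : ℂ) := by
      rw [map_div₀, Complex.conj_ofReal, div_mul_eq_mul_div, mul_comm, Complex.mul_conj,
        Complex.normSq_eq_norm_sq]
      push_cast; rfl
    rw [this, Complex.ofReal_re]
  rw [e1, norm_div, Complex.norm_real, Real.norm_eq_abs, abs_of_pos hp] at h1
  have e2 : (‖⟪φ, ψ⟫‖ / nrm ψ) ^ 2 * nrm ψ = ‖⟪φ, ψ⟫‖ ^ 2 / nrm ψ := by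
    field_simp
  rw [e2] at h1
  have : ‖⟪φ, ψ⟫‖ ^ 2 / nrm ψ ≤ nrm φ := by linarith
  rwa [div_le_iff₀ hp] at this

/-- pairwise orthogonal nonzero functions are linearly independent -/
theorem linearIndependent_of_orth {ι : Type*} (v : ι → G → ℂ) (h0 : ∀ i, v i ≠ 0)
    (h : ∀ i j, i ≠ j → ⟪v i, v j⟫ = 0) : LinearIndependent ℂ v := by
  classical
  rw [linearIndependent_iff']
  intro s c hs i hi
  have := congrArg (fun φ => ⟪φ, v i⟫) hs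
  simp only [dot_sum_left, dot_smul_left, dot_zero_left] at this
  rw [Finset.sum_eq_single i] at this
  · exact (mul_eq_zero.mp this).resolve_right (fun h' => h0 i (dot_self_eq_zero.mp h'))
  · intro j _ hj; rw [h j i hj, mul_zero]
  · intro h'; exact absurd hi h'

theorem finite_of_orth (S : Set (G → ℂ)) (h0 : (0 : G → ℂ) ∉ S)
    (h : ∀ φ ∈ S, ∀ ψ ∈ S, φ ≠ ψ → ⟪φ, ψ⟫ = 0) : S.Finite := by
  have : LinearIndependent ℂ (fun x : S => (x : G → ℂ)) :=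
    linearIndependent_of_orth _ (fun i hi => h0 (hi ▸ i.2))
      (fun i j hij => h i i.2 j j.2 (fun e => hij (Subtype.ext e)))
  exact this.set_finite_of_isNoetherian

/-- Bessel's inequality for an orthonormal family. -/
theorem bessel {ι : Type*} (s : Finset ι) (v : ι → G → ℂ)
    (h1 : ∀ i ∈ s, ⟪v i, v i⟫ = 1) (h : ∀ i ∈ s, ∀ j ∈ s, i ≠ j → ⟪v i, v j⟫ = 0) (φ : G → ℂ) :
    nrm φ = ∑ i ∈ s, ‖⟪φ, v i⟫‖ ^ 2 + nrm (φ - ∑ i ∈ s, ⟪φ, v i⟫ • v i) := by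
  classical
  have key : ∀ j ∈ s, ⟪∑ i ∈ s, ⟪φ, v i⟫ • v i, v j⟫ = ⟪φ, v j⟫ := by
    intro j hj
    rw [dot_sum_left, Finset.sum_eq_single j]
    · rw [dot_smul_left, h1 j hj, mul_one]
    · intro i hi hij; rw [dot_smul_left, h i hi j hj hij, mul_zero]
    · intro h'; exact absurd hj h'
  have horth : ⟪∑ i ∈ s, ⟪φ, v i⟫ • v i, φ - ∑ i ∈ s, ⟪φ, v i⟫ • v i⟫ = 0 := by
    apply dot_comm_zero
    rw [dot_sum_right]
    refine Finset.sum_eq_zero fun j hj => ?_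
    rw [dot_smul_right, dot_sub_left, key j hj, sub_self, mul_zero]
  have := nrm_add_of_orth horth
  rw [add_sub_cancel] at this
  rw [this, nrm_sum_of_orth]
  · congr 1
    refine Finset.sum_congr rfl fun i hi => ?_
    rw [nrm_smul, nrm_eq_of_dot (r := 1) (by simpa using h1 i hi), mul_one]
  · intro i hi j hj hij
    rw [dot_smul_left, dot_smul_right, h i hi j hj hij]; simp

theorem bessel_le {ι : Type*} (s : Finset ι) (v : ι → G → ℂ)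
    (h1 : ∀ i ∈ s, ⟪v i, v i⟫ = 1) (h : ∀ i ∈ s, ∀ j ∈ s, i ≠ j → ⟪v i, v j⟫ = 0) (φ : G → ℂ) :
    ∑ i ∈ s, ‖⟪φ, v i⟫‖ ^ 2 ≤ nrm φ := by
  rw [bessel s v h1 h φ]
  exact le_add_of_nonneg_right (nrm_nonneg _)

end Basic

section ConjFun
variable {G : Type*}

@[simp] theorem conjFun_apply (φ : G → ℂ) (g : G) : conjFun φ g = conj (φ g) := rfl

@[simp] theorem conjFun_conjFun (φ : G → ℂ) : conjFun (conjFun φ) = φ := by
  ext; simp

theorem conjFun_injective : Function.Injective (conjFun : (G → ℂ) → G → ℂ) :=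
  fun a b h => by rw [← conjFun_conjFun a, h, conjFun_conjFun]

@[simp] theorem conjFun_inj {φ ψ : G → ℂ} : conjFun φ = conjFun ψ ↔ φ = ψ :=
  conjFun_injective.eq_iff

theorem conjFun_add (φ ψ : G → ℂ) : conjFun (φ + ψ) = conjFun φ + conjFun ψ := by
  ext; simp

theorem conjFun_sub (φ ψ : G → ℂ) : conjFun (φ - ψ) = conjFun φ - conjFun ψ := by
  ext; simp

theorem conjFun_neg (φ : G → ℂ) : conjFun (-φ) = -conjFun φ := by
  ext; simp

theorem conjFun_mul (φ ψ : G → ℂ) : conjFun (φ * ψ) = conjFun φ * conjFun ψ := by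
  ext; simp

theorem conjFun_smul (c : ℂ) (φ : G → ℂ) : conjFun (c • φ) = conj c • conjFun φ := by
  ext; simp

theorem conjFun_zsmul (c : ℤ) (φ : G → ℂ) : conjFun (c • φ) = c • conjFun φ := by
  ext; simp

@[simp] theorem conjFun_one : conjFun (1 : G → ℂ) = 1 := by ext; simp

@[simp] theorem conjFun_zero : conjFun (0 : G → ℂ) = 0 := by ext; simp

theorem conjFun_sum {ι : Type*} (s : Finset ι) (φ : ι → G → ℂ) :
    conjFun (∑ i ∈ s, φ i) = ∑ i ∈ s, conjFun (φ i) := by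
  ext; simp

theorem conjFun_comp {H : Type*} (φ : G → ℂ) (f : H → G) : conjFun (φ ∘ f) = conjFun φ ∘ f := rfl

theorem nrm_conjFun [Finite G] (φ : G → ℂ) : nrm (conjFun φ) = nrm φ := by
  rw [nrm, dot_conjFun, Complex.conj_re, nrm]

end ConjFun

section ClassFun

variable {G : Type*} [Group G]

/-- The class functions as a subalgebra. -/
def CF (G : Type*) [Group G] : Subalgebra ℂ (G → ℂ) where
  carrier := {θ | IsClassFunction G θ}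
  mul_mem' ha hb g h := by simp only [Pi.mul_apply, ha g h, hb g h]
  add_mem' ha hb g h := by simp only [Pi.add_apply, ha g h, hb g h]
  algebraMap_mem' _ _ _ := rfl

theorem mem_CF {θ : G → ℂ} : θ ∈ CF G ↔ IsClassFunction G θ := Iff.rfl

theorem CF_conj {θ : G → ℂ} (h : θ ∈ CF G) (g x : G) : θ (x * g * x⁻¹) = θ g := h g x

theorem CF_conj' {θ : G → ℂ} (h : θ ∈ CF G) (g x : G) : θ (x⁻¹ * g * x) = θ g := by
  simpa using h g x⁻¹

theorem CF_mul_comm {θ : G → ℂ} (h : θ ∈ CF G) (g x : G) : θ (x * g) = θ (g * x) := by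
  rw [← CF_conj h (g * x) x]; congr 1; group

theorem CF_isConj {θ : G → ℂ} (h : θ ∈ CF G) {g g' : G} (hg : IsConj g g') : θ g = θ g' := by
  obtain ⟨x, rfl⟩ := isConj_iff.mp hg
  rw [CF_conj h]

theorem CF_comp {H : Type*} [Group H] {θ : G → ℂ} (h : θ ∈ CF G) (f : H →* G) :
    θ ∘ f ∈ CF H := fun g x => by
  simp only [Function.comp_apply, map_mul, map_inv, CF_conj h]

theorem CF_conjFun {θ : G → ℂ} (h : θ ∈ CF G) : conjFun θ ∈ CF G := fun g x => by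
  simp only [conjFun_apply, CF_conj h]

theorem CF_map {θ : G → ℂ} (h : θ ∈ CF G) (σ : ℂ → ℂ) : σ ∘ θ ∈ CF G := fun g x => by
  simp only [Function.comp_apply, CF_conj h]

theorem CF_of_comm [IsMulCommutative G] (θ : G → ℂ) : θ ∈ CF G := fun g x => by
  rw [mul_comm' x g, mul_inv_cancel_right]

end ClassFun

theorem realizeEqns_Char_Dot : True := by
  have := @CA.Chr.instDecEqFun.eq_1.{0}
  have := @CA.Chr.instDecEqFun.eq_def.{0}
  have := @CA.Chr.instDecEqFun.congr_simp.{0}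
  have := @CA.Chr.instDecEqLin.eq_1.{0}
  have := @CA.Chr.instDecEqLin.eq_def.{0}
  have := @CA.Chr.instDecEqLin.congr_simp.{0}
  have := @CA.Chr.dotLeft.eq_1.{0}
  have := @CA.Chr.dotLeft.eq_def.{0}
  have := @CA.Chr.dotLeft.congr_simp.{0}
  have := @CA.Chr.nrm.eq_1.{0}
  have := @CA.Chr.nrm.eq_def.{0}
  have := @CA.Chr.nrm.congr_simp.{0}
  have := @CA.Chr.dot.eq_1.{0}
  have := @CA.Chr.dot.eq_def.{0}
  have := @CA.Chr.dot.congr_simp.{0}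
  have := @CA.Chr.CF.eq_1.{0}
  have := @CA.Chr.CF.eq_def.{0}
  have := @CA.Chr.CF.congr_simp.{0}
  trivial

end CA.Chr
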