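import Cfsg.Agent.Char.Clifford

/-!
# Clifford correspondence, Gallagher's theorem, extension of characters
-/

set_option autoImplicit false

open scoped ComplexConjugate
open Cfsg

namespace CA.Chr

section Corr

variable {G H T : Type*} [Group G] [Finite G] [Group H] [Finite H] [Group T] [Finite T]
  (i : H →* T) (j : T →* G) [NormalInj i] [NormalInj (j.comp i)]

omit [Finite G] [Finite H] [Finite T] in
theorem relIndex_inertia_comp (hj : Function.Injective j) {θ : H → ℂ}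
    (hI : inertia (j.comp i) θ ≤ j.range) :
    i.range.relIndex (inertia i θ) = (j.comp i).range.relIndex (inertia (j.comp i) θ) := by
  rw [inertia_comp i j, MonoidHom.range_comp, ← Subgroup.comap_map_eq_self_of_injective hj i.range,
    Subgroup.relIndex_comap, Subgroup.map_comap_eq_self hI,
    Subgroup.comap_map_eq_self_of_injective hj]

theorem clifford_corr_dot (hj : Function.Injective j) {θ : H → ℂ} (hθ : IsIrrCharacter H θ)
    (hI : inertia (j.comp i) θ ≤ j.range) {ψ ψ' : T → ℂ} (hψ : IsIrrCharacter T ψ)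
    (hψ' : IsIrrCharacter T ψ') (h : ⟪ψ ∘ i, θ⟫ ≠ 0) (h' : ⟪ψ' ∘ i, θ⟫ ≠ 0) :
    ⟪ind j ψ, ind j ψ'⟫ = ⟪ψ, ψ'⟫ := by
  apply irr_of_nrm_le (ind j) (IsChar.ind (IsIrr.isChar hθ) i) _ _ hψ hψ'
  · rw [frob_rec _ _ (IsIrr.mem_CF hψ)]; exact fun e => h (dot_comm_zero e)
  · rw [frob_rec _ _ (IsIrr.mem_CF hψ')]; exact fun e => h' (dot_comm_zero e)
  · intro φ hφ _
    exact ⟨IsChar.ind (IsIrr.isChar hφ) j, ind_ne_zero hj (IsIrr.deg_ne_zero hφ)⟩
  · rw [ind_comp, nrm_ind _ hθ, nrm_ind _ hθ, relIndex_inertia_comp i j hj hI]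

theorem clifford_corr_irr (hj : Function.Injective j) {θ : H → ℂ} (hθ : IsIrrCharacter H θ)
    (hI : inertia (j.comp i) θ ≤ j.range) {ψ : T → ℂ} (hψ : IsIrrCharacter T ψ)
    (h : ⟪ψ ∘ i, θ⟫ ≠ 0) : IsIrrCharacter G (ind j ψ) :=
  IsChar.irr_of_dot_self (IsChar.ind (IsIrr.isChar hψ) j)
    (by rw [clifford_corr_dot i j hj hθ hI hψ hψ h h, IsIrr.dot_self hψ])

theorem clifford_corr_inj (hj : Function.Injective j) {θ : H → ℂ} (hθ : IsIrrCharacter H θ)
    (hI : inertia (j.comp i) θ ≤ j.range) {ψ ψ' : T → ℂ} (hψ : IsIrrCharacter T ψ)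
    (hψ' : IsIrrCharacter T ψ') (h : ⟪ψ ∘ i, θ⟫ ≠ 0) (h' : ⟪ψ' ∘ i, θ⟫ ≠ 0)
    (e : ind j ψ = ind j ψ') : ψ = ψ' := by
  apply IsIrr.eq_of_dot_ne_zero hψ hψ'
  rw [← clifford_corr_dot i j hj hθ hI hψ hψ' h h', ← e,
    clifford_corr_dot i j hj hθ hI hψ hψ h h, IsIrr.dot_self hψ]
  exact one_ne_zero

theorem clifford_corr_surj (hj : Function.Injective j) {θ : H → ℂ} (hθ : IsIrrCharacter H θ)
    (hI : inertia (j.comp i) θ ≤ j.range) {χ : G → ℂ} (hχ : IsIrrCharacter G χ)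
    (h : ⟪χ ∘ (j.comp i), θ⟫ ≠ 0) :
    ∃ ψ, IsIrrCharacter T ψ ∧ ⟪ψ ∘ i, θ⟫ ≠ 0 ∧ χ = ind j ψ := by
  have h1 : ⟪χ ∘ j, ind i θ⟫ ≠ 0 := by
    rwa [frob_rec' _ _ (CF_comp (IsIrr.mem_CF hχ) j)]
  obtain ⟨ψ, hψ, h2, h3⟩ := exists_common_constt (CF_comp (IsIrr.mem_CF hχ) j) h1
  have h4 : ⟪ψ ∘ i, θ⟫ ≠ 0 := by
    rw [← frob_rec' _ _ (IsIrr.mem_CF hψ)]; exact fun e => h3 (dot_comm_zero e)
  refine ⟨ψ, hψ, h4, IsIrr.eq_of_dot_ne_zero hχ (clifford_corr_irr i j hj hθ hI hψ h4) ?_⟩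
  rwa [frob_rec' _ _ (IsIrr.mem_CF hχ)]

theorem clifford_corr_mult (hj : Function.Injective j) {θ : H → ℂ} (hθ : IsIrrCharacter H θ)
    (hI : inertia (j.comp i) θ ≤ j.range) {ψ : T → ℂ} (hψ : IsIrrCharacter T ψ)
    (h : ⟪ψ ∘ i, θ⟫ ≠ 0) : ⟪ind j ψ ∘ (j.comp i), θ⟫ = ⟪ψ ∘ i, θ⟫ := by
  rw [← frob_rec' _ _ (ind_mem_CF _ _), ← ind_comp, ← frob_rec' _ _ (IsIrr.mem_CF hψ)]
  conv_lhs => rw [CF_expand (ind_mem_CF i θ)]
  conv_rhs => rw [CF_expand (ind_mem_CF i θ)]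
  simp only [map_sum, map_smul, dot_sum_right, dot_smul_right]
  refine Finset.sum_congr rfl fun φ hφ => ?_
  by_cases e : ⟪ind i θ, φ⟫ = 0
  · simp [e]
  · rw [clifford_corr_dot i j hj hθ hI hψ (mem_irr.mp hφ) h]
    rw [← frob_rec' _ _ (IsIrr.mem_CF (mem_irr.mp hφ))]; exact fun e' => e (dot_comm_zero e')

end Corr

section LinOver

variable {G : Type*} [Group G] [Finite G]

/-- the linear characters trivial on `N` -/
noncomputable def linOver (N : Subgroup G) : Finset (G →* ℂˣ) :=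
  (Set.toFinite {l : G →* ℂˣ | N ≤ l.ker}).toFinset

theorem mem_linOver {N : Subgroup G} {l : G →* ℂˣ} : l ∈ linOver N ↔ N ≤ l.ker := by
  simp [linOver]

theorem one_mem_linOver (N : Subgroup G) : (1 : G →* ℂˣ) ∈ linOver N :=
  mem_linOver.mpr fun _ _ => rfl

open Classical in
theorem irr_filter_eq_linOver {N : Subgroup G} (hab : commutator G ≤ N) :
    (irr G).filter (fun χ => N ≤ cfker χ) = (linOver N).image lin := by
  ext χ
  simp only [Finset.mem_filter, mem_irr, Finset.mem_image, mem_linOver]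
  constructor
  · rintro ⟨h, hk⟩
    obtain ⟨l, rfl⟩ := IsIrr.exists_lin_of_commutator h (hab.trans hk)
    exact ⟨l, by rwa [← cfker_lin], rfl⟩
  · rintro ⟨l, hl, rfl⟩
    exact ⟨lin_irr l, by rwa [cfker_lin]⟩

omit [Finite G] in
theorem normal_of_commutator_le {N : Subgroup G} (hab : commutator G ≤ N) : N.Normal :=
  ⟨fun n hn g => by
    have : g * n * g⁻¹ = (g * n * g⁻¹ * n⁻¹) * n := by group
    rw [this]
    exact N.mul_mem (hab (Subgroup.commutator_mem_commutator (Subgroup.mem_top g)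
      (Subgroup.mem_top n))) hn⟩

theorem card_linOver {N : Subgroup G} (hab : commutator G ≤ N) : (linOver N).card = N.index := by
  classical
  haveI := normal_of_commutator_le hab
  rw [← sum_deg_sq_ker N, irr_filter_eq_linOver hab,
    Finset.sum_image (fun a _ b _ e => lin_injective e)]
  simp

theorem sum_linOver_apply {N : Subgroup G} (hab : commutator G ≤ N) (g : G) [Decidable (g ∈ N)] :
    ∑ l ∈ linOver N, (l g : ℂ) = if g ∈ N then (N.index : ℂ) else 0 := by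
  classical
  haveI := normal_of_commutator_le hab
  have := sum_deg_mul_irr_ker N g
  rw [irr_filter_eq_linOver hab, Finset.sum_image (fun a _ b _ e => lin_injective e)] at this
  convert this using 2
  simp

theorem pow_index_eq_one_of_le_ker {N : Subgroup G} [N.Normal] {l : G →* ℂˣ} (h : N ≤ l.ker) :
    l ^ N.index = 1 := by
  ext g
  simp only [MonoidHom.pow_apply, ← map_pow, MonoidHom.one_apply, Units.val_one,
    Units.val_eq_one]
  exact h (Subgroup.pow_index_mem N g)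

theorem lin_pow_card_eq_one (l : G →* ℂˣ) : l ^ Nat.card G = 1 := by
  ext g
  simp only [MonoidHom.pow_apply, ← map_pow, pow_card_eq_one', map_one, MonoidHom.one_apply]

theorem exists_lin_ne_one_of_ne_top {N : Subgroup G} (hab : commutator G ≤ N) (hN : N ≠ ⊤) :
    ∃ l : G →* ℂˣ, l ≠ 1 ∧ N ≤ l.ker := by
  haveI := normal_of_commutator_le hab
  obtain ⟨χ, hχ, h1, h2⟩ := exists_irr_ne_one_ker N hN
  obtain ⟨l, rfl⟩ := IsIrr.exists_lin_of_commutator hχ (hab.trans h2)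
  exact ⟨l, fun e => h1 (by simp [e]), by rwa [← cfker_lin]⟩

omit [Finite G] in
theorem index_ker_of_orderOf_prime {l : G →* ℂˣ} {p : ℕ} (hp : p.Prime) (hl : orderOf l = p) :
    l.ker.index = p := by
  haveI : NeZero p := ⟨hp.ne_zero⟩
  rw [Subgroup.index_ker]
  have h1 : l.range ≤ rootsOfUnity p ℂ := by
    rintro _ ⟨g, rfl⟩
    rw [mem_rootsOfUnity, ← MonoidHom.pow_apply, ← hl, pow_orderOf_eq_one, MonoidHom.one_apply]
  have h2 := Subgroup.card_dvd_of_le h1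
  rw [Complex.card_rootsOfUnity] at h2
  rcases (Nat.dvd_prime hp).mp h2 with h | h
  · exfalso
    rw [Subgroup.card_eq_one, MonoidHom.range_eq_bot_iff] at h
    rw [h, orderOf_one] at hl
    exact hp.one_lt.ne hl
  · exact h

theorem exists_prime_index {N : Subgroup G} (hab : commutator G ≤ N) (hN : N ≠ ⊤) :
    ∃ M : Subgroup G, N ≤ M ∧ M.index.Prime := by
  obtain ⟨l, hl, hk⟩ := exists_lin_ne_one_of_ne_top hab hN
  have h1 : orderOf l ≠ 1 := by rwa [Ne, orderOf_eq_one_iff]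
  have h0 : orderOf l ≠ 0 := (orderOf_pos l).ne'
  obtain ⟨p, hp, hd⟩ := Nat.exists_prime_and_dvd h1
  refine ⟨(l ^ (orderOf l / p)).ker, fun n hn => ?_, ?_⟩
  · rw [MonoidHom.mem_ker, MonoidHom.pow_apply, (MonoidHom.mem_ker).mp (hk hn), one_pow]
  · rwa [index_ker_of_orderOf_prime hp (orderOf_pow_orderOf_div h0 hd)]

end LinOver

variable {G H : Type*} [Group G] [Finite G] [Group H] [Finite H] (f : H →* G) [hf : NormalInj f]

omit [Finite G] [Finite H] hf in
theorem lin_comp_eq_one {l : G →* ℂˣ} (hl : f.range ≤ l.ker) : lin l ∘ f = 1 := by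
  ext x
  simpa using (MonoidHom.mem_ker).mp (hl ⟨x, rfl⟩)

omit [Finite G] [Finite H] hf in
theorem mul_comp_of_ker {β : G → ℂ} (hl : f.range ≤ cfker β) (χ : G → ℂ) :
    (β * χ) ∘ f = β 1 • (χ ∘ f) := by
  ext x
  simp [cfker_apply (hl ⟨x, rfl⟩)]

omit [Finite G] [Finite H] hf in
theorem lin_mul_comp {l : G →* ℂˣ} (hl : f.range ≤ l.ker) (χ : G → ℂ) :
    (lin l * χ) ∘ f = χ ∘ f := by
  rw [mul_comp_of_ker f (by rwa [cfker_lin])]; simp

theorem ind_one_eq_sum_lin (hab : commutator G ≤ f.range) :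
    ind f 1 = ∑ l ∈ linOver f.range, lin l := by
  classical
  ext g
  rw [ind_one_apply, ← sum_linOver_apply hab]
  simp

theorem ind_res_eq_sum_lin (hab : commutator G ≤ f.range) {χ : G → ℂ} (hχ : χ ∈ CF G) :
    ind f (χ ∘ f) = ∑ l ∈ linOver f.range, lin l * χ := by
  rw [ind_res f hχ, ind_one_eq_sum_lin f hab, Finset.mul_sum]
  simp only [mul_comm]

/-- Gallagher's theorem: inner products -/
theorem gallagher_dot {χ : G → ℂ} (hχ : IsCharacter G χ) (hθ : IsIrrCharacter H (χ ∘ f))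
    {β β' : G → ℂ} (hβ : IsIrrCharacter G β) (hβ' : IsIrrCharacter G β')
    (h : f.range ≤ cfker β) (h' : f.range ≤ cfker β') : ⟪χ * β, χ * β'⟫ = ⟪β, β'⟫ := by
  have hc := IsChar.mem_CF hχ
  have h1 : χ 1 ≠ 0 := by simpa using IsIrr.deg_ne_zero hθ
  apply irr_of_nrm_le (LinearMap.mulLeft ℂ χ) (IsChar.ind IsChar.one f) _ _ hβ hβ'
  · rw [frob_rec _ _ (IsIrr.mem_CF hβ)]
    exact fun e => (range_le_cfker_iff f hβ).mp h (dot_comm_zero e)
  · rw [frob_rec _ _ (IsIrr.mem_CF hβ')]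
    exact fun e => (range_le_cfker_iff f hβ').mp h' (dot_comm_zero e)
  · intro φ hφ _
    refine ⟨IsChar.mul hχ (IsIrr.isChar hφ), fun e => ?_⟩
    exact mul_ne_zero h1 (IsIrr.deg_ne_zero hφ) (congrFun e 1)
  · rw [LinearMap.mulLeft_apply, ← ind_res f hc, nrm_ind f hθ, nrm_ind f one_irr, inertia_res f hc]
    have : inertia f (1 : H → ℂ) = ⊤ := eq_top_iff.mpr fun _ _ => rfl
    rw [this]

theorem gallagher_irr {χ : G → ℂ} (hχ : IsCharacter G χ) (hθ : IsIrrCharacter H (χ ∘ f))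
    {β : G → ℂ} (hβ : IsIrrCharacter G β) (h : f.range ≤ cfker β) : IsIrrCharacter G (χ * β) :=
  IsChar.irr_of_dot_self (IsChar.mul hχ (IsIrr.isChar hβ))
    (by rw [gallagher_dot f hχ hθ hβ hβ h h, IsIrr.dot_self hβ])

theorem gallagher_inj {χ : G → ℂ} (hχ : IsCharacter G χ) (hθ : IsIrrCharacter H (χ ∘ f))
    {β β' : G → ℂ} (hβ : IsIrrCharacter G β) (hβ' : IsIrrCharacter G β')
    (h : f.range ≤ cfker β) (h' : f.range ≤ cfker β') (e : χ * β = χ * β') : β = β' := by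
  apply IsIrr.eq_of_dot_ne_zero hβ hβ'
  rw [← gallagher_dot f hχ hθ hβ hβ' h h', ← e, gallagher_dot f hχ hθ hβ hβ h h,
    IsIrr.dot_self hβ]
  exact one_ne_zero

open Classical in
theorem gallagher_ind {χ : G → ℂ} (hχ : χ ∈ CF G) :
    ind f (χ ∘ f) = ∑ β ∈ (irr G).filter (fun β => f.range ≤ cfker β), β 1 • (χ * β) := by
  rw [ind_res f hχ, ind_one_eq_sum, Finset.mul_sum]
  simp only [mul_smul_comm]

theorem gallagher_surj {χ : G → ℂ} (hχ : IsCharacter G χ) (hθ : IsIrrCharacter H (χ ∘ f))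
    {ψ : G → ℂ} (hψ : IsIrrCharacter G ψ) (h : ⟪ψ ∘ f, χ ∘ f⟫ ≠ 0) :
    ∃ β, IsIrrCharacter G β ∧ f.range ≤ cfker β ∧ ψ = χ * β := by
  classical
  rw [← frob_rec' _ _ (IsIrr.mem_CF hψ), gallagher_ind f (IsChar.mem_CF hχ), dot_sum_right] at h
  obtain ⟨β, hβ, h'⟩ := Finset.exists_ne_zero_of_sum_ne_zero h
  rw [Finset.mem_filter, mem_irr] at hβ
  rw [dot_smul_right] at h'
  exact ⟨β, hβ.1, hβ.2, IsIrr.eq_of_dot_ne_zero hψ (gallagher_irr f hχ hθ hβ.1 hβ.2)
    (right_ne_zero_of_mul h')⟩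

omit [Finite G] hf in
theorem IsChar.irr_of_res_irr [Finite G] {χ : G → ℂ} (hχ : IsCharacter G χ)
    (hθ : IsIrrCharacter H (χ ∘ f)) : IsIrrCharacter G χ := by
  have h0 : χ ≠ 0 := by rintro rfl; exact IsIrr.ne_zero hθ rfl
  obtain ⟨ψ, hψ, h⟩ := CF_exists_constt (IsChar.mem_CF hχ) h0
  have h1 := IsChar.comp (IsChar.sub_irr' hχ hψ h) f
  obtain ⟨φ, hφ, h2⟩ := exists_constt_res f hψ
  have h3 : χ ∘ f = (χ - ψ) ∘ f + ψ ∘ f := by ext; simp
  obtain ⟨n, hn⟩ := IsChar.dot_nat h1 (IsIrr.isChar hφ)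
  obtain ⟨m, hm⟩ := IsChar.dot_nat (IsChar.comp (IsIrr.isChar hψ) f) (IsIrr.isChar hφ)
  have h4 : χ ∘ f = φ := by
    apply IsIrr.eq_of_dot_ne_zero hθ hφ
    rw [h3, dot_add_left, hn, hm, ← Nat.cast_add, Nat.cast_ne_zero]
    rw [hm, Nat.cast_ne_zero] at h2
    omega
  have h5 := IsChar.deg_le_of_constt (IsChar.comp (IsIrr.isChar hψ) f) hφ h2
  have h6 := IsChar.deg_le_of_constt hχ hψ h
  rw [← h4, deg_comp, deg_comp] at h5
  rw [IsChar.eq_of_constt_deg hχ hψ h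
    (by rw [← IsChar.coe_deg hχ, ← IsIrr.coe_deg hψ, le_antisymm h5 h6])]
  exact hψ

/-- constituents over an invariant character, abelian quotient -/
theorem exists_lin_mul_of_over (hab : commutator G ≤ f.range) {θ : H → ℂ}
    (hθ : IsIrrCharacter H θ) (hI : inertia f θ = ⊤) {χ ψ : G → ℂ} (hχ : IsIrrCharacter G χ)
    (hψ : IsIrrCharacter G ψ) (h : ⟪χ ∘ f, θ⟫ ≠ 0) (h' : ⟪ψ ∘ f, θ⟫ ≠ 0) :
    ∃ l ∈ linOver f.range, ψ = lin l * χ := by
  have h1 : ⟪ψ, ind f (χ ∘ f)⟫ ≠ 0 := by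
    rw [frob_rec' _ _ (IsIrr.mem_CF hψ), clifford_invariant f hχ hθ h hI, dot_smul_right]
    exact mul_ne_zero (by simpa using h) h'
  rw [ind_res_eq_sum_lin f hab (IsIrr.mem_CF hχ), dot_sum_right] at h1
  obtain ⟨l, hl, h2⟩ := Finset.exists_ne_zero_of_sum_ne_zero h1
  exact ⟨l, hl, IsIrr.eq_of_dot_ne_zero hψ (IsIrr.lin_mul hχ l) h2⟩

open Classical in
theorem ind_abelian_invariant (hab : commutator G ≤ f.range) {θ : H → ℂ}
    (hθ : IsIrrCharacter H θ) (hI : inertia f θ = ⊤) {χ : G → ℂ} (hχ : IsIrrCharacter G χ)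
    (h : ⟪χ ∘ f, θ⟫ ≠ 0) :
    ind f θ = ⟪χ ∘ f, θ⟫ • ∑ ψ ∈ (linOver f.range).image (fun l => lin l * χ), ψ := by
  have hirr : ∀ ψ ∈ (linOver f.range).image (fun l => lin l * χ), IsIrrCharacter G ψ := by
    intro ψ hψ
    obtain ⟨l, -, rfl⟩ := Finset.mem_image.mp hψ
    exact IsIrr.lin_mul hχ l
  apply CF_ext (ind_mem_CF _ _)
    (Subalgebra.smul_mem _ (sum_mem fun ψ hψ => IsIrr.mem_CF (hirr ψ hψ)) _)
  intro ψ hψ
  rw [dot_smul_left, dot_sum_left,
    Finset.sum_congr rfl (fun φ hφ => IsIrr.dot_eq (hirr φ hφ) hψ), Finset.sum_ite_eq',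
    frob_rec _ _ (IsIrr.mem_CF hψ)]
  split_ifs with e
  · obtain ⟨l, hl, rfl⟩ := Finset.mem_image.mp e
    rw [lin_mul_comp f (mem_linOver.mp hl), mul_one,
      ZIrr.dot_comm (IsIrr.mem_ZIrr hθ) (ZIrr.comp (IsIrr.mem_ZIrr hχ) f)]
  · rw [mul_zero]
    by_contra h'
    obtain ⟨l, hl, rfl⟩ := exists_lin_mul_of_over f hab hθ hI hχ hψ h
      (fun e => h' (dot_comm_zero e))
    exact e (Finset.mem_image_of_mem _ hl)

omit [Finite H] hf in
theorem dot_sum_self_irr {C : Finset (G → ℂ)} (hC : ∀ ψ ∈ C, IsIrrCharacter G ψ) :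
    ⟪∑ ψ ∈ C, ψ, ∑ ψ ∈ C, ψ⟫ = C.card := by
  rw [dot_self, nrm_sum_of_orth C (fun ψ => ψ)
    (fun a ha b hb e => IsIrr.dot_ne (hC a ha) (hC b hb) e),
    Finset.sum_congr rfl (fun ψ hψ => IsIrr.nrm (hC ψ hψ))]
  simp

/-- Peterfalvi (1.7)(b) in the invariant case -/
theorem exists_ind_abelian_invariant (hab : commutator G ≤ f.range) {θ : H → ℂ}
    (hθ : IsIrrCharacter H θ) (hI : inertia f θ = ⊤) :
    ∃ (e : ℕ) (C : Finset (G → ℂ)), 0 < e ∧ (∀ ψ ∈ C, IsIrrCharacter G ψ ∧ ψ ∘ f = (e : ℂ) • θ) ∧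
      e ^ 2 * C.card = f.range.index ∧ ind f θ = (e : ℂ) • ∑ ψ ∈ C, ψ := by
  classical
  obtain ⟨χ, hχ, h⟩ := exists_constt_ind hf.inj hθ
  obtain ⟨e, he⟩ := IsChar.dot_nat (IsChar.comp (IsIrr.isChar hχ) f) (IsIrr.isChar hθ)
  have h1 := ind_abelian_invariant f hab hθ hI hχ h
  have h2 := clifford_invariant f hχ hθ h hI
  rw [he] at h1 h2 h
  set C := (linOver f.range).image (fun l => lin l * χ)
  have hC : ∀ ψ ∈ C, IsIrrCharacter G ψ ∧ ψ ∘ f = (e : ℂ) • θ := by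
    intro ψ hψ
    obtain ⟨l, hl, rfl⟩ := Finset.mem_image.mp hψ
    exact ⟨IsIrr.lin_mul hχ l, by rw [lin_mul_comp f (mem_linOver.mp hl), h2]⟩
  refine ⟨e, C, Nat.pos_of_ne_zero (Nat.cast_ne_zero.mp h), hC, ?_, h1⟩
  have h3 := dot_ind_self f hθ
  rw [hI, Subgroup.relIndex_top_right, h1, dot_smul_left, dot_smul_right,
    dot_sum_self_irr (fun ψ hψ => (hC ψ hψ).1), map_natCast, ← mul_assoc, ← sq] at h3
  exact_mod_cast h3

theorem commutator_le_of_prime_index {N : Subgroup G} [N.Normal] (hp : N.index.Prime) :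
    commutator G ≤ N := by
  haveI : Fact (N.index).Prime := ⟨hp⟩
  haveI : IsCyclic (G ⧸ N) := isCyclic_of_prime_card (p := N.index) rfl
  rw [← QuotientGroup.ker_mk' N]
  letI : CommGroup (G ⧸ N) := IsCyclic.commGroup
  exact Abelianization.commutator_subset_ker (QuotientGroup.mk' N)

/-- an invariant character extends over a prime index -/
theorem exists_extend_prime (hp : f.range.index.Prime) {θ : H → ℂ} (hθ : IsIrrCharacter H θ)
    (hI : inertia f θ = ⊤) : ∃ χ, IsIrrCharacter G χ ∧ χ ∘ f = θ := by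
  obtain ⟨e, C, he, hC, h1, h2⟩ :=
    exists_ind_abelian_invariant f (commutator_le_of_prime_index hp) hθ hI
  have he1 : e = 1 := by
    have : e * e ∣ f.range.index := ⟨C.card, by rw [← h1, sq]⟩
    exact Nat.isUnit_iff.mp (hp.squarefree e this)
  subst he1
  have : C.Nonempty := by
    rw [← Finset.card_pos]
    have := hp.pos
    omega
  obtain ⟨χ, hχ⟩ := this
  exact ⟨χ, (hC χ hχ).1, by simpa using (hC χ hχ).2⟩

omit [Finite H] hf in
theorem sup_commutator_ne_top {N : Subgroup G} [N.Normal] (hs : ∃ n, derivedSeries G n ≤ N)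
    (hN : N ≠ ⊤) : N ⊔ commutator G ≠ ⊤ := by
  intro h
  obtain ⟨n, hn⟩ := hs
  have hsurj := QuotientGroup.mk'_surjective N
  have h1 : derivedSeries (G ⧸ N) 1 = ⊤ := by
    rw [← map_derivedSeries_eq hsurj, derivedSeries_one,
      ← Subgroup.map_top_of_surjective _ hsurj, ← h, Subgroup.map_sup]
    simp
  have h2 : ∀ n, derivedSeries (G ⧸ N) n = ⊤ := by
    intro n
    induction n with
    | zero => rfl
    | succ n ih => rw [derivedSeries_succ, ih]; exact h1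
  have h3 := h2 n
  rw [← map_derivedSeries_eq hsurj, (Subgroup.map_eq_bot_iff _).mpr (by simpa using hn)] at h3
  apply hN
  rw [← QuotientGroup.ker_mk' N, eq_top_iff]
  intro g _
  have : QuotientGroup.mk' N g ∈ (⊥ : Subgroup (G ⧸ N)) := h3 ▸ Subgroup.mem_top _
  exact this

universe u

/-- Extension of an invariant character under a coprimeness condition (Isaacs (6.28)). -/
theorem exists_unique_extend_coprime {H : Type*} [Group H] [Finite H] {θ : H → ℂ}
    (hθ : IsIrrCharacter H θ) (m : ℕ) (hm : cfDet θ ^ m = 1) (n : ℕ) :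
    ∀ {G : Type u} [Group G] [Finite G] (f : H →* G) [NormalInj f], f.range.index = n →
    (∃ k, derivedSeries G k ≤ f.range) → inertia f θ = ⊤ → n.Coprime (deg θ * m) →
    ∃! χ, IsIrrCharacter G χ ∧ χ ∘ f = θ ∧ cfDet χ ^ m = 1 := by
  induction n using Nat.strong_induction_on with
  | _ n ih =>
  intro G _ _ f hf hn hs hI hc
  by_cases htop : f.range = ⊤
  · let e : H ≃* G := MulEquiv.ofBijective f ⟨hf.inj, MonoidHom.range_eq_top.mp htop⟩
    have he : (θ ∘ e.symm) ∘ f = θ := by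
      ext x; exact congrArg θ (e.symm_apply_apply x)
    refine ⟨θ ∘ e.symm, ⟨IsIrr.comp_equiv hθ e.symm, he, ?_⟩, ?_⟩
    · have := cfDet_comp (IsIrr.isChar hθ) e.symm.toMonoidHom
      erw [this]
      exact MonoidHom.ext fun g => DFunLike.congr_fun hm (e.symm g)
    · rintro χ ⟨-, h, -⟩
      exact comp_surj_injective (MonoidHom.range_eq_top.mp htop) (h.trans he.symm)
  obtain ⟨M, hM, hp⟩ := exists_prime_index (N := f.range ⊔ commutator G) le_sup_right
    (sup_commutator_ne_top hs htop)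
  have hMr : f.range ≤ M := le_sup_left.trans hM
  have hMc : commutator G ≤ M := le_sup_right.trans hM
  haveI : M.Normal := normal_of_commutator_le hMc
  let i : H →* M := f.codRestrict M (fun x => hMr ⟨x, rfl⟩)
  haveI hfi : NormalInj (M.subtype.comp i) := hf
  haveI : NormalInj i := NormalInj.of_comp i M.subtype M.subtype_injective
  have hir : i.range = f.range.subgroupOf M := by
    ext x
    simp only [MonoidHom.mem_range, Subgroup.mem_subgroupOf]
    exact exists_congr fun y => Subtype.ext_iff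
  have hidx : i.range.index * M.index = n := by
    rw [hir, ← hn]; exact Subgroup.relIndex_mul_index hMr
  have hn0 : n ≠ 0 := hn ▸ Subgroup.index_ne_zero_of_finite
  have hlt : i.range.index < n := by
    rw [← hidx]
    exact lt_mul_of_one_lt_right (Nat.pos_of_ne_zero Subgroup.index_ne_zero_of_finite) hp.one_lt
  have hs' : ∃ k, derivedSeries M k ≤ i.range := by
    obtain ⟨k, hk⟩ := hs
    refine ⟨k, fun x hx => ?_⟩
    rw [hir]
    exact hk (map_derivedSeries_le_derivedSeries M.subtype k ⟨x, hx, rfl⟩)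
  have hI' : inertia i θ = ⊤ := by
    rw [inertia_comp i M.subtype]
    change (inertia f θ).comap _ = ⊤
    rw [hI]; rfl
  obtain ⟨φ, ⟨hφ, hφr, hφd⟩, hφu⟩ := ih _ hlt i rfl hs' hI'
    (Nat.Coprime.coprime_dvd_left ⟨_, hidx.symm⟩ hc)
  have hφI : inertia M.subtype φ = ⊤ := by
    rw [eq_top_iff]
    intro g _
    apply hφu
    refine ⟨IsIrr.cj _ hφ g, ?_, ?_⟩
    · ext x
      rw [Function.comp_apply, Function.comp_apply, ← cj_comp_apply i M.subtype]
      have : g ∈ inertia (M.subtype.comp i) θ := by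
        change g ∈ inertia f θ
        rw [hI]; trivial
      exact (congrFun hφr _).trans (congrFun this x)
    · have := cfDet_comp (IsIrr.isChar hφ) (cj M.subtype g).toMonoidHom
      erw [this]
      exact MonoidHom.ext fun x => DFunLike.congr_fun hφd (cj M.subtype g x)
  have hp' : M.subtype.range.index.Prime := by rwa [Subgroup.range_subtype]
  obtain ⟨χ, hχ, hχr⟩ := exists_extend_prime M.subtype hp' hφ hφI
  have hdeg : deg χ = deg θ := by rw [← hφr, ← hχr, deg_comp, deg_comp]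
  have hcp : (deg θ * m).Coprime M.index :=
    (Nat.Coprime.coprime_dvd_left ⟨_, by rw [← hidx, mul_comm]⟩ hc).symm
  have hδ : M ≤ (cfDet χ ^ m).ker := by
    intro x hx
    have := DFunLike.congr_fun hφd ⟨x, hx⟩
    rw [← hχr, cfDet_comp (IsIrr.isChar hχ)] at this
    exact this
  -- the twist with trivial `m`-th power of the determinant
  obtain ⟨k, -, hk⟩ := Nat.exists_mul_mod_eq_one_of_coprime hcp hp.one_lt
  have hpow : ∀ l : G →* ℂˣ, M ≤ l.ker → (l ^ k) ^ (deg θ * m) = l := by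
    intro l hl
    rw [← pow_mul, mul_comm k, pow_eq_pow_mod _ (pow_index_eq_one_of_le_ker hl), hk, pow_one]
  let l0 := (cfDet χ ^ m)⁻¹ ^ k
  have hl0 : M ≤ l0.ker := by
    intro x hx
    have := (MonoidHom.mem_ker).mp (hδ hx)
    rw [MonoidHom.mem_ker, MonoidHom.pow_apply, MonoidHom.inv_apply, this, inv_one, one_pow]
  have hδ' : M ≤ ((cfDet χ ^ m)⁻¹).ker := by
    intro x hx
    have := (MonoidHom.mem_ker).mp (hδ hx)
    rw [MonoidHom.mem_ker, MonoidHom.inv_apply, this, inv_one]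
  have hdet : ∀ l : G →* ℂˣ, cfDet (lin l * χ) ^ m = l ^ (deg θ * m) * cfDet χ ^ m := by
    intro l
    rw [cfDet_lin_mul (IsIrr.isChar hχ), hdeg, mul_pow, pow_mul]
  refine ⟨lin l0 * χ, ⟨IsIrr.lin_mul hχ l0, ?_, ?_⟩, ?_⟩
  · rw [lin_mul_comp f (hMr.trans hl0), ← hφr, ← hχr]; rfl
  · rw [hdet, hpow _ hδ', inv_mul_cancel]
  · rintro ψ ⟨hψ, hψr, hψd⟩
    have h1 : ψ ∘ M.subtype = φ := by
      apply hφu
      refine ⟨IsChar.irr_of_res_irr i (IsChar.comp (IsIrr.isChar hψ) _) (hψr ▸ hθ), hψr, ?_⟩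
      rw [cfDet_comp (IsIrr.isChar hψ)]
      exact MonoidHom.ext fun x => DFunLike.congr_fun hψd (x : G)
    obtain ⟨l, hl, rfl⟩ := exists_lin_mul_of_over M.subtype (by rwa [Subgroup.range_subtype])
      hφ hφI hχ hψ (by rw [hχr, IsIrr.dot_self hφ]; exact one_ne_zero)
      (by rw [h1, IsIrr.dot_self hφ]; exact one_ne_zero)
    rw [mem_linOver, Subgroup.range_subtype] at hl
    rw [hdet, mul_eq_one_iff_eq_inv] at hψd
    congr 2
    change l = (cfDet χ ^ m)⁻¹ ^ k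
    rw [← hψd, ← pow_mul, mul_comm, pow_mul, hpow l hl]

theorem exists_extend_coprime (hs : ∃ k, derivedSeries G k ≤ f.range) {θ : H → ℂ}
    (hθ : IsIrrCharacter H θ) (hI : inertia f θ = ⊤) (hc : (Nat.card H).Coprime f.range.index) :
    ∃ χ, IsIrrCharacter G χ ∧ χ ∘ f = θ := by
  obtain ⟨χ, h, -⟩ := exists_unique_extend_coprime hθ (Nat.card H) (lin_pow_card_eq_one _) _ f rfl
    hs hI (Nat.Coprime.mul_right
      (Nat.Coprime.coprime_dvd_right (IsIrr.deg_dvd_card hθ) hc.symm) hc.symm)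
  exact ⟨χ, h.1, h.2.1⟩

open Classical in
/-- if `θ` extends to `χ` and the quotient is abelian then `θ^G` is a sum of `[G : H]` distinct
irreducible characters -/
theorem ind_res_irr_abelian (hab : commutator G ≤ f.range) {χ : G → ℂ} (hχ : IsCharacter G χ)
    (hθ : IsIrrCharacter H (χ ∘ f)) :
    Set.InjOn (fun l => lin l * χ) (linOver f.range : Set (G →* ℂˣ)) := by
  intro a ha b hb e
  simp only [Finset.mem_coe, mem_linOver] at ha hb
  apply lin_injective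
  apply gallagher_inj f hχ hθ (lin_irr a) (lin_irr b) (by rwa [cfker_lin]) (by rwa [cfker_lin])
  simpa only [mul_comm] using e

theorem realizeEqns_Char_Inertia : True := by
  have := @CA.Chr.linOver.eq_1.{0}
  have := @CA.Chr.linOver.eq_def.{0}
  have := @CA.Chr.linOver.congr_simp.{0}
  trivial

end CA.Chr
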