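import Cfsg.Agent.Char.Rep

/-!
# The basis of irreducible characters, virtual characters, second orthogonality relation
-/

set_option autoImplicit false

open scoped ComplexConjugate
open Cfsg Module

namespace CA.Chr

variable {G : Type*} [Group G] [Finite G]

theorem finite_irr : {χ : G → ℂ | IsIrrCharacter G χ}.Finite :=
  finite_of_orth _ (fun h => IsIrr.ne_zero h rfl) (fun _ h _ h' e => IsIrr.dot_ne h h' e)

variable (G) in
/-- The finite set of irreducible characters. -/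
noncomputable def irr : Finset (G → ℂ) := finite_irr.toFinset

@[simp] theorem mem_irr {χ : G → ℂ} : χ ∈ irr G ↔ IsIrrCharacter G χ := by
  simp [irr]

theorem one_mem_irr : (1 : G → ℂ) ∈ irr G := mem_irr.mpr one_irr

theorem IsIrr.mem_CF {G : Type*} [Group G] {χ : G → ℂ} (h : IsIrrCharacter G χ) : χ ∈ CF G :=
  IsChar.mem_CF (IsIrr.isChar h)

theorem lin_mem_CF {G : Type*} [Group G] (l : G →* ℂˣ) : lin l ∈ CF G := IsIrr.mem_CF (lin_irr l)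

theorem dot_sum_irr (c : (G → ℂ) → ℂ) {ψ : G → ℂ} (hψ : IsIrrCharacter G ψ) :
    ⟪∑ χ ∈ irr G, c χ • χ, ψ⟫ = c ψ := by
  rw [dot_sum_left, Finset.sum_eq_single ψ]
  · rw [dot_smul_left, IsIrr.dot_self hψ, mul_one]
  · intro χ hχ hne
    rw [dot_smul_left, IsIrr.dot_ne (mem_irr.mp hχ) hψ hne, mul_zero]
  · intro h; exact absurd (mem_irr.mpr hψ) h

theorem CF_ext {θ φ : G → ℂ} (hθ : θ ∈ CF G) (hφ : φ ∈ CF G)
    (h : ∀ χ, IsIrrCharacter G χ → ⟪θ, χ⟫ = ⟪φ, χ⟫) : θ = φ := by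
  rw [← sub_eq_zero]
  apply CF_eq_zero_of_orth (sub_mem hθ hφ)
  intro χ hχ
  rw [dot_sub_left, h χ hχ, sub_self]

theorem CF_expand {θ : G → ℂ} (hθ : θ ∈ CF G) : θ = ∑ χ ∈ irr G, ⟪θ, χ⟫ • χ := by
  apply CF_ext hθ
  · exact sum_mem fun χ hχ => Subalgebra.smul_mem _ (IsIrr.mem_CF (mem_irr.mp hχ)) _
  · intro χ hχ
    rw [dot_sum_irr _ hχ]

theorem CF_expand_apply {θ : G → ℂ} (hθ : θ ∈ CF G) (g : G) :
    θ g = ∑ χ ∈ irr G, ⟪θ, χ⟫ * χ g := by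
  conv_lhs => rw [CF_expand hθ]
  simp

theorem parseval {θ : G → ℂ} (hθ : θ ∈ CF G) (φ : G → ℂ) :
    ⟪θ, φ⟫ = ∑ χ ∈ irr G, ⟪θ, χ⟫ * ⟪χ, φ⟫ := by
  conv_lhs => rw [CF_expand hθ]
  simp only [dot_sum_left, dot_smul_left]

theorem nrm_parseval {θ : G → ℂ} (hθ : θ ∈ CF G) : nrm θ = ∑ χ ∈ irr G, ‖⟪θ, χ⟫‖ ^ 2 := by
  rw [nrm, parseval hθ, Complex.re_sum]
  refine Finset.sum_congr rfl fun χ _ => ?_
  rw [← conj_dot θ χ, Complex.mul_conj, Complex.ofReal_re, Complex.normSq_eq_norm_sq]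

theorem CF_exists_constt {θ : G → ℂ} (hθ : θ ∈ CF G) (h0 : θ ≠ 0) :
    ∃ χ, IsIrrCharacter G χ ∧ ⟪θ, χ⟫ ≠ 0 := by
  by_contra h
  push Not at h
  exact h0 (CF_eq_zero_of_orth hθ h)

theorem exists_common_constt {θ φ : G → ℂ} (hθ : θ ∈ CF G) (h0 : ⟪θ, φ⟫ ≠ 0) :
    ∃ χ, IsIrrCharacter G χ ∧ ⟪θ, χ⟫ ≠ 0 ∧ ⟪φ, χ⟫ ≠ 0 := by
  rw [parseval hθ] at h0
  obtain ⟨χ, hχ, h⟩ := Finset.exists_ne_zero_of_sum_ne_zero h0
  refine ⟨χ, mem_irr.mp hχ, left_ne_zero_of_mul h, fun e => right_ne_zero_of_mul h ?_⟩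
  exact dot_comm_zero e

theorem isChar_of_dot_nat {θ : G → ℂ} (hθ : θ ∈ CF G)
    (h : ∀ χ, IsIrrCharacter G χ → ∃ n : ℕ, ⟪θ, χ⟫ = n) : IsCharacter G θ := by
  rw [CF_expand hθ]
  refine IsChar.sum _ fun χ hχ => ?_
  obtain ⟨n, hn⟩ := h χ (mem_irr.mp hχ)
  rw [hn]
  exact IsChar.natCast_smul (IsIrr.isChar (mem_irr.mp hχ)) n

/-! ### virtual characters -/

/-- The ring of virtual characters. -/
def ZIrr (G : Type*) [Group G] : Subring (G → ℂ) where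
  carrier := {θ | IsGeneralizedCharacter G θ}
  mul_mem' := by
    rintro _ _ ⟨a, b, ha, hb, rfl⟩ ⟨c, d, hc, hd, rfl⟩
    exact ⟨a * c + b * d, a * d + b * c, IsChar.add (IsChar.mul ha hc) (IsChar.mul hb hd),
      IsChar.add (IsChar.mul ha hd) (IsChar.mul hb hc), by ring⟩
  one_mem' := ⟨1, 0, IsChar.one, IsChar.zero, by simp⟩
  add_mem' := by
    rintro _ _ ⟨a, b, ha, hb, rfl⟩ ⟨c, d, hc, hd, rfl⟩
    exact ⟨a + c, b + d, IsChar.add ha hc, IsChar.add hb hd, by ring⟩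
  zero_mem' := ⟨0, 0, IsChar.zero, IsChar.zero, by simp⟩
  neg_mem' := by
    rintro _ ⟨a, b, ha, hb, rfl⟩
    exact ⟨b, a, hb, ha, by ring⟩

section NoFin
variable {G : Type*} [Group G]

theorem mem_ZIrr {θ : G → ℂ} : θ ∈ ZIrr G ↔ IsGeneralizedCharacter G θ := Iff.rfl

theorem IsChar.mem_ZIrr {χ : G → ℂ} (h : IsCharacter G χ) : χ ∈ ZIrr G :=
  ⟨χ, 0, h, IsChar.zero, by simp⟩

theorem IsIrr.mem_ZIrr {χ : G → ℂ} (h : IsIrrCharacter G χ) : χ ∈ ZIrr G :=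
  IsChar.mem_ZIrr (IsIrr.isChar h)

theorem lin_mem_ZIrr (l : G →* ℂˣ) : lin l ∈ ZIrr G := IsIrr.mem_ZIrr (lin_irr l)

theorem ZIrr.mem_CF {θ : G → ℂ} (h : θ ∈ ZIrr G) : θ ∈ CF G := by
  obtain ⟨a, b, ha, hb, rfl⟩ := h
  exact sub_mem (IsChar.mem_CF ha) (IsChar.mem_CF hb)

theorem ZIrr.intCast_smul {θ : G → ℂ} (h : θ ∈ ZIrr G) (n : ℤ) : (n : ℂ) • θ ∈ ZIrr G := by
  rw [Int.cast_smul_eq_zsmul]; exact zsmul_mem h n

theorem ZIrr.natCast_smul {θ : G → ℂ} (h : θ ∈ ZIrr G) (n : ℕ) : (n : ℂ) • θ ∈ ZIrr G := by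
  rw [Nat.cast_smul_eq_nsmul]; exact nsmul_mem h n

theorem ZIrr.smul_of_int {θ : G → ℂ} (h : θ ∈ ZIrr G) {c : ℂ} (hc : ∃ n : ℤ, c = n) :
    c • θ ∈ ZIrr G := by
  obtain ⟨n, rfl⟩ := hc; exact ZIrr.intCast_smul h n

theorem ZIrr.comp {H : Type*} [Group H] {θ : G → ℂ} (h : θ ∈ ZIrr G) (f : H →* G) :
    θ ∘ f ∈ ZIrr H := by
  obtain ⟨a, b, ha, hb, rfl⟩ := h
  exact ⟨a ∘ f, b ∘ f, IsChar.comp ha f, IsChar.comp hb f, rfl⟩

theorem ZIrr.deg_int {θ : G → ℂ} (h : θ ∈ ZIrr G) : ∃ n : ℤ, θ 1 = n := by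
  obtain ⟨a, b, ha, hb, rfl⟩ := h
  obtain ⟨n, hn⟩ := IsChar.exists_deg ha
  obtain ⟨m, hm⟩ := IsChar.exists_deg hb
  exact ⟨n - m, by simp [hn, hm]⟩

end NoFin

theorem ZIrr.conjFun {θ : G → ℂ} (h : θ ∈ ZIrr G) : conjFun θ ∈ ZIrr G := by
  obtain ⟨a, b, ha, hb, rfl⟩ := h
  exact ⟨_, _, IsChar.conjFun ha, IsChar.conjFun hb, conjFun_sub _ _⟩

theorem ZIrr.apply_inv {θ : G → ℂ} (h : θ ∈ ZIrr G) (g : G) : θ g⁻¹ = conj (θ g) := by
  obtain ⟨a, b, ha, hb, rfl⟩ := h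
  simp [IsChar.apply_inv ha, IsChar.apply_inv hb]

theorem ZIrr.dot_int {θ φ : G → ℂ} (h : θ ∈ ZIrr G) (h' : φ ∈ ZIrr G) :
    ∃ n : ℤ, ⟪θ, φ⟫ = n := by
  obtain ⟨a, b, ha, hb, rfl⟩ := h
  obtain ⟨c, d, hc, hd, rfl⟩ := h'
  obtain ⟨n1, h1⟩ := IsChar.dot_nat ha hc
  obtain ⟨n2, h2⟩ := IsChar.dot_nat ha hd
  obtain ⟨n3, h3⟩ := IsChar.dot_nat hb hc
  obtain ⟨n4, h4⟩ := IsChar.dot_nat hb hd
  refine ⟨n1 - n2 - (n3 - n4), ?_⟩
  simp only [dot_sub_left, dot_sub_right, h1, h2, h3, h4]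
  push_cast; ring

theorem ZIrr.dot_comm {θ φ : G → ℂ} (h : θ ∈ ZIrr G) (h' : φ ∈ ZIrr G) : ⟪θ, φ⟫ = ⟪φ, θ⟫ := by
  obtain ⟨n, hn⟩ := ZIrr.dot_int h h'
  rw [hn, dot_comm_of_int hn]

theorem ZIrr.conj_dot {θ φ : G → ℂ} (h : θ ∈ ZIrr G) (h' : φ ∈ ZIrr G) :
    conj ⟪θ, φ⟫ = ⟪θ, φ⟫ := by
  obtain ⟨n, hn⟩ := ZIrr.dot_int h h'
  rw [hn, map_intCast]

theorem ZIrr.dot_conjFun {θ φ : G → ℂ} (h : θ ∈ ZIrr G) (h' : φ ∈ ZIrr G) :
    ⟪Cfsg.conjFun θ, Cfsg.conjFun φ⟫ = ⟪θ, φ⟫ := by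
  rw [CA.Chr.dot_conjFun, ZIrr.conj_dot h h']

theorem mem_ZIrr_of_dot_int {θ : G → ℂ} (hθ : θ ∈ CF G)
    (h : ∀ χ, IsIrrCharacter G χ → ∃ n : ℤ, ⟪θ, χ⟫ = n) : θ ∈ ZIrr G := by
  rw [CF_expand hθ]
  exact sum_mem fun χ hχ =>
    ZIrr.smul_of_int (IsIrr.mem_ZIrr (mem_irr.mp hχ)) (h χ (mem_irr.mp hχ))

/-- integer valued inner product -/
noncomputable def zdot {G : Type*} (θ φ : G → ℂ) : ℤ := ⌊(⟪θ, φ⟫).re⌋

theorem zdot_eq {G : Type*} {θ φ : G → ℂ} {n : ℤ} (h : ⟪θ, φ⟫ = n) : zdot θ φ = n := by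
  simp [zdot, h]

theorem ZIrr.coe_zdot {θ φ : G → ℂ} (h : θ ∈ ZIrr G) (h' : φ ∈ ZIrr G) :
    (zdot θ φ : ℂ) = ⟪θ, φ⟫ := by
  obtain ⟨n, hn⟩ := ZIrr.dot_int h h'
  rw [zdot_eq hn, hn]

theorem ZIrr.nrm_eq_sum {θ : G → ℂ} (h : θ ∈ ZIrr G) :
    nrm θ = ((∑ χ ∈ irr G, (zdot θ χ) ^ 2 : ℤ) : ℝ) := by
  rw [nrm_parseval (ZIrr.mem_CF h)]
  push_cast
  refine Finset.sum_congr rfl fun χ hχ => ?_
  rw [← ZIrr.coe_zdot h (IsIrr.mem_ZIrr (mem_irr.mp hχ)), Complex.norm_intCast, sq_abs]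

theorem ZIrr.nrm_nat {θ : G → ℂ} (h : θ ∈ ZIrr G) : ∃ n : ℕ, nrm θ = n := by
  have h1 := ZIrr.nrm_eq_sum h
  have h2 : 0 ≤ ∑ χ ∈ irr G, (zdot θ χ) ^ 2 := Finset.sum_nonneg fun _ _ => sq_nonneg _
  obtain ⟨n, hn⟩ := Int.eq_ofNat_of_zero_le h2
  exact ⟨n, by rw [h1, hn]; simp⟩

theorem ZIrr.one_le_nrm {θ : G → ℂ} (h : θ ∈ ZIrr G) (h0 : θ ≠ 0) : 1 ≤ nrm θ := by
  obtain ⟨n, hn⟩ := ZIrr.nrm_nat h
  have := nrm_pos h0
  rw [hn] at this ⊢
  exact_mod_cast this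

theorem ZIrr.eq_zero_of_nrm_lt_one {θ : G → ℂ} (h : θ ∈ ZIrr G) (h0 : nrm θ < 1) : θ = 0 := by
  by_contra h'
  exact absurd (ZIrr.one_le_nrm h h') (not_le.mpr h0)

/-- irreducible characters up to sign -/
def Dirr {G : Type*} [Group G] (χ : G → ℂ) : Prop := IsIrrCharacter G χ ∨ IsIrrCharacter G (-χ)

theorem Dirr.mem_ZIrr {G : Type*} [Group G] {χ : G → ℂ} (h : Dirr χ) : χ ∈ ZIrr G := by
  rcases h with h | h
  · exact IsIrr.mem_ZIrr h
  · simpa using neg_mem (IsIrr.mem_ZIrr h)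

theorem Dirr.neg {G : Type*} [Group G] {χ : G → ℂ} (h : Dirr χ) : Dirr (-χ) := by
  rcases h with h | h
  · exact Or.inr (by simpa using h)
  · exact Or.inl h

theorem IsIrr.dirr {G : Type*} [Group G] {χ : G → ℂ} (h : IsIrrCharacter G χ) : Dirr χ := Or.inl h

theorem Dirr.exists_sign {G : Type*} [Group G] {χ : G → ℂ} (h : Dirr χ) :
    ∃ (ε : ℤ) (ψ : G → ℂ), (ε = 1 ∨ ε = -1) ∧ IsIrrCharacter G ψ ∧ χ = (ε : ℂ) • ψ := by
  rcases h with h | h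
  · exact ⟨1, χ, Or.inl rfl, h, by simp⟩
  · exact ⟨-1, -χ, Or.inr rfl, h, by simp⟩

theorem Dirr.dot_self {χ : G → ℂ} (h : Dirr χ) : ⟪χ, χ⟫ = 1 := by
  rcases h with h | h
  · exact IsIrr.dot_self h
  · simpa [dot_neg_left, dot_neg_right] using IsIrr.dot_self h

theorem Dirr.nrm {χ : G → ℂ} (h : Dirr χ) : nrm χ = 1 :=
  nrm_eq_of_dot (by simpa using h.dot_self)

theorem Dirr.deg_ne_zero {G : Type*} [Group G] {χ : G → ℂ} (h : Dirr χ) : χ 1 ≠ 0 := by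
  rcases h with h | h
  · exact IsIrr.deg_ne_zero h
  · simpa using IsIrr.deg_ne_zero h

theorem Dirr.dot_cases {χ ψ : G → ℂ} (h : Dirr χ) (h' : Dirr ψ) :
    (χ = ψ ∧ ⟪χ, ψ⟫ = 1) ∨ (χ = -ψ ∧ ⟪χ, ψ⟫ = -1) ∨ (χ ≠ ψ ∧ χ ≠ -ψ ∧ ⟪χ, ψ⟫ = 0) := by
  by_cases e : χ = ψ
  · exact Or.inl ⟨e, by rw [e, h'.dot_self]⟩
  by_cases e' : χ = -ψ
  · exact Or.inr (Or.inl ⟨e', by rw [e', dot_neg_left, h'.dot_self]⟩)
  refine Or.inr (Or.inr ⟨e, e', ?_⟩)
  rcases h with h | h <;> rcases h' with h' | h'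
  · exact IsIrr.dot_ne h h' e
  · simpa [dot_neg_right] using IsIrr.dot_ne h h' e'
  · simpa [dot_neg_left] using IsIrr.dot_ne h h' (fun e'' => e' (by rw [← e'', neg_neg]))
  · simpa [dot_neg_left, dot_neg_right] using IsIrr.dot_ne h h' (fun e'' => e (neg_injective e''))

theorem Dirr.dot_eq_zero {χ ψ : G → ℂ} (h : Dirr χ) (h' : Dirr ψ) (e : χ ≠ ψ) (e' : χ ≠ -ψ) :
    ⟪χ, ψ⟫ = 0 := by
  rcases h.dot_cases h' with h | h | h
  exacts [absurd h.1 e, absurd h.1 e', h.2.2]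

theorem Dirr.eq_of_dot_eq_one {χ ψ : G → ℂ} (h : Dirr χ) (h' : Dirr ψ) (e : ⟪χ, ψ⟫ = 1) :
    χ = ψ := by
  rcases h.dot_cases h' with h | h | h
  · exact h.1
  · rw [h.2] at e; norm_num at e
  · rw [h.2.2] at e; norm_num at e

theorem Dirr.irr_of_deg_pos {G : Type*} [Group G] {χ : G → ℂ} (h : Dirr χ) (h1 : 0 < (χ 1).re) :
    IsIrrCharacter G χ := by
  rcases h with h | h
  · exact h
  · obtain ⟨n, -, hn⟩ := IsIrr.exists_deg h
    have : χ 1 = -n := by rw [← hn]; simp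
    rw [this] at h1
    simp at h1
    exact absurd h1 (not_lt.mpr (Nat.cast_nonneg n))

theorem ZIrr.dirr_of_nrm_one {θ : G → ℂ} (h : θ ∈ ZIrr G) (h1 : nrm θ = 1) : Dirr θ := by
  classical
  have h0 : θ ≠ 0 := by rintro rfl; simp at h1
  obtain ⟨χ, hχ, hne⟩ := CF_exists_constt (ZIrr.mem_CF h) h0
  obtain ⟨n, hn⟩ := ZIrr.dot_int h (IsIrr.mem_ZIrr hχ)
  have hn0 : n ≠ 0 := by rintro rfl; exact hne (by simpa using hn)
  have hb := bessel {χ} (fun x => x) (by simpa using IsIrr.dot_self hχ) (by simp) θ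
  simp only [Finset.sum_singleton, hn, h1, Complex.norm_intCast, sq_abs] at hb
  have h2 := nrm_nonneg (θ - (n : ℂ) • χ)
  have h3 : (1 : ℝ) ≤ (n : ℝ) ^ 2 := by exact_mod_cast (one_le_sq_iff_one_le_abs n).mpr (Int.one_le_abs hn0)
  have h4 : nrm (θ - (n : ℂ) • χ) = 0 := by linarith
  have h5 : (n : ℝ) ^ 2 = 1 := by linarith
  rw [nrm_eq_zero, sub_eq_zero] at h4
  have h6 : n ^ 2 = 1 := by exact_mod_cast h5
  rcases Int.isUnit_iff.mp (IsUnit.of_pow_eq_one h6 two_ne_zero) with rfl | rfl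
  · left; simpa [h4] using hχ
  · right; simpa [h4] using hχ

theorem ZIrr.dirr_of_dot_self {θ : G → ℂ} (h : θ ∈ ZIrr G) (h1 : ⟪θ, θ⟫ = 1) : Dirr θ :=
  ZIrr.dirr_of_nrm_one h (nrm_eq_of_dot (by simpa using h1))

theorem IsChar.irr_of_dot_self {χ : G → ℂ} (h : IsCharacter G χ) (h1 : ⟪χ, χ⟫ = 1) :
    IsIrrCharacter G χ := by
  have hd := ZIrr.dirr_of_dot_self (IsChar.mem_ZIrr h) h1
  apply hd.irr_of_deg_pos
  obtain ⟨n, hn⟩ := IsChar.exists_deg h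
  have := hd.deg_ne_zero
  rw [hn] at this ⊢
  simpa using Nat.pos_of_ne_zero (Nat.cast_ne_zero.mp this)

theorem IsIrr.conjFun {χ : G → ℂ} (h : IsIrrCharacter G χ) : IsIrrCharacter G (conjFun χ) :=
  IsChar.irr_of_dot_self (IsChar.conjFun (IsIrr.isChar h))
    (by rw [dot_conjFun, IsIrr.dot_self h, map_one])

theorem Dirr.conjFun {χ : G → ℂ} (h : Dirr χ) : Dirr (conjFun χ) := by
  rcases h with h | h
  · exact Or.inl (IsIrr.conjFun h)
  · exact Or.inr (by rw [← conjFun_neg]; exact IsIrr.conjFun h)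

theorem conj_lin_mul_lin (l : G →* ℂˣ) : conjFun (lin l) * lin l = 1 := by
  rw [← lin_inv]; ext; simp

theorem IsIrr.lin_mul {χ : G → ℂ} (h : IsIrrCharacter G χ) (l : G →* ℂˣ) :
    IsIrrCharacter G (lin l * χ) := by
  apply IsChar.irr_of_dot_self (IsChar.mul (IsIrr.isChar (lin_irr l)) (IsIrr.isChar h))
  rw [dot_mul_left, ← mul_assoc, conj_lin_mul_lin, one_mul, IsIrr.dot_self h]

theorem sum_comp_surj {H G : Type*} [Group H] [Group G] [Fintype H] [Fintype G] (f : H →* G)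
    (hf : Function.Surjective f) {M : Type*} [AddCommMonoid M] (F : G → M) :
    ∑ h, F (f h) = Nat.card f.ker • ∑ g, F g := by
  classical
  rw [← Finset.sum_fiberwise (s := Finset.univ) (g := f) (f := fun h => F (f h)), Finset.smul_sum]
  refine Finset.sum_congr rfl fun g _ => ?_
  rw [Finset.sum_congr rfl (g := fun _ => F g) (fun h hh => by rw [(Finset.mem_filter.mp hh).2]),
    Finset.sum_const, MonoidHom.card_fiber_eq_of_mem_range f (hf g) (hf 1)]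
  congr 1
  rw [Nat.card_eq_fintype_card, Fintype.card_subtype]
  simp [MonoidHom.mem_ker]

theorem card_eq_of_surj {H G : Type*} [Group H] [Group G] (f : H →* G)
    (hf : Function.Surjective f) : Nat.card H = Nat.card f.ker * Nat.card G := by
  rw [← Subgroup.card_mul_index f.ker, Subgroup.index_ker, MonoidHom.range_eq_top.mpr hf,
    Subgroup.card_top]

theorem dot_comp_surj {H : Type*} [Group H] [Finite H] (f : H →* G) (hf : Function.Surjective f)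
    (φ ψ : G → ℂ) : ⟪φ ∘ f, ψ ∘ f⟫ = ⟪φ, ψ⟫ := by
  cases nonempty_fintype G
  cases nonempty_fintype H
  rw [dot_def, dot_def]
  have := sum_comp_surj f hf (fun g => φ g * conj (ψ g))
  simp only [Function.comp_apply]
  rw [this, card_eq_of_surj f hf, nsmul_eq_mul]
  have h1 : (Nat.card f.ker : ℂ) ≠ 0 := card_ne_zero
  have h2 : (Nat.card G : ℂ) ≠ 0 := card_ne_zero
  push_cast
  field_simp

theorem IsIrr.comp_surj {H : Type*} [Group H] [Finite H] {χ : G → ℂ} (h : IsIrrCharacter G χ)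
    (f : H →* G) (hf : Function.Surjective f) : IsIrrCharacter H (χ ∘ f) :=
  IsChar.irr_of_dot_self (IsChar.comp (IsIrr.isChar h) f)
    (by rw [dot_comp_surj f hf, IsIrr.dot_self h])

theorem IsIrr.comp_equiv {H : Type*} [Group H] {χ : G → ℂ} (h : IsIrrCharacter G χ)
    (e : H ≃* G) : IsIrrCharacter H (χ ∘ e) :=
  haveI : Finite H := Finite.of_equiv G e.symm.toEquiv
  IsIrr.comp_surj h e.toMonoidHom e.surjective

theorem isIrr_comp_equiv_iff {H : Type*} [Group H] {χ : G → ℂ} (e : H ≃* G) :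
    IsIrrCharacter H (χ ∘ e) ↔ IsIrrCharacter G χ := by
  haveI : Finite H := Finite.of_equiv G e.symm.toEquiv
  refine ⟨fun h => ?_, fun h => IsIrr.comp_equiv h e⟩
  have := IsIrr.comp_equiv h e.symm
  simpa [Function.comp_assoc] using this

theorem dot_comp_mulEquiv {H : Type*} [Group H] (e : H ≃* G) (φ ψ : G → ℂ) :
    ⟪φ ∘ e, ψ ∘ e⟫ = ⟪φ, ψ⟫ := dot_comp_equiv e.toEquiv φ ψ

/-! ### degrees -/

/-- the degree of a character as a natural number -/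
noncomputable def deg {G : Type*} [One G] (χ : G → ℂ) : ℕ := ⌊(χ 1).re⌋₊

section NoFin
variable {G : Type*} [Group G]

theorem deg_eq {χ : G → ℂ} {n : ℕ} (h : χ 1 = n) : deg χ = n := by simp [deg, h]

theorem IsChar.coe_deg {χ : G → ℂ} (h : IsCharacter G χ) : (deg χ : ℂ) = χ 1 := by
  obtain ⟨n, hn⟩ := IsChar.exists_deg h
  rw [deg_eq hn, hn]

theorem IsIrr.coe_deg {χ : G → ℂ} (h : IsIrrCharacter G χ) : (deg χ : ℂ) = χ 1 :=
  IsChar.coe_deg (IsIrr.isChar h)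

theorem IsChar.deg_pos {χ : G → ℂ} (h : IsCharacter G χ) (h0 : χ ≠ 0) : 0 < deg χ := by
  apply Nat.pos_of_ne_zero
  intro e
  exact h0 (IsChar.eq_zero_of_deg h (by rw [← IsChar.coe_deg h, e, Nat.cast_zero]))

theorem IsIrr.deg_pos {χ : G → ℂ} (h : IsIrrCharacter G χ) : 0 < deg χ :=
  IsChar.deg_pos (IsIrr.isChar h) (IsIrr.ne_zero h)

@[simp] theorem deg_lin (l : G →* ℂˣ) : deg (lin l) = 1 := deg_eq (by simp)

@[simp] theorem deg_one : deg (1 : G → ℂ) = 1 := deg_eq (by simp)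

theorem deg_comp {H : Type*} [Group H] (χ : G → ℂ) (f : H →* G) : deg (χ ∘ f) = deg χ := by
  simp [deg]

theorem IsChar.conj_one {χ : G → ℂ} (h : IsCharacter G χ) : conj (χ 1) = χ 1 := by
  rw [← IsChar.coe_deg h, map_natCast]

theorem ZIrr.conj_one {χ : G → ℂ} (h : χ ∈ ZIrr G) : conj (χ 1) = χ 1 := by
  obtain ⟨n, hn⟩ := ZIrr.deg_int h
  rw [hn, map_intCast]

theorem deg_conjFun (χ : G → ℂ) : deg (Cfsg.conjFun χ) = deg χ := by
  simp [deg]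

end NoFin

/-- subtracting a constituent -/
theorem IsChar.sub_irr {θ χ : G → ℂ} (h : IsCharacter G θ) (hχ : IsIrrCharacter G χ) :
    IsCharacter G (θ - ⟪θ, χ⟫ • χ) := by
  apply isChar_of_dot_nat (sub_mem (IsChar.mem_CF h) (Subalgebra.smul_mem _ (IsIrr.mem_CF hχ) _))
  intro ψ hψ
  rw [dot_sub_left, dot_smul_left, IsIrr.dot_eq hχ hψ]
  split_ifs with e
  · exact ⟨0, by simp [e]⟩
  · simpa using IsChar.dot_nat h (IsIrr.isChar hψ)

theorem IsChar.sub_irr' {θ χ : G → ℂ} (h : IsCharacter G θ) (hχ : IsIrrCharacter G χ)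
    (hne : ⟪θ, χ⟫ ≠ 0) : IsCharacter G (θ - χ) := by
  obtain ⟨n, hn⟩ := IsChar.dot_nat h (IsIrr.isChar hχ)
  have h1 := IsChar.sub_irr h hχ
  obtain ⟨m, rfl⟩ := Nat.exists_eq_succ_of_ne_zero (n := n) (by rintro rfl; exact hne (by simpa using hn))
  have := IsChar.add h1 (IsChar.natCast_smul (IsIrr.isChar hχ) m)
  convert this using 1
  rw [hn]; push_cast; module

theorem IsChar.deg_le_of_constt {θ χ : G → ℂ} (h : IsCharacter G θ) (hχ : IsIrrCharacter G χ)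
    (hne : ⟪θ, χ⟫ ≠ 0) : deg χ ≤ deg θ := by
  have h1 := IsChar.coe_deg (IsChar.sub_irr' h hχ hne)
  rw [Pi.sub_apply, ← IsChar.coe_deg h, ← IsIrr.coe_deg hχ, eq_sub_iff_add_eq] at h1
  have : deg (θ - χ) + deg χ = deg θ := by exact_mod_cast h1
  omega

theorem IsChar.eq_of_constt_deg {θ χ : G → ℂ} (h : IsCharacter G θ) (hχ : IsIrrCharacter G χ)
    (hne : ⟪θ, χ⟫ ≠ 0) (h1 : θ 1 = χ 1) : θ = χ := by
  rw [← sub_eq_zero]
  exact IsChar.eq_zero_of_deg (IsChar.sub_irr' h hχ hne) (by simp [h1])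

/-! ### second orthogonality relation -/

theorem second_orth_raw (g h : G) :
    ∑ χ ∈ irr G, χ g * conj (χ h) = Nat.card {y : G // y * h * y⁻¹ = g} := by
  classical
  cases nonempty_fintype G
  let F : G → ℂ := fun x => ∑ y : G, if y * h * y⁻¹ = x then 1 else 0
  have hF : F ∈ CF G := by
    intro x z
    refine (Fintype.sum_equiv (Equiv.mulLeft z) _ _ fun y => ?_).symm
    simp only [Equiv.coe_mulLeft]
    congr 1
    apply propext
    constructor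
    · rintro rfl; group
    · intro e
      have : y * h * y⁻¹ = z⁻¹ * (z * y * h * (z * y)⁻¹) * z := by group
      rw [this, e]; group
  have hd : ∀ χ ∈ irr G, ⟪F, χ⟫ = conj (χ h) := by
    intro χ hχ
    rw [dot_def]
    simp only [F, Finset.sum_mul, ite_mul, one_mul, zero_mul]
    rw [Finset.sum_comm]
    simp only [Finset.sum_ite_eq, Finset.mem_univ, if_true, CF_conj (IsIrr.mem_CF (mem_irr.mp hχ)),
      Finset.sum_const, Finset.card_univ, nsmul_eq_mul, ← Nat.card_eq_fintype_card]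
    rw [← mul_assoc, inv_mul_cancel₀ card_ne_zero, one_mul]
  have := CF_expand_apply hF g
  rw [Finset.sum_congr rfl (fun χ hχ => by rw [hd χ hχ, mul_comm])] at this
  rw [← this]
  simp only [F, Finset.sum_boole, Nat.card_eq_fintype_card, Fintype.card_subtype]

theorem second_orth_not_conj {g h : G} (hn : ¬ IsConj h g) :
    ∑ χ ∈ irr G, χ g * conj (χ h) = 0 := by
  rw [second_orth_raw, Nat.cast_eq_zero]
  haveI : IsEmpty {y : G // y * h * y⁻¹ = g} := ⟨fun y => hn (isConj_iff.mpr ⟨y.1, y.2⟩)⟩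
  exact Nat.card_of_isEmpty

omit [Finite G] in
theorem card_conjugators {g h : G} (hc : IsConj h g) :
    Nat.card {y : G // y * h * y⁻¹ = g} = Nat.card (Subgroup.centralizer ({h} : Set G)) := by
  obtain ⟨x, rfl⟩ := isConj_iff.mp hc
  symm
  refine Nat.card_congr (Equiv.subtypeEquiv (Equiv.mulLeft x) fun y => ?_)
  simp only [Subgroup.mem_centralizer_singleton_iff, Equiv.coe_mulLeft]
  constructor
  · intro e
    rw [mul_assoc x y h, e]; group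
  · intro e
    have : y * h = x⁻¹ * (x * y * h * (x * y)⁻¹) * x * y := by group
    rw [this, e]; group

theorem second_orth_conj {g h : G} (hc : IsConj h g) :
    ∑ χ ∈ irr G, χ g * conj (χ h) = Nat.card (Subgroup.centralizer ({h} : Set G)) := by
  rw [second_orth_raw, card_conjugators hc]

theorem sum_norm_sq_irr (g : G) :
    ∑ χ ∈ irr G, ‖χ g‖ ^ 2 = Nat.card (Subgroup.centralizer ({g} : Set G)) := by
  have := second_orth_conj (IsConj.refl g)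
  simp only [Complex.mul_conj, Complex.normSq_eq_norm_sq] at this
  exact_mod_cast this

theorem sum_deg_mul_irr (g : G) [Decidable (g = 1)] :
    ∑ χ ∈ irr G, χ 1 * χ g = if g = 1 then (Nat.card G : ℂ) else 0 := by
  have h1 : ∑ χ ∈ irr G, χ 1 * χ g = ∑ χ ∈ irr G, χ g * conj (χ 1) :=
    Finset.sum_congr rfl fun χ hχ => by
      rw [IsChar.conj_one (IsIrr.isChar (mem_irr.mp hχ)), mul_comm]
  rw [h1]
  split_ifs with e
  · subst e
    rw [second_orth_conj (IsConj.refl _)]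
    have : Subgroup.centralizer ({1} : Set G) = ⊤ := by
      ext x; simp [Subgroup.mem_centralizer_singleton_iff]
    rw [this, Subgroup.card_top]
  · exact second_orth_not_conj (fun h => e (isConj_one_right.mp h))

variable (G) in
theorem sum_deg_sq : ∑ χ ∈ irr G, deg χ ^ 2 = Nat.card G := by
  classical
  have := sum_deg_mul_irr (1 : G)
  rw [if_pos rfl, Finset.sum_congr rfl (fun χ hχ => by
    rw [← IsIrr.coe_deg (mem_irr.mp hχ), ← sq])] at this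
  exact_mod_cast this

theorem IsIrr.deg_sq_le {χ : G → ℂ} (h : IsIrrCharacter G χ) : deg χ ^ 2 ≤ Nat.card G := by
  rw [← sum_deg_sq G]
  exact Finset.single_le_sum (f := fun χ => deg χ ^ 2) (fun _ _ => Nat.zero_le _) (mem_irr.mpr h)

theorem isConj_of_irr_eq {g h : G} (e : ∀ χ, IsIrrCharacter G χ → χ g = χ h) : IsConj h g := by
  by_contra hn
  have h1 := second_orth_not_conj hn
  rw [Finset.sum_congr rfl (fun χ hχ => by rw [e χ (mem_irr.mp hχ)]),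
    second_orth_conj (IsConj.refl h)] at h1
  exact card_ne_zero h1

theorem exists_irr_ne_deg {g : G} (hg : g ≠ 1) : ∃ χ, IsIrrCharacter G χ ∧ χ g ≠ χ 1 := by
  by_contra h
  push Not at h
  exact hg (isConj_one_right.mp (isConj_of_irr_eq h))

theorem realizeEqns_Char_Irr : True := by
  have := @CA.Chr.ZIrr.eq_1.{0}
  have := @CA.Chr.ZIrr.eq_def.{0}
  have := @CA.Chr.ZIrr.congr_simp.{0}
  have := @CA.Chr.Dirr.eq_1.{0}
  have := @CA.Chr.Dirr.eq_def.{0}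
  have := @CA.Chr.Dirr.congr_simp.{0}
  have := @CA.Chr.zdot.eq_1.{0}
  have := @CA.Chr.zdot.eq_def.{0}
  have := @CA.Chr.zdot.congr_simp.{0}
  have := @CA.Chr.deg.eq_1.{0}
  have := @CA.Chr.deg.eq_def.{0}
  have := @CA.Chr.deg.congr_simp.{0}
  have := @CA.Chr.irr.eq_1.{0}
  have := @CA.Chr.irr.eq_def.{0}
  have := @CA.Chr.irr.congr_simp.{0}
  trivial

end CA.Chr
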