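import Cfsg.Agent.Char.Dot

/-!
# Characters of representations: transfer to coordinate spaces, complete reducibility,
orthogonality and completeness of the irreducible characters
-/

set_option autoImplicit false

open scoped ComplexConjugate
open Cfsg Module

namespace CA.Chr

universe u v

section LinInstances
variable {G : Type*} [Group G]

/-! High priority instances on the group of linear characters, so that the generic group lemmas
can be used with `rw` and `simp`. -/

noncomputable scoped instance (priority := high) instLinCommGroup : CommGroup (G →* ℂˣ) :=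
  MonoidHom.instCommGroup
noncomputable scoped instance (priority := high) instLinMul : Mul (G →* ℂˣ) :=
  (instLinCommGroup (G := G)).toMul
noncomputable scoped instance (priority := high) instLinInv : Inv (G →* ℂˣ) :=
  (instLinCommGroup (G := G)).toInv
noncomputable scoped instance (priority := high) instLinPow : Pow (G →* ℂˣ) ℕ := NPow.toPow
noncomputable scoped instance (priority := high) instLinOne : One (G →* ℂˣ) :=
  (instLinCommGroup (G := G)).toOne

end LinInstances

section Transfer

variable {G : Type*} [Group G] {V : Type*} [AddCommGroup V] [Module ℂ V]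
  {W : Type*} [AddCommGroup W] [Module ℂ W]

/-- transport of a representation along a linear equivalence -/
noncomputable def repConj (ρ : Representation ℂ G V) (e : V ≃ₗ[ℂ] W) : Representation ℂ G W where
  toFun g := e.conj (ρ g)
  map_one' := by ext; simp
  map_mul' g h := by ext; simp [LinearEquiv.conj_apply]

theorem repConj_apply (ρ : Representation ℂ G V) (e : V ≃ₗ[ℂ] W) (g : G) (w : W) :
    repConj ρ e g w = e (ρ g (e.symm w)) := rfl

theorem repConj_character (ρ : Representation ℂ G V) (e : V ≃ₗ[ℂ] W) :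
    (repConj ρ e).character = ρ.character := by
  ext g
  exact LinearMap.trace_conj' (ρ g) e

theorem repConj_det (ρ : Representation ℂ G V) (e : V ≃ₗ[ℂ] W) (g : G) :
    LinearMap.det (repConj ρ e g) = LinearMap.det (ρ g) :=
  LinearMap.det_conj (ρ g) e

/-- order isomorphism of subrepresentation lattices -/
noncomputable def repConjOrderIso (ρ : Representation ℂ G V) (e : V ≃ₗ[ℂ] W) :
    Subrepresentation ρ ≃o Subrepresentation (repConj ρ e) where
  toFun U := ⟨U.toSubmodule.map (e : V →ₗ[ℂ] W), by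
    rintro g _ ⟨v, hv, rfl⟩
    refine ⟨ρ g v, U.apply_mem_toSubmodule g hv, ?_⟩
    simp [repConj_apply]⟩
  invFun U := ⟨U.toSubmodule.comap (e : V →ₗ[ℂ] W), by
    intro g v hv
    have := U.apply_mem_toSubmodule g hv
    simpa [repConj_apply] using this⟩
  left_inv U := by
    apply Subrepresentation.toSubmodule_injective
    exact Submodule.comap_map_eq_of_injective e.injective _
  right_inv U := by
    apply Subrepresentation.toSubmodule_injective
    exact Submodule.map_comap_eq_of_surjective e.surjective _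
  map_rel_iff' {U U'} := Submodule.map_le_map_iff_of_injective e.injective _ _

theorem repConj_irr (ρ : Representation ℂ G V) (e : V ≃ₗ[ℂ] W) (h : ρ.IsIrreducible) :
    (repConj ρ e).IsIrreducible :=
  (repConjOrderIso ρ e).isSimpleOrder_iff.mp h

theorem isCharacter_of_rep [FiniteDimensional ℂ V] (ρ : Representation ℂ G V) :
    IsCharacter G ρ.character :=
  ⟨finrank ℂ V, repConj ρ (Module.finBasis ℂ V).equivFun, repConj_character _ _⟩

theorem isIrr_of_rep [FiniteDimensional ℂ V] (ρ : Representation ℂ G V) (h : ρ.IsIrreducible) :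
    IsIrrCharacter G ρ.character :=
  ⟨finrank ℂ V, repConj ρ (Module.finBasis ℂ V).equivFun, repConj_irr _ _ h,
    repConj_character _ _⟩

theorem conj_prod_compl [FiniteDimensional ℂ V] {ρ : Representation ℂ G V}
    {U U' : Subrepresentation ρ} (h : IsCompl U.toSubmodule U'.toSubmodule) (g : G) :
    ρ g = (Submodule.prodEquivOfIsCompl _ _ h).conj
      ((U.toRepresentation g).prodMap (U'.toRepresentation g)) := by
  set e := Submodule.prodEquivOfIsCompl _ _ h
  ext v
  obtain ⟨⟨a, b⟩, rfl⟩ := e.surjective v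
  rw [LinearEquiv.conj_apply_apply, e.symm_apply_apply]
  simp [e, Submodule.coe_prodEquivOfIsCompl', Subrepresentation.toRepresentation]

theorem character_compl [FiniteDimensional ℂ V] {ρ : Representation ℂ G V}
    {U U' : Subrepresentation ρ} (h : IsCompl U.toSubmodule U'.toSubmodule) :
    ρ.character = U.toRepresentation.character + U'.toRepresentation.character := by
  ext g
  simp only [Representation.character, Pi.add_apply]
  rw [conj_prod_compl h g, LinearMap.trace_conj', LinearMap.trace_prodMap']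

theorem det_compl [FiniteDimensional ℂ V] {ρ : Representation ℂ G V}
    {U U' : Subrepresentation ρ} (h : IsCompl U.toSubmodule U'.toSubmodule) (g : G) :
    LinearMap.det (ρ g) =
      LinearMap.det (U.toRepresentation g) * LinearMap.det (U'.toRepresentation g) := by
  rw [conj_prod_compl h g]
  exact (LinearMap.det_conj ((U.toRepresentation g).prodMap (U'.toRepresentation g))
    (Submodule.prodEquivOfIsCompl _ _ h)).trans
    (LinearMap.det_prodMap (U.toRepresentation g) (U'.toRepresentation g))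

end Transfer

/-- Induction principle (Maschke). -/
theorem rep_induction {G : Type u} [Group G] [Finite G]
    (P : ∀ (V : Type v) [AddCommGroup V] [Module ℂ V], Representation ℂ G V → Prop)
    (h0 : ∀ (V : Type v) [AddCommGroup V] [Module ℂ V] (ρ : Representation ℂ G V),
      Subsingleton V → P V ρ)
    (hirr : ∀ (V : Type v) [AddCommGroup V] [Module ℂ V] [FiniteDimensional ℂ V]
      (ρ : Representation ℂ G V), ρ.IsIrreducible → P V ρ)
    (hsum : ∀ (V : Type v) [AddCommGroup V] [Module ℂ V] [FiniteDimensional ℂ V]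
      (ρ : Representation ℂ G V) (U U' : Subrepresentation ρ),
      IsCompl U.toSubmodule U'.toSubmodule → P _ U.toRepresentation → P _ U'.toRepresentation →
      P V ρ)
    (V : Type v) [AddCommGroup V] [Module ℂ V] [FiniteDimensional ℂ V]
    (ρ : Representation ℂ G V) : P V ρ := by
  induction' hn : finrank ℂ V using Nat.strong_induction_on with n ih generalizing V
  by_cases hs : Subsingleton V
  · exact h0 V ρ hs
  by_cases hi : ρ.IsIrreducible
  · exact hirr V ρ hi
  have hnt : Nontrivial V := not_subsingleton_iff_nontrivial.mp hs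
  have hbt : (⊥ : Subrepresentation ρ) ≠ ⊤ := by
    intro h
    have := congrArg Subrepresentation.toSubmodule h
    exact bot_ne_top (α := Submodule ℂ V) this
  have : ∃ U : Subrepresentation ρ, U ≠ ⊥ ∧ U ≠ ⊤ := by
    by_contra hne
    push Not at hne
    apply hi
    haveI : Nontrivial (Subrepresentation ρ) := ⟨⊥, ⊤, hbt⟩
    exact ⟨fun U => by
      by_cases h : U = ⊥
      · exact Or.inl h
      · exact Or.inr (hne U h)⟩
  obtain ⟨U, hU0, hU1⟩ := this
  haveI : NeZero (Nat.card G : ℂ) := ⟨card_ne_zero⟩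
  obtain ⟨U', hUU'⟩ := exists_isCompl U
  have hc : IsCompl U.toSubmodule U'.toSubmodule := by
    constructor
    · rw [disjoint_iff]
      exact congrArg Subrepresentation.toSubmodule hUU'.inf_eq_bot
    · rw [codisjoint_iff]
      exact congrArg Subrepresentation.toSubmodule hUU'.sup_eq_top
  have hlt : ∀ X : Subrepresentation ρ, X ≠ ⊤ → finrank ℂ X.toSubmodule < n := by
    intro X hX
    rw [← hn]
    apply Submodule.finrank_lt
    intro h
    exact hX (Subrepresentation.toSubmodule_injective h)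
  have hU'1 : U' ≠ ⊤ := by
    rintro rfl
    exact hU0 (by simpa using hUU'.inf_eq_bot)
  exact hsum V ρ U U' hc (ih _ (hlt U hU1) _ _ rfl) (ih _ (hlt U' hU'1) _ _ rfl)

section Chars

variable {G : Type u} [Group G]

theorem IsIrr.isChar {χ : G → ℂ} (h : IsIrrCharacter G χ) : IsCharacter G χ := by
  obtain ⟨n, ρ, -, h⟩ := h
  exact ⟨n, ρ, h⟩

theorem IsChar.mem_CF {χ : G → ℂ} (h : IsCharacter G χ) : χ ∈ CF G := by
  obtain ⟨n, ρ, rfl⟩ := h
  exact fun g x => ρ.char_conj g x

theorem IsChar.zero : IsCharacter G 0 := by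
  refine ⟨0, 1, ?_⟩
  ext g
  simp [Representation.character]

theorem IsChar.add {χ ψ : G → ℂ} (h : IsCharacter G χ) (h' : IsCharacter G ψ) :
    IsCharacter G (χ + ψ) := by
  obtain ⟨n, ρ, rfl⟩ := h
  obtain ⟨m, σ, rfl⟩ := h'
  have := isCharacter_of_rep (ρ.prod σ)
  convert this using 1
  ext g
  simp only [Representation.character, Pi.add_apply]
  rw [← LinearMap.trace_prodMap']
  rfl

theorem IsChar.mul {χ ψ : G → ℂ} (h : IsCharacter G χ) (h' : IsCharacter G ψ) :
    IsCharacter G (χ * ψ) := by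
  obtain ⟨n, ρ, rfl⟩ := h
  obtain ⟨m, σ, rfl⟩ := h'
  rw [← Representation.char_tensor]
  exact isCharacter_of_rep _

theorem IsChar.comp {H : Type*} [Group H] {χ : G → ℂ} (h : IsCharacter G χ) (f : H →* G) :
    IsCharacter H (χ ∘ f) := by
  obtain ⟨n, ρ, rfl⟩ := h
  exact ⟨n, ρ.comp f, rfl⟩

theorem IsChar.sum {ι : Type*} (s : Finset ι) {χ : ι → G → ℂ} (h : ∀ i ∈ s, IsCharacter G (χ i)) :
    IsCharacter G (∑ i ∈ s, χ i) :=
  Finset.sum_induction _ _ (fun _ _ => IsChar.add) IsChar.zero h

theorem IsChar.nsmul {χ : G → ℂ} (h : IsCharacter G χ) (n : ℕ) : IsCharacter G (n • χ) := by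
  induction n with
  | zero => simpa using IsChar.zero
  | succ n ih => rw [succ_nsmul]; exact IsChar.add ih h

theorem IsChar.natCast_smul {χ : G → ℂ} (h : IsCharacter G χ) (n : ℕ) :
    IsCharacter G ((n : ℂ) • χ) := by
  rw [Nat.cast_smul_eq_nsmul]; exact IsChar.nsmul h n

theorem IsChar.exists_deg {χ : G → ℂ} (h : IsCharacter G χ) : ∃ n : ℕ, χ 1 = n := by
  obtain ⟨n, ρ, rfl⟩ := h
  exact ⟨_, ρ.char_one⟩

theorem IsChar.eq_zero_of_deg {χ : G → ℂ} (h : IsCharacter G χ) (h1 : χ 1 = 0) : χ = 0 := by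
  obtain ⟨n, ρ, rfl⟩ := h
  rw [ρ.char_one, Nat.cast_eq_zero, Module.finrank_zero_iff] at h1
  ext g
  simp [Representation.character, Subsingleton.elim (ρ g) 0]

theorem IsChar.inv {χ : G → ℂ} (h : IsCharacter G χ) : IsCharacter G (fun g => χ g⁻¹) := by
  obtain ⟨n, ρ, rfl⟩ := h
  have := isCharacter_of_rep ρ.dual
  convert this using 1
  ext g
  rw [Representation.char_dual]

theorem IsIrr.exists_deg {χ : G → ℂ} (h : IsIrrCharacter G χ) : ∃ n : ℕ, 0 < n ∧ χ 1 = n := by
  obtain ⟨n, ρ, hρ, rfl⟩ := h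
  refine ⟨n, ?_, by simp⟩
  rcases Nat.eq_zero_or_pos n with rfl | h
  · exfalso
    have : (⊥ : Subrepresentation ρ) = ⊤ :=
      Subrepresentation.toSubmodule_injective (Subsingleton.elim _ _)
    exact bot_ne_top this
  · exact h

theorem IsIrr.deg_ne_zero {χ : G → ℂ} (h : IsIrrCharacter G χ) : χ 1 ≠ 0 := by
  obtain ⟨n, hn, h⟩ := IsIrr.exists_deg h
  rw [h]; exact Nat.cast_ne_zero.mpr hn.ne'

theorem IsIrr.ne_zero {χ : G → ℂ} (h : IsIrrCharacter G χ) : χ ≠ 0 :=
  fun e => IsIrr.deg_ne_zero h (by simp [e])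

/-- a linear character as a function -/
def lin (l : G →* ℂˣ) : G → ℂ := fun g => (l g : ℂ)

@[simp] theorem lin_apply (l : G →* ℂˣ) (g : G) : lin l g = (l g : ℂ) := rfl

theorem lin_mul (l l' : G →* ℂˣ) : lin (l * l') = lin l * lin l' := by ext; simp

@[simp] theorem lin_one : lin (1 : G →* ℂˣ) = 1 := by ext; simp

theorem lin_injective : Function.Injective (lin : (G →* ℂˣ) → G → ℂ) := by
  intro a b h
  ext g
  exact congrFun h g

@[simp] theorem lin_inj {a b : G →* ℂˣ} : lin a = lin b ↔ a = b := lin_injective.eq_iff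

theorem lin_comp {H : Type*} [Group H] (l : G →* ℂˣ) (f : H →* G) :
    lin (l.comp f) = lin l ∘ f := rfl

theorem lin_map_mul (l : G →* ℂˣ) (g h : G) : lin l (g * h) = lin l g * lin l h := by simp

/-- the one-dimensional representation attached to a linear character -/
noncomputable def linRep (l : G →* ℂˣ) : Representation ℂ G ℂ where
  toFun g := (l g : ℂ) • LinearMap.id
  map_one' := by ext; simp
  map_mul' g h := by ext; simp [mul_comm]

theorem lin_irr (l : G →* ℂˣ) : IsIrrCharacter G (lin l) := by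
  have h : (linRep l).IsIrreducible := by
    haveI : Nontrivial (Subrepresentation (linRep l)) := ⟨⊥, ⊤, fun h =>
      bot_ne_top (α := Submodule ℂ ℂ) (congrArg Subrepresentation.toSubmodule h)⟩
    refine ⟨fun U => ?_⟩
    rcases eq_bot_or_eq_top U.toSubmodule with h | h
    · exact Or.inl (Subrepresentation.toSubmodule_injective h)
    · exact Or.inr (Subrepresentation.toSubmodule_injective h)
  have := isIrr_of_rep _ h
  convert this using 1
  ext g
  simp [Representation.character, linRep]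

theorem one_irr : IsIrrCharacter G 1 := by simpa using lin_irr (1 : G →* ℂˣ)

theorem IsChar.one : IsCharacter G 1 := IsIrr.isChar one_irr

/-- the determinant of a representation as a linear character -/
noncomputable def repDet {V : Type*} [AddCommGroup V] [Module ℂ V] (ρ : Representation ℂ G V) :
    G →* ℂˣ := (LinearMap.det.comp ρ).toHomUnits

theorem repDet_apply {V : Type*} [AddCommGroup V] [Module ℂ V] (ρ : Representation ℂ G V) (g : G) :
    (repDet ρ g : ℂ) = LinearMap.det (ρ g) := rfl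

theorem character_eq_det_of_finrank_one {V : Type*} [AddCommGroup V] [Module ℂ V]
    [FiniteDimensional ℂ V] (ρ : Representation ℂ G V) (h : finrank ℂ V = 1) :
    ρ.character = lin (repDet ρ) := by
  ext g
  let b : Basis (Fin 1) ℂ V := Module.finBasisOfFinrankEq ℂ V h
  rw [lin_apply, repDet_apply, Representation.character, LinearMap.trace_eq_matrix_trace ℂ b,
    ← LinearMap.det_toMatrix b, Matrix.trace_fin_one, Matrix.det_fin_one]

theorem IsChar.exists_lin_of_deg_one {χ : G → ℂ} (h : IsCharacter G χ) (h1 : χ 1 = 1) :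
    ∃ l : G →* ℂˣ, χ = lin l := by
  obtain ⟨n, ρ, rfl⟩ := h
  rw [ρ.char_one, Nat.cast_eq_one] at h1
  exact ⟨_, character_eq_det_of_finrank_one ρ h1⟩

theorem IsIrr.exists_lin [IsMulCommutative G] {χ : G → ℂ} (h : IsIrrCharacter G χ) :
    ∃ l : G →* ℂˣ, χ = lin l := by
  obtain ⟨n, ρ, hρ, rfl⟩ := h
  exact ⟨_, character_eq_det_of_finrank_one ρ (hρ.finrank_eq_one_of_isMulCommutative ρ)⟩

variable [Finite G]

theorem rep_exists_multiset_irr {V : Type v} [AddCommGroup V] [Module ℂ V] [FiniteDimensional ℂ V]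
    (ρ : Representation ℂ G V) :
    ∃ s : Multiset (G → ℂ), (∀ χ ∈ s, IsIrrCharacter G χ) ∧ ρ.character = s.sum := by
  refine rep_induction (G := G) (fun V _ _ ρ =>
    ∃ s : Multiset (G → ℂ), (∀ χ ∈ s, IsIrrCharacter G χ) ∧ ρ.character = s.sum) ?_ ?_ ?_ V ρ
  · intro V _ _ ρ hV
    refine ⟨0, by simp, ?_⟩
    ext g
    simp [Representation.character, Subsingleton.elim (ρ g) 0]
  · intro V _ _ _ ρ hρ
    exact ⟨{ρ.character}, by simpa using isIrr_of_rep ρ hρ, by simp⟩
  · rintro V _ _ _ ρ U U' h ⟨s, hs, e⟩ ⟨s', hs', e'⟩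
    refine ⟨s + s', ?_, by rw [character_compl h, e, e', Multiset.sum_add]⟩
    intro χ hχ
    rcases Multiset.mem_add.mp hχ with h | h
    exacts [hs χ h, hs' χ h]

theorem IsChar.exists_multiset {χ : G → ℂ} (h : IsCharacter G χ) :
    ∃ s : Multiset (G → ℂ), (∀ χ ∈ s, IsIrrCharacter G χ) ∧ χ = s.sum := by
  obtain ⟨n, ρ, rfl⟩ := h
  exact rep_exists_multiset_irr ρ

theorem rep_exists_multiset_lin [IsMulCommutative G] {V : Type v} [AddCommGroup V] [Module ℂ V]
    [FiniteDimensional ℂ V] (ρ : Representation ℂ G V) :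
    ∃ s : Multiset (G →* ℂˣ), ρ.character = (s.map lin).sum ∧ repDet ρ = s.prod ∧
      ∀ g, ((∀ l ∈ s, l g = 1) → ρ g = 1) := by
  refine rep_induction (G := G) (fun V _ _ ρ =>
    ∃ s : Multiset (G →* ℂˣ), ρ.character = (s.map lin).sum ∧ repDet ρ = s.prod ∧
      ∀ g, ((∀ l ∈ s, l g = 1) → ρ g = 1)) ?_ ?_ ?_ V ρ
  · intro V _ _ ρ hV
    refine ⟨0, ?_, ?_, fun g _ => Subsingleton.elim _ _⟩
    · ext g
      simp [Representation.character, Subsingleton.elim (ρ g) 0]
    · ext g
      simp [repDet_apply, Subsingleton.elim (ρ g) 1]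
  · intro V _ _ _ ρ hρ
    have h1 := hρ.finrank_eq_one_of_isMulCommutative ρ
    refine ⟨{repDet ρ}, by simpa using character_eq_det_of_finrank_one ρ h1, by simp, ?_⟩
    intro g hg
    have hd : LinearMap.det (ρ g) = 1 := by
      have := hg _ (Multiset.mem_singleton_self _)
      rw [← repDet_apply, this]; rfl
    let b : Basis (Fin 1) ℂ V := Module.finBasisOfFinrankEq ℂ V h1
    apply (LinearMap.toMatrix b b).injective
    rw [← LinearMap.det_toMatrix b, Matrix.det_fin_one] at hd
    ext i j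
    rw [Subsingleton.elim i 0, Subsingleton.elim j 0, hd, LinearMap.toMatrix_one]
    simp
  · rintro V _ _ _ ρ U U' h ⟨s, e, d, k⟩ ⟨s', e', d', k'⟩
    refine ⟨s + s', by rw [character_compl h, e, e', Multiset.map_add, Multiset.sum_add], ?_, ?_⟩
    · ext g
      rw [Multiset.prod_add, ← d, ← d', repDet_apply, det_compl h]
      rfl
    · intro g hg
      rw [conj_prod_compl h g, k g (fun l hl => hg l (Multiset.mem_add.mpr (Or.inl hl))),
        k' g (fun l hl => hg l (Multiset.mem_add.mpr (Or.inr hl)))]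
      ext v
      rw [LinearEquiv.conj_apply_apply]
      exact LinearEquiv.apply_symm_apply _ v

theorem lin_pow_card (l : G →* ℂˣ) (g : G) : lin l g ^ Nat.card G = 1 := by
  rw [lin_apply, ← Units.val_pow_eq_pow_val, ← map_pow, pow_card_eq_one', map_one, Units.val_one]

omit [Finite G] in
theorem lin_pow_orderOf (l : G →* ℂˣ) (g : G) : lin l g ^ orderOf g = 1 := by
  rw [lin_apply, ← Units.val_pow_eq_pow_val, ← map_pow, pow_orderOf_eq_one, map_one, Units.val_one]

theorem norm_lin (l : G →* ℂˣ) (g : G) : ‖lin l g‖ = 1 :=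
  Complex.norm_eq_one_of_pow_eq_one (lin_pow_card l g) Nat.card_pos.ne'

theorem lin_inv_apply (l : G →* ℂˣ) (g : G) : lin l g⁻¹ = conj (lin l g) := by
  rw [← Complex.inv_eq_conj (norm_lin l g)]; simp

theorem lin_inv (l : G →* ℂˣ) : lin l⁻¹ = conjFun (lin l) := by
  ext g
  rw [conjFun_apply, ← lin_inv_apply]; simp

/-- restriction of a character along a homomorphism from a commutative group -/
theorem IsChar.exists_multiset_lin {A : Type*} [Group A] [Finite A] [IsMulCommutative A]
    {G : Type*} [Group G] {χ : G → ℂ} (h : IsCharacter G χ) (f : A →* G) :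
    ∃ s : Multiset (A →* ℂˣ), χ 1 = s.card ∧ ∀ a, χ (f a) = (s.map fun l => (l a : ℂ)).sum := by
  obtain ⟨n, ρ, rfl⟩ := h
  obtain ⟨s, hs, -⟩ := rep_exists_multiset_lin (G := A) (ρ.comp f)
  have key : ∀ a, ρ.character (f a) = (s.map fun l => (l a : ℂ)).sum := by
    intro a
    have := congrFun hs a
    rw [Pi.multiset_sum_apply, Multiset.map_map] at this
    exact this
  refine ⟨s, ?_, key⟩
  have := key 1
  simpa using this

theorem IsChar.apply_inv {χ : G → ℂ} (h : IsCharacter G χ) (g : G) : χ g⁻¹ = conj (χ g) := by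
  obtain ⟨s, -, hs⟩ := IsChar.exists_multiset_lin h (Subgroup.zpowers g).subtype
  have h1 := hs ⟨g, Subgroup.mem_zpowers g⟩
  have h2 := hs (⟨g, Subgroup.mem_zpowers g⟩⁻¹)
  simp only [Subgroup.coe_subtype, InvMemClass.coe_inv] at h1 h2
  rw [h1, h2, map_multiset_sum, Multiset.map_map]
  congr 1
  exact Multiset.map_congr rfl fun l _ => lin_inv_apply l _

theorem IsChar.conjFun {χ : G → ℂ} (h : IsCharacter G χ) : IsCharacter G (conjFun χ) := by
  have := IsChar.inv h
  convert this using 1
  ext g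
  rw [IsChar.apply_inv h, conjFun_apply]

theorem IsChar.dot_eq_inv {ψ : G → ℂ} (h : IsCharacter G ψ) [Fintype G] (χ : G → ℂ) :
    ⟪χ, ψ⟫ = (Nat.card G : ℂ)⁻¹ * ∑ g : G, χ g * ψ g⁻¹ := by
  simp only [dot_def, IsChar.apply_inv h]

theorem IsChar.dot_nat {χ ψ : G → ℂ} (h : IsCharacter G χ) (h' : IsCharacter G ψ) :
    ∃ n : ℕ, ⟪χ, ψ⟫ = n := by
  cases nonempty_fintype G
  rw [IsChar.dot_eq_inv h']
  obtain ⟨n, ρ, rfl⟩ := h
  obtain ⟨m, σ, rfl⟩ := h'
  haveI : Invertible (Nat.card G : ℂ) := invertibleOfNonzero card_ne_zero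
  exact ⟨_, Representation.card_inv_mul_sum_char_mul_char_eq_finrank σ ρ⟩

open Classical in
theorem IsIrr.dot_eq {χ ψ : G → ℂ} (h : IsIrrCharacter G χ) (h' : IsIrrCharacter G ψ) :
    ⟪χ, ψ⟫ = if χ = ψ then 1 else 0 := by
  cases nonempty_fintype G
  rw [IsChar.dot_eq_inv (IsIrr.isChar h')]
  haveI : Invertible (Nat.card G : ℂ) := invertibleOfNonzero card_ne_zero
  obtain ⟨n, ρ, hρ, rfl⟩ := h
  split_ifs with e
  · subst e
    rw [Representation.char_orthonormal, if_pos ⟨Representation.Equiv.refl ρ⟩]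
  · obtain ⟨m, σ, hσ, rfl⟩ := h'
    rw [Representation.char_orthonormal, if_neg]
    rintro ⟨φ⟩
    exact e (Representation.char_iso φ).symm

theorem IsIrr.dot_self {χ : G → ℂ} (h : IsIrrCharacter G χ) : ⟪χ, χ⟫ = 1 := by
  rw [IsIrr.dot_eq h h, if_pos rfl]

theorem IsIrr.nrm {χ : G → ℂ} (h : IsIrrCharacter G χ) : nrm χ = 1 :=
  nrm_eq_of_dot (by simpa using IsIrr.dot_self h)

theorem IsIrr.dot_ne {χ ψ : G → ℂ} (h : IsIrrCharacter G χ) (h' : IsIrrCharacter G ψ)
    (hne : χ ≠ ψ) : ⟪χ, ψ⟫ = 0 := by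
  rw [IsIrr.dot_eq h h', if_neg hne]

theorem IsIrr.eq_of_dot_ne_zero {χ ψ : G → ℂ} (h : IsIrrCharacter G χ) (h' : IsIrrCharacter G ψ)
    (hne : ⟪χ, ψ⟫ ≠ 0) : χ = ψ := by
  by_contra e
  exact hne (IsIrr.dot_ne h h' e)

/-- Schur's lemma for a class function. -/
theorem sum_smul_rep_eq {V : Type*} [AddCommGroup V] [Module ℂ V] [FiniteDimensional ℂ V]
    [Fintype G] (ρ : Representation ℂ G V) (hρ : ρ.IsIrreducible) {f : G → ℂ} (hf : f ∈ CF G) :
    ∃ c : ℂ, ∑ g, f g • ρ g = c • LinearMap.id ∧
      c * ρ.character 1 = ∑ g, f g * ρ.character g := by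
  let T : Representation.IntertwiningMap ρ ρ :=
    { toLinearMap := ∑ g, f g • ρ g
      isIntertwining' := by
        intro h
        ext v
        simp only [LinearMap.coe_comp, Function.comp_apply, LinearMap.sum_apply,
          LinearMap.smul_apply, map_sum, map_smul]
        refine (Fintype.sum_equiv (MulAut.conj h).toEquiv _ _ fun g => ?_).symm
        simp only [MulEquiv.toEquiv_eq_coe, EquivLike.coe_coe, MulAut.conj_apply, CF_conj hf]
        rw [← Module.End.mul_apply, ← Module.End.mul_apply, ← map_mul, ← map_mul]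
        simp }
  obtain ⟨c, hc⟩ := (Representation.IsIrreducible.algebraMap_intertwiningMap_bijective_of_isAlgClosed
    (ρ := ρ)).2 T
  have h1 : ∑ g, f g • ρ g = c • LinearMap.id := by
    have := congrArg Representation.IntertwiningMap.toLinearMap hc
    exact this.symm
  refine ⟨c, h1, ?_⟩
  have := congrArg (LinearMap.trace ℂ V) h1
  simp only [map_sum, map_smul, smul_eq_mul, LinearMap.trace_id] at this
  rw [ρ.char_one, ← this]
  rfl

/-- the regular representation on functions -/
def regRep (G : Type*) [Group G] : Representation ℂ G (G → ℂ) where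
  toFun g := LinearMap.funLeft ℂ ℂ (fun x => g⁻¹ * x)
  map_one' := by ext; simp
  map_mul' g h := by ext; simp [LinearMap.funLeft_apply, mul_assoc]

omit [Finite G] in
theorem regRep_apply (g : G) (φ : G → ℂ) (x : G) : regRep G g φ x = φ (g⁻¹ * x) := rfl

theorem CF_eq_zero_of_orth {f : G → ℂ} (hf : f ∈ CF G)
    (h : ∀ χ, IsIrrCharacter G χ → ⟪f, χ⟫ = 0) : f = 0 := by
  classical
  cases nonempty_fintype G
  have hf' : conjFun f ∈ CF G := CF_conjFun hf
  have key : ∀ (V : Type u) [AddCommGroup V] [Module ℂ V] [FiniteDimensional ℂ V]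
      (ρ : Representation ℂ G V), ∑ g, conjFun f g • ρ g = 0 := by
    intro V _ _ _ ρ
    refine rep_induction (G := G) (fun V _ _ ρ => ∑ g, conjFun f g • ρ g = 0) ?_ ?_ ?_ V ρ
    · intro V _ _ ρ hV
      exact Subsingleton.elim _ _
    · intro V _ _ _ ρ hρ
      obtain ⟨c, hc, hc'⟩ := sum_smul_rep_eq ρ hρ hf'
      have h0 := dot_comm_zero (h _ (isIrr_of_rep ρ hρ))
      rw [dot_def, mul_eq_zero] at h0
      have h1 : ∑ g, conjFun f g * ρ.character g = 0 := by
        rcases h0 with h0 | h0
        · exact absurd (inv_eq_zero.mp h0) card_ne_zero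
        · rw [← h0]; exact Finset.sum_congr rfl fun g _ => mul_comm _ _
      rw [h1, mul_eq_zero] at hc'
      rcases hc' with hc' | hc'
      · rw [hc, hc', zero_smul]
      · exact absurd hc' (IsIrr.deg_ne_zero (isIrr_of_rep ρ hρ))
    · intro V _ _ _ ρ U U' hc h1 h2
      ext v
      obtain ⟨⟨a, b⟩, rfl⟩ := (Submodule.prodEquivOfIsCompl _ _ hc).surjective v
      rw [Submodule.coe_prodEquivOfIsCompl', map_add]
      have e1 := congrArg Subtype.val (LinearMap.congr_fun h1 a)
      have e2 := congrArg Subtype.val (LinearMap.congr_fun h2 b)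
      simp only [LinearMap.sum_apply, LinearMap.smul_apply, AddSubmonoidClass.coe_finset_sum,
        SetLike.val_smul, LinearMap.zero_apply, ZeroMemClass.coe_zero] at e1 e2 ⊢
      erw [e1, e2, add_zero]
  have h1 := key _ (regRep G)
  ext g
  have h2 := congrFun (LinearMap.congr_fun h1 (Pi.single 1 1)) g
  simp only [LinearMap.sum_apply, LinearMap.smul_apply, Finset.sum_apply, Pi.smul_apply,
    regRep_apply, smul_eq_mul, LinearMap.zero_apply, Pi.zero_apply] at h2
  rw [Finset.sum_eq_single g] at h2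
  · simpa using h2
  · intro b _ hb
    rw [Pi.single_eq_of_ne, mul_zero]
    intro e
    exact hb (inv_mul_eq_one.mp e)
  · simp

end Chars

theorem realizeEqns_Char_Rep : True := by
  have := @CA.Chr.instLinMul.eq_1.{0}
  have := @CA.Chr.instLinMul.eq_def.{0}
  have := @CA.Chr.instLinMul.congr_simp.{0}
  have := @CA.Chr.instLinCommGroup.eq_1.{0}
  have := @CA.Chr.instLinCommGroup.eq_def.{0}
  have := @CA.Chr.instLinCommGroup.congr_simp.{0}
  have := @CA.Chr.instLinOne.eq_1.{0}
  have := @CA.Chr.instLinOne.eq_def.{0}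
  have := @CA.Chr.instLinOne.congr_simp.{0}
  have := @CA.Chr.linRep.eq_1.{0}
  have := @CA.Chr.linRep.eq_def.{0}
  have := @CA.Chr.linRep.congr_simp.{0}
  have := @CA.Chr.repConjOrderIso.eq_1.{0,0,0}
  have := @CA.Chr.repConjOrderIso.eq_def.{0,0,0}
  have := @CA.Chr.repConjOrderIso.congr_simp.{0,0,0}
  have := @CA.Chr.repConj.eq_1.{0,0,0}
  have := @CA.Chr.repConj.eq_def.{0,0,0}
  have := @CA.Chr.repConj.congr_simp.{0,0,0}
  have := @CA.Chr.instLinInv.eq_1.{0}
  have := @CA.Chr.instLinInv.eq_def.{0}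
  have := @CA.Chr.instLinInv.congr_simp.{0}
  have := @CA.Chr.lin.eq_1.{0}
  have := @CA.Chr.lin.eq_def.{0}
  have := @CA.Chr.lin.congr_simp.{0}
  have := @CA.Chr.repDet.eq_1.{0,0}
  have := @CA.Chr.repDet.eq_def.{0,0}
  have := @CA.Chr.repDet.congr_simp.{0,0}
  have := @CA.Chr.instLinPow.eq_1.{0}
  have := @CA.Chr.instLinPow.eq_def.{0}
  have := @CA.Chr.instLinPow.congr_simp.{0}
  have := @CA.Chr.regRep.eq_1.{0}
  have := @CA.Chr.regRep.eq_def.{0}
  have := @CA.Chr.regRep.congr_simp.{0}
  trivial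

end CA.Chr
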